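import Groth.Prelude.Def_W4bk5brsh7111920
import Mathlib.RingTheory.Spectrum.Prime.Topology

set_option autoImplicit false

universe u

namespace Groth.Agent.LC17

variable {R : Type u} [CommRing R]

noncomputable def zeroLocusHomeo (I : Ideal R) :
    PrimeSpectrum (R ⧸ I) ≃ₜ ↥(PrimeSpectrum.zeroLocus (R := R) (I : Set R)) :=
  have h := PrimeSpectrum.isClosedEmbedding_comap_of_surjective (R ⧸ I) (Ideal.Quotient.mk I)
    Ideal.Quotient.mk_surjective
  h.isEmbedding.toHomeomorph.trans (Homeomorph.setCongr (by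
    rw [range_comap_of_surjective _ _ Ideal.Quotient.mk_surjective, Ideal.mk_ker]))

lemma dim_zeroLocus (I : Ideal R) :
    topologicalKrullDim ↥(PrimeSpectrum.zeroLocus (R := R) (I : Set R)) = ringKrullDim (R ⧸ I) := by
  rw [← IsHomeomorph.topologicalKrullDim_eq _ (zeroLocusHomeo I).isHomeomorph,
    PrimeSpectrum.topologicalKrullDim_eq_ringKrullDim]

end Groth.Agent.LC17
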