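import Mathlib.RingTheory.Length
import Mathlib.RingTheory.Support
import Mathlib.RingTheory.Ideal.AssociatedPrime.Finiteness
import Mathlib.RingTheory.KrullDimension.Regular
import Mathlib.RingTheory.HopkinsLevitzki
import Mathlib.RingTheory.Regular.RegularSequence

set_option autoImplicit false

universe u

open scoped Pointwise

namespace Groth.Agent.LC17

variable {A : Type u} [CommRing A]
variable {M N : Type u} [AddCommGroup M] [Module A M] [AddCommGroup N] [Module A N]

/-- every prime in the support of `M` containing the ideal of `l` is maximal -/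
def Good (l : List A) (M : Type u) [AddCommGroup M] [Module A M] : Prop :=
  ∀ p ∈ Module.support A M, Ideal.ofList l ≤ p.asIdeal → p.asIdeal.IsMaximal

lemma length_ne_top_of_support [IsNoetherianRing A] [Module.Finite A N]
    (h : ∀ p ∈ Module.support A N, p.asIdeal.IsMaximal) : Module.length A N ≠ ⊤ := by
  induction ‹Module.Finite A N› using IsNoetherianRing.induction_on_isQuotientEquivQuotientPrime A with
  | subsingleton N => simp [Module.length_eq_zero]
  | quotient N p e =>
    have hp : p ∈ Module.support A N := by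
      rw [e.support_eq, Module.mem_support_iff_of_finite, Ideal.annihilator_quotient]
    have := h p hp
    have hsimp : IsSimpleModule A (A ⧸ p.asIdeal) :=
      isSimpleModule_iff_isCoatom.mpr (Ideal.isMaximal_def.mp this)
    rw [e.length_eq, Module.length_eq_one]
    exact ENat.one_ne_top
  | exact N₁ N₂ N₃ f g hf hg hfg ih₁ ih₃ =>
    rw [Module.support_of_exact hfg hf hg] at h
    rw [Module.length_eq_add_of_exact f g hf hg hfg]
    simp [ih₁ fun p hp => h p (Or.inl hp), ih₃ fun p hp => h p (Or.inr hp)]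

lemma isMaximal_of_mem_support [IsNoetherianRing A] (h : IsFiniteLength A N) {p : PrimeSpectrum A}
    (hp : p ∈ Module.support A N) : p.asIdeal.IsMaximal := by
  obtain ⟨m, hm⟩ := Module.mem_support_iff_exists_annihilator.mp hp
  have h1 : IsFiniteLength A (A ⧸ LinearMap.ker (LinearMap.toSpanSingleton A N m)) :=
    IsFiniteLength.of_injective (f := Submodule.liftQ _ (LinearMap.toSpanSingleton A N m) le_rfl) h
      (LinearMap.ker_eq_bot.mp (Submodule.ker_liftQ_eq_bot' _ _ rfl))
  have hle : LinearMap.ker (LinearMap.toSpanSingleton A N m) ≤ p.asIdeal := fun a ha =>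
    hm ((Submodule.mem_annihilator_span_singleton _ _).mpr ha)
  have h2 : IsFiniteLength A (A ⧸ p.asIdeal) :=
    h1.of_surjective (f := Submodule.factor hle) (Submodule.factor_surjective hle)
  have h3 : IsArtinian A (A ⧸ p.asIdeal) := (isFiniteLength_iff_isNoetherian_isArtinian.mp h2).2
  have h4 : IsArtinianRing (A ⧸ p.asIdeal) := isArtinian_of_tower A h3
  exact Ideal.Quotient.maximal_of_isField _ (IsArtinianRing.isField_of_isDomain _)

lemma good_iff [IsNoetherianRing A] [Module.Finite A M] (l : List A) :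
    Good l M ↔ IsFiniteLength A (M ⧸ (Ideal.ofList l • (⊤ : Submodule A M))) := by
  have hs : ∀ p : PrimeSpectrum A, p ∈ Module.support A (M ⧸ (Ideal.ofList l • (⊤ : Submodule A M))) ↔
      p ∈ Module.support A M ∧ Ideal.ofList l ≤ p.asIdeal := fun p => by
    rw [Module.support_quotient]; rfl
  refine ⟨fun h => ?_, fun h p hp hl => isMaximal_of_mem_support h ((hs p).mpr ⟨hp, hl⟩)⟩
  rw [← Module.length_ne_top_iff]
  exact length_ne_top_of_support fun p hp => h p ((hs p).mp hp).1 ((hs p).mp hp).2

lemma Good.mono {l : List A} (h : Good l M) (hs : Module.support A N ⊆ Module.support A M) :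
    Good l N := fun p hp hl => h p (hs hp) hl

lemma Good.of_le {l l' : List A} (h : Good l M)
    (hl : ∀ p : PrimeSpectrum A, Ideal.ofList l' ≤ p.asIdeal → Ideal.ofList l ≤ p.asIdeal) :
    Good l' M := fun p hp hl' => h p hp (hl p hl')

lemma Good.perm {l l' : List A} (h : Good l M) (hl : l.Perm l') : Good l' M :=
  h.of_le fun p hp => by
    rw [Ideal.ofList, Ideal.span_le] at hp ⊢
    exact fun a ha => hp (hl.mem_iff.mp ha)

lemma ofList_map_pow_le {l : List A} {p : Ideal A} [p.IsPrime] {n : ℕ}
    (h : Ideal.ofList (l.map (· ^ n)) ≤ p) : Ideal.ofList l ≤ p := by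
  rw [Ideal.ofList, Ideal.span_le]
  intro a ha
  exact Ideal.IsPrime.mem_of_pow_mem ‹_› n (h (Ideal.subset_span (List.mem_map.mpr ⟨a, ha, rfl⟩)))

lemma Good.pow {l : List A} (h : Good l M) (n : ℕ) : Good (l.map (· ^ n)) M :=
  h.of_le fun p hp => ofList_map_pow_le hp

lemma support_quotSMulTop_mem (f : A) [Module.Finite A M] (p : PrimeSpectrum A) :
    p ∈ Module.support A (QuotSMulTop f M) ↔ p ∈ Module.support A M ∧ f ∈ p.asIdeal := by
  rw [Module.support_quotSMulTop]; simp [PrimeSpectrum.mem_zeroLocus]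

lemma Good.tail {f : A} {l : List A} (h : Good (f :: l) M) [Module.Finite A M] :
    Good l (QuotSMulTop f M) := fun p hp hl => by
  obtain ⟨hp, hf⟩ := (support_quotSMulTop_mem f p).mp hp
  refine h p hp ?_
  rw [Ideal.ofList_cons]
  exact sup_le ((Ideal.span_singleton_le_iff_mem _).mpr hf) hl

lemma dim_add_one_le_cancel {a : WithBot ℕ∞} {n : ℕ} (h : a + 1 ≤ ((n + 1 : ℕ) : WithBot ℕ∞)) :
    a ≤ (n : WithBot ℕ∞) := by
  cases a with
  | bot => exact bot_le
  | coe a =>
    have h' : a + 1 ≤ ((n + 1 : ℕ) : ℕ∞) := WithBot.coe_le_coe.mp h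
    push_cast at h'
    exact WithBot.coe_le_coe.mpr ((WithTop.add_le_add_iff_right (by exact WithTop.one_ne_top)).mp h')

lemma supportDim_nonpos [IsNoetherianRing A] (h : ∀ p ∈ Module.support A M, p.asIdeal.IsMaximal) :
    Module.supportDim A M ≤ 0 :=
  Order.krullDim_nonpos_iff_forall_isMax.mpr fun p q hpq =>
    (show q.1.asIdeal ≤ p.1.asIdeal from ((h p.1 p.2).eq_of_le q.1.2.ne_top hpq).ge)

lemma Good.supportDim_le [IsNoetherianRing A] [IsLocalRing A] : ∀ (l : List A)
    (M : Type u) [AddCommGroup M] [Module A M] [Module.Finite A M], Good l M →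
    (∀ a ∈ l, a ∈ IsLocalRing.maximalIdeal A) → Module.supportDim A M ≤ (l.length : WithBot ℕ∞)
  | [], M, _, _, _, h, _ => supportDim_nonpos fun p hp => h p hp (by simp)
  | f :: l, M, _, _, _, h, hm => by
    have h1 := Good.supportDim_le l (QuotSMulTop f M) h.tail fun a ha => hm a (List.mem_cons_of_mem _ ha)
    refine (Module.supportDim_le_supportDim_quotSMulTop_succ_of_mem_jacobson
      (IsLocalRing.maximalIdeal_le_jacobson _ (hm f (List.mem_cons_self ..)))).trans ?_
    rw [List.length_cons, Nat.cast_succ]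
    exact add_le_add_left h1 1

lemma dim_quot_lt [IsNoetherianRing A] [Module.Finite A M] {f : A} (hreg : IsSMulRegular M f)
    {n : ℕ} (h : Module.supportDim A M ≤ ((n + 1 : ℕ) : WithBot ℕ∞)) :
    Module.supportDim A (QuotSMulTop f M) ≤ (n : WithBot ℕ∞) :=
  dim_add_one_le_cancel (le_trans (Module.supportDim_quotSMulTop_succ_le_of_notMem_minimalPrimes
    (fun _ => hreg.notMem_of_mem_minimalPrimes)) h)

lemma isSMulRegular_quotient {p : PrimeSpectrum A} {f : A} (e : N ≃ₗ[A] A ⧸ p.asIdeal)
    (hf : f ∉ p.asIdeal) : IsSMulRegular N f := by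
  intro x y hxy
  apply e.injective
  have h1 : e (f • x) = e (f • y) := congrArg e hxy
  rw [map_smul, map_smul, Algebra.smul_def, Algebra.smul_def] at h1
  exact mul_left_cancel₀ (fun h => hf (Ideal.Quotient.eq_zero_iff_mem.mp h)) h1

lemma smul_eq_zero_of_mem {p : PrimeSpectrum A} {f : A} (e : N ≃ₗ[A] A ⧸ p.asIdeal)
    (hf : f ∈ p.asIdeal) (x : N) : f • x = 0 := by
  apply e.injective
  rw [map_smul, map_zero, Algebra.smul_def, Ideal.Quotient.algebraMap_eq,
    Ideal.Quotient.eq_zero_iff_mem.mpr hf, zero_mul]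

lemma exists_supportDim_eq {N₁ N₂ N₃ : Type u} [AddCommGroup N₁] [Module A N₁] [AddCommGroup N₂]
    [Module A N₂] [AddCommGroup N₃] [Module A N₃] [Module.Finite A N₁] [Module.Finite A N₃]
    (h : Module.support A N₂ = Module.support A N₁ ∪ Module.support A N₃) (n : ℕ)
    (hd : Module.supportDim A N₂ = n) :
    Module.supportDim A N₁ = n ∨ Module.supportDim A N₃ = n := by
  have up : ∀ (P : Type u) [AddCommGroup P] [Module A P], Module.support A P ⊆ Module.support A N₂ →
      Module.supportDim A P ≤ n := fun P _ _ hP => hd ▸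
    Order.krullDim_le_of_strictMono (fun x => ⟨x.1, hP x.2⟩) fun _ _ hxy => hxy
  obtain ⟨q, hq⟩ := Order.le_krullDim_iff.mp hd.ge
  have low : ∀ (P : Type u) [AddCommGroup P] [Module A P] [Module.Finite A P],
      q.head.1 ∈ Module.support A P → (n : WithBot ℕ∞) ≤ Module.supportDim A P := fun P _ _ _ hP =>
    Order.le_krullDim_iff.mpr ⟨{
      length := q.length
      toFun := fun i => ⟨(q i).1, Module.mem_support_mono
        (show q.head.1 ≤ (q i).1 from q.monotone (Fin.zero_le _)) hP⟩
      step := fun i => q.step i }, hq⟩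
  rcases (h ▸ q.head.2 : q.head.1 ∈ Module.support A N₁ ∪ Module.support A N₃) with h1 | h3
  · exact Or.inl ((up N₁ (h ▸ Set.subset_union_left)).antisymm (low N₁ h1))
  · exact Or.inr ((up N₃ (h ▸ Set.subset_union_right)).antisymm (low N₃ h3))

end Groth.Agent.LC17
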