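import Groth.Agent.LA18.FrobLength
import Mathlib.Data.Real.Basic
import Mathlib.Tactic.Positivity
import Mathlib.Tactic.Linarith
import Groth.Agent.LC17.KGood
import Mathlib.LinearAlgebra.TensorProduct.Quotient
import Mathlib.LinearAlgebra.TensorProduct.Pi
import Mathlib.RingTheory.Ideal.MinimalPrime.Noetherian

/-!
# Colengths of ideals of powers: finiteness and comparison of modules
-/

set_option autoImplicit false

universe u

open IsLocalRing TensorProduct

namespace Groth.Agent.LC17

variable {A : Type u} [CommRing A] {r : ℕ}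

/-- the ideal of `q`-th powers of the family `g` -/
def powIdeal (g : Fin r → A) (q : ℕ) : Ideal A := Ideal.span (Set.range fun i => g i ^ q)

/-- the colength of `powIdeal g q` on a module, as a real number -/
noncomputable def colen (g : Fin r → A) (M : Type u) [AddCommGroup M] [Module A M] (q : ℕ) : ℝ :=
  ((Module.length A (M ⧸ powIdeal g q • (⊤ : Submodule A M))).toNat : ℝ)

theorem colen_nonneg (g : Fin r → A) (M : Type u) [AddCommGroup M] [Module A M] (q : ℕ) :
    0 ≤ colen g M q := Nat.cast_nonneg _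

variable [IsNoetherianRing A] [IsLocalRing A]

theorem isFiniteLength_quot_smul {J : Ideal A} (hJ : maximalIdeal A ≤ J.radical) (M : Type u)
    [AddCommGroup M] [Module A M] [Module.Finite A M] :
    IsFiniteLength A (M ⧸ J • (⊤ : Submodule A M)) := by
  rw [← Module.length_ne_top_iff]
  refine length_ne_top_of_support fun p hp => ?_
  rw [Module.support_quotient] at hp
  have h : p.asIdeal = maximalIdeal A := le_antisymm (IsLocalRing.le_maximalIdeal p.2.ne_top)
    (hJ.trans (p.2.radical_le_iff.2 hp.2))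
  rw [h]; infer_instance

theorem maximalIdeal_le_radical_powIdeal (g : Fin r → A)
    (hg : maximalIdeal A ≤ (Ideal.span (Set.range g)).radical) (q : ℕ) :
    maximalIdeal A ≤ (powIdeal g q).radical := by
  refine hg.trans (Ideal.radical_le_radical_iff.2 (Ideal.span_le.2 ?_))
  rintro _ ⟨i, rfl⟩
  exact ⟨q, Ideal.subset_span ⟨i, rfl⟩⟩

theorem exists_colen_le (g : Fin r → A) (hg : maximalIdeal A ≤ (Ideal.span (Set.range g)).radical)
    (M : Type u) [AddCommGroup M] [Module A M] [Module.Finite A M] (d : ℕ)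
    (hd : Module.supportDim A M ≤ (d : WithBot ℕ∞)) :
    ∃ C : ℝ, 0 ≤ C ∧ ∀ q : ℕ, 0 < q → colen g M q ≤ C * (q : ℝ) ^ d := by
  obtain ⟨C, hC⟩ := LA18.length_quot_map_powers_le g M (isFiniteLength_quot_smul hg M) d hd
  refine ⟨C, Nat.cast_nonneg C, fun q hq => ?_⟩
  have h := ENat.toNat_le_toNat (hC q hq) (ENat.natCast_ne_top _)
  rw [ENat.toNat_natCast] at h
  calc colen g M q ≤ ((C * q ^ d : ℕ) : ℝ) := Nat.cast_le.2 h
    _ = _ := by push_cast; ring

/-- If every minimal prime misses an annihilating element, the support has small dimension. -/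
theorem supportDim_le_of_notMem_minimalPrimes (k : ℕ) (hA : ringKrullDim A ≤ ((k + 1 : ℕ) : WithBot ℕ∞))
    (M : Type u) [AddCommGroup M] [Module A M] [Module.Finite A M]
    (h : ∀ Q ∈ minimalPrimes A, ¬ Module.annihilator A M ≤ Q) :
    Module.supportDim A M ≤ (k : WithBot ℕ∞) := by
  refine iSup_le fun l => ?_
  obtain ⟨Q, hQ, hQl⟩ := Ideal.exists_minimalPrimes_le (I := ⊥) (J := l.head.1.asIdeal) bot_le
  have hlt : Q < l.head.1.asIdeal := by
    refine lt_of_le_of_ne hQl fun heq => h Q hQ ?_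
    rw [heq]
    exact Module.mem_support_iff_of_finite.1 l.head.2
  let l' : LTSeries (PrimeSpectrum A) :=
    (LTSeries.map l (Subtype.val : Module.support A M → PrimeSpectrum A) (Subtype.strictMono_coe _)).cons ⟨Q, hQ.1.1⟩ hlt
  have h1 := (Order.LTSeries.length_le_krullDim l').trans hA
  have h2 : l'.length = l.length + 1 := by simp [l']
  rw [h2] at h1
  have h3 : l.length + 1 ≤ k + 1 := by exact_mod_cast h1
  exact_mod_cast (show l.length ≤ k by omega)

omit [IsNoetherianRing A] [IsLocalRing A] in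
theorem length_le_length_add {X Y : Type u} [AddCommGroup X] [Module A X] [AddCommGroup Y] [Module A Y]
    (f : X →ₗ[A] Y) :
    Module.length A Y ≤ Module.length A X + Module.length A (Y ⧸ LinearMap.range f) := by
  rw [Module.length_eq_add_of_exact (LinearMap.range f).subtype (LinearMap.range f).mkQ
    (Submodule.subtype_injective _) (Submodule.mkQ_surjective _) (LinearMap.exact_subtype_mkQ _)]
  exact add_le_add (Module.length_le_of_surjective f.rangeRestrict f.surjective_rangeRestrict) le_rfl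

theorem colen_le_of_map (g : Fin r → A) (hg : maximalIdeal A ≤ (Ideal.span (Set.range g)).radical)
    {M N : Type u} [AddCommGroup M] [Module A M] [Module.Finite A M] [AddCommGroup N] [Module A N]
    [Module.Finite A N] (ψ : M →ₗ[A] N) (q : ℕ) :
    colen g N q ≤ colen g M q + colen g (N ⧸ LinearMap.range ψ) q := by
  let J := powIdeal g q
  have hJ := maximalIdeal_le_radical_powIdeal g hg q
  let f : (M ⧸ J • (⊤ : Submodule A M)) →ₗ[A] N ⧸ J • (⊤ : Submodule A N) :=
    Submodule.mapQ _ _ ψ (Submodule.map_le_iff_le_comap.1 (by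
      rw [Submodule.map_smul'']; exact Submodule.smul_mono le_rfl le_top))
  have h2 : Module.length A ((N ⧸ J • (⊤ : Submodule A N)) ⧸ LinearMap.range f) ≤
      Module.length A ((N ⧸ LinearMap.range ψ) ⧸ J • (⊤ : Submodule A (N ⧸ LinearMap.range ψ))) := by
    let π : N →ₗ[A] (N ⧸ J • (⊤ : Submodule A N)) ⧸ LinearMap.range f :=
      (LinearMap.range f).mkQ ∘ₗ (J • (⊤ : Submodule A N)).mkQ
    have hπ : LinearMap.range ψ ≤ LinearMap.ker π := by
      rintro _ ⟨x, rfl⟩
      exact (Submodule.Quotient.mk_eq_zero _).2 ⟨Submodule.Quotient.mk x, rfl⟩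
    refine Module.length_le_of_surjective
      (Submodule.liftQ _ (Submodule.liftQ _ π hπ) ?_) (fun y => ?_)
    · rw [Submodule.smul_le]
      intro a ha y _
      obtain ⟨y, rfl⟩ := Submodule.Quotient.mk_surjective _ y
      rw [LinearMap.mem_ker, map_smul]
      show a • π y = 0
      rw [← map_smul]
      show (LinearMap.range f).mkQ ((J • (⊤ : Submodule A N)).mkQ (a • y)) = 0
      rw [show (J • (⊤ : Submodule A N)).mkQ (a • y) = 0 from
        (Submodule.Quotient.mk_eq_zero _).2 (Submodule.smul_mem_smul ha trivial), map_zero]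
    · obtain ⟨y, rfl⟩ := Submodule.Quotient.mk_surjective _ y
      obtain ⟨y, rfl⟩ := Submodule.Quotient.mk_surjective _ y
      exact ⟨Submodule.Quotient.mk (Submodule.Quotient.mk y), rfl⟩
  have hM := Module.length_ne_top_iff.2 (isFiniteLength_quot_smul hJ M)
  have hC := Module.length_ne_top_iff.2 (isFiniteLength_quot_smul hJ (N ⧸ LinearMap.range ψ))
  have h3 := ENat.toNat_le_toNat ((length_le_length_add f).trans (add_le_add le_rfl h2))
    (WithTop.add_ne_top.2 ⟨hM, hC⟩)
  rw [ENat.toNat_add hM hC] at h3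
  exact le_trans (Nat.cast_le.2 h3) (le_of_eq (Nat.cast_add _ _))

/-- Modules with maps composing to an element outside all minimal primes (modulo an ideal of
annihilators) have the same colengths up to lower order. -/
theorem exists_abs_colen_sub_le (g : Fin r → A)
    (hg : maximalIdeal A ≤ (Ideal.span (Set.range g)).radical)
    (k : ℕ) (hA : ringKrullDim A ≤ ((k + 1 : ℕ) : WithBot ℕ∞))
    {M N : Type u} [AddCommGroup M] [Module A M] [Module.Finite A M] [AddCommGroup N] [Module A N]
    [Module.Finite A N] (I : Ideal A) (hIM : ∀ a ∈ I, ∀ x : M, a • x = 0)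
    (hIN : ∀ a ∈ I, ∀ x : N, a • x = 0) (u : A) (hu : ∀ Q ∈ minimalPrimes A, I ≤ Q → u ∉ Q)
    (φ : N →ₗ[A] M) (ψ : M →ₗ[A] N) (h₁ : ∀ x, ψ (φ x) = u • x) (h₂ : ∀ x, φ (ψ x) = u • x) :
    ∃ C : ℝ, 0 ≤ C ∧ ∀ q : ℕ, 0 < q → |colen g M q - colen g N q| ≤ C * (q : ℝ) ^ k := by
  have key : ∀ {M N : Type u} [AddCommGroup M] [Module A M] [Module.Finite A M] [AddCommGroup N]
      [Module A N] [Module.Finite A N] (ψ : M →ₗ[A] N) (_ : ∀ a ∈ I, ∀ x : N, a • x = 0)
      (_ : ∀ x : N, u • x ∈ LinearMap.range ψ),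
      ∃ C : ℝ, 0 ≤ C ∧ ∀ q : ℕ, 0 < q → colen g N q - colen g M q ≤ C * (q : ℝ) ^ k := by
    intro M N _ _ _ _ _ _ ψ hI hu'
    have hdim : Module.supportDim A (N ⧸ LinearMap.range ψ) ≤ (k : WithBot ℕ∞) := by
      refine supportDim_le_of_notMem_minimalPrimes k hA _ fun Q hQ hle => ?_
      have hIQ : I ≤ Q := fun a ha => hle (Module.mem_annihilator.2 fun x => by
        obtain ⟨x, rfl⟩ := Submodule.Quotient.mk_surjective _ x
        rw [← Submodule.Quotient.mk_smul, hI a ha, Submodule.Quotient.mk_zero])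
      refine hu Q hQ hIQ (hle (Module.mem_annihilator.2 fun x => ?_))
      obtain ⟨x, rfl⟩ := Submodule.Quotient.mk_surjective _ x
      rw [← Submodule.Quotient.mk_smul, Submodule.Quotient.mk_eq_zero]
      exact hu' x
    obtain ⟨C, hC0, hC⟩ := exists_colen_le g hg _ k hdim
    refine ⟨C, hC0, fun q hq => ?_⟩
    have := colen_le_of_map g hg ψ q
    linarith [hC q hq]
  obtain ⟨C, hC0, hC⟩ := key ψ hIN fun x => ⟨φ x, h₁ x⟩
  obtain ⟨D, hD0, hD⟩ := key φ hIM fun x => ⟨ψ x, h₂ x⟩
  refine ⟨C + D, add_nonneg hC0 hD0, fun q hq => abs_le.2 ?_⟩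
  have hq' : (0 : ℝ) ≤ (q : ℝ) ^ k := by positivity
  constructor <;> nlinarith [hC q hq, hD q hq]

omit [IsNoetherianRing A] [IsLocalRing A] in
theorem length_quot_pi {s : ℕ} (J : Ideal A) (M : Fin s → Type u) [∀ i, AddCommGroup (M i)]
    [∀ i, Module A (M i)] :
    Module.length A ((∀ i, M i) ⧸ J • (⊤ : Submodule A (∀ i, M i))) =
      ∑ i, Module.length A (M i ⧸ J • (⊤ : Submodule A (M i))) := by
  classical
  rw [LinearEquiv.length_eq ((TensorProduct.quotTensorEquivQuotSMul (∀ i, M i) J).symm ≪≫ₗ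
      TensorProduct.piRight A A (A ⧸ J) M),
    Module.length_pi_of_fintype]
  exact Finset.sum_congr rfl fun i _ =>
    (TensorProduct.quotTensorEquivQuotSMul (M i) J).length_eq

theorem colen_pi (g : Fin r → A) (hg : maximalIdeal A ≤ (Ideal.span (Set.range g)).radical)
    {s : ℕ} (M : Fin s → Type u) [∀ i, AddCommGroup (M i)] [∀ i, Module A (M i)]
    [∀ i, Module.Finite A (M i)] (q : ℕ) :
    colen g (∀ i, M i) q = ∑ i, colen g (M i) q := by
  have h : ∀ i, ∃ n : ℕ, Module.length A (M i ⧸ powIdeal g q • (⊤ : Submodule A (M i))) = n :=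
    fun i => ENat.ne_top_iff_exists.1 (Module.length_ne_top_iff.2
      (isFiniteLength_quot_smul (maximalIdeal_le_radical_powIdeal g hg q) (M i))) |>.imp fun _ h => h.symm
  choose n hn using h
  simp only [colen, length_quot_pi, hn, ENat.toNat_natCast, ← Nat.cast_sum]

omit [IsNoetherianRing A] [IsLocalRing A] in
theorem colen_congr (g : Fin r → A) {M N : Type u} [AddCommGroup M] [Module A M] [AddCommGroup N]
    [Module A N] (e : M ≃ₗ[A] N) (q : ℕ) : colen g M q = colen g N q := by
  rw [colen, colen, (Submodule.Quotient.equiv _ (powIdeal g q • (⊤ : Submodule A N)) e (by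
    rw [Submodule.map_smul'', Submodule.map_top, LinearMap.range_eq_top.2 e.surjective])).length_eq]

end Groth.Agent.LC17
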