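import Groth.Prelude.Def_W4bk5brsh7111920
import Mathlib.Topology.NoetherianSpace

set_option autoImplicit false

universe u

open TopologicalSpace

namespace Groth.Agent.LC17

variable {T : Type u} [TopologicalSpace T]

lemma dim_mono {S S' : Set T} (h : S ⊆ S') : topologicalKrullDim ↥S ≤ topologicalKrullDim ↥S' :=
  (Topology.IsEmbedding.inclusion h).isInducing.topologicalKrullDim_le

lemma dim_univ : topologicalKrullDim ↥(Set.univ : Set T) = topologicalKrullDim T :=
  IsHomeomorph.topologicalKrullDim_eq _ (Homeomorph.Set.univ T).isHomeomorph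

lemma connDim_le {Z : Set T} (hZ : IsClosed Z) (hc : ¬ _root_.IsConnected Zᶜ) :
    LocCoh.connDim T ≤ topologicalKrullDim ↥Z :=
  iInf₂_le Z ⟨hZ, hc⟩

variable [NoetherianSpace T]

lemma finite_components : (irreducibleComponents T).Finite :=
  NoetherianSpace.finite_irreducibleComponents

lemma isClosed_sUnion_components {A : Set (Set T)} (hA : A ⊆ irreducibleComponents T) :
    IsClosed (⋃₀ A) := by
  rw [Set.sUnion_eq_biUnion]
  exact (finite_components.subset hA).isClosed_biUnion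
    fun C hC => isClosed_of_mem_irreducibleComponents C (hA hC)

lemma mem_of_subset_sUnion {A : Set (Set T)} (hA : A ⊆ irreducibleComponents T) {C : Set T}
    (hC : C ∈ irreducibleComponents T) (h : C ⊆ ⋃₀ A) : C ∈ A := by
  classical
  have hfin := finite_components.subset hA
  obtain ⟨D, hD, hCD⟩ := (isIrreducible_iff_sUnion_isClosed.mp hC.prop) hfin.toFinset
    (fun D hD => isClosed_of_mem_irreducibleComponents D (hA (hfin.mem_toFinset.mp hD)))
    (by simpa using h)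
  have hD' := hfin.mem_toFinset.mp hD
  exact (hCD.antisymm (hC.le_of_ge (hA hD').prop hCD)) ▸ hD'

lemma not_isConnected_compl_inter {A B : Set (Set T)}
    (hA : A ⊆ irreducibleComponents T) (hB : B ⊆ irreducibleComponents T)
    (hAB : A ∪ B = irreducibleComponents T)
    (h1 : ¬ ⋃₀ A ⊆ ⋃₀ B) (h2 : ¬ ⋃₀ B ⊆ ⋃₀ A) :
    ¬ _root_.IsConnected (⋃₀ A ∩ ⋃₀ B)ᶜ := by
  intro hconn
  have hcov : (⋃₀ A ∩ ⋃₀ B)ᶜ ⊆ ⋃₀ A ∪ ⋃₀ B := by
    rw [← Set.sUnion_union, hAB, sUnion_irreducibleComponents]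
    exact Set.subset_univ _
  obtain ⟨a, ha, ha'⟩ := Set.not_subset.mp h1
  obtain ⟨b, hb, hb'⟩ := Set.not_subset.mp h2
  obtain ⟨x, hx, hxA, hxB⟩ := isPreconnected_closed_iff.mp hconn.isPreconnected _ _
    (isClosed_sUnion_components hA) (isClosed_sUnion_components hB) hcov
    ⟨a, fun h => ha' h.2, ha⟩ ⟨b, fun h => hb' h.1, hb⟩
  exact hx ⟨hxA, hxB⟩

lemma connDim_le_dim_component {C : Set T} (hC : C ∈ irreducibleComponents T) :
    LocCoh.connDim T ≤ topologicalKrullDim ↥C := by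
  by_cases hall : irreducibleComponents T \ {C} = ∅
  · have : C = Set.univ := by
      rw [← sUnion_irreducibleComponents (X := T)]
      refine le_antisymm (Set.subset_sUnion_of_mem hC) (Set.sUnion_subset fun D hD => ?_)
      rw [Set.diff_eq_empty] at hall
      rw [hall hD]
    subst this
    exact connDim_le isClosed_univ fun h => by simpa using h.nonempty
  · have hA : ({C} : Set (Set T)) ⊆ irreducibleComponents T := by simpa using hC
    have hB : irreducibleComponents T \ {C} ⊆ irreducibleComponents T := Set.diff_subset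
    obtain ⟨D, hD, hDC⟩ := Set.nonempty_iff_ne_empty.mpr hall
    have hc := not_isConnected_compl_inter hA hB (by simp [Set.insert_eq_of_mem hC])
      (fun h => (mem_of_subset_sUnion hB hC (by simpa using h)).2 rfl)
      (fun h => hDC (mem_of_subset_sUnion hA hD ((Set.subset_sUnion_of_mem (show D ∈ irreducibleComponents T \ {C} from ⟨hD, hDC⟩)).trans h)))
    exact (connDim_le ((isClosed_sUnion_components hA).inter (isClosed_sUnion_components hB)) hc).trans
      (dim_mono (by simp))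

lemma connDim_le_inter {A B : Set (Set T)}
    (hA : A ⊆ irreducibleComponents T) (hB : B ⊆ irreducibleComponents T)
    (hAn : A.Nonempty) (hBn : B.Nonempty) (hAB : A ∪ B = irreducibleComponents T) :
    LocCoh.connDim T ≤ topologicalKrullDim ↥(⋃₀ A ∩ ⋃₀ B) := by
  by_cases h1 : ⋃₀ A ⊆ ⋃₀ B
  · obtain ⟨C, hC⟩ := hAn
    exact (connDim_le_dim_component (hA hC)).trans
      (dim_mono fun x hx => ⟨⟨C, hC, hx⟩, h1 ⟨C, hC, hx⟩⟩)
  by_cases h2 : ⋃₀ B ⊆ ⋃₀ A
  · obtain ⟨C, hC⟩ := hBn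
    exact (connDim_le_dim_component (hB hC)).trans
      (dim_mono fun x hx => ⟨h2 ⟨C, hC, hx⟩, ⟨C, hC, hx⟩⟩)
  exact connDim_le ((isClosed_sUnion_components hA).inter (isClosed_sUnion_components hB))
    (not_isConnected_compl_inter hA hB hAB h1 h2)

omit [NoetherianSpace T] in
lemma exists_inter_le [Nonempty T] {Z : Set T} (hZ : IsClosed Z) (hc : ¬ _root_.IsConnected Zᶜ) :
    ∃ (A B : Set (Set T)), (A ⊆ irreducibleComponents T ∧ B ⊆ irreducibleComponents T ∧
      A.Nonempty ∧ B.Nonempty ∧ A ∪ B = irreducibleComponents T) ∧ ⋃₀ A ∩ ⋃₀ B ⊆ Z := by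
  have hcomp : ∀ x : T, ∃ C ∈ irreducibleComponents T, x ∈ C := fun x => by
    have := Set.mem_univ x
    rwa [← sUnion_irreducibleComponents (X := T)] at this
  by_cases hne : (Zᶜ).Nonempty
  · have hpc : ¬ IsPreconnected Zᶜ := fun h => hc ⟨hne, h⟩
    simp only [IsPreconnected, not_forall] at hpc
    obtain ⟨U, V, hU, hV, hcov, hUne, hVne, hUV⟩ := hpc
    rw [Set.not_nonempty_iff_eq_empty] at hUV
    have hsep : ∀ C ∈ irreducibleComponents T, (C ∩ (Zᶜ ∩ U)).Nonempty →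
        (C ∩ (Zᶜ ∩ V)).Nonempty → False := fun C hC h h' => by
      obtain ⟨x, -, ⟨hx, hxU⟩, -, hxV⟩ := hC.prop.isPreirreducible _ _
        (hZ.isOpen_compl.inter hU) (hZ.isOpen_compl.inter hV) h h'
      exact Set.notMem_empty x (hUV ▸ ⟨hx, hxU, hxV⟩)
    refine ⟨{C ∈ irreducibleComponents T | ¬ (C ∩ (Zᶜ ∩ V)).Nonempty},
      {C ∈ irreducibleComponents T | ¬ (C ∩ (Zᶜ ∩ U)).Nonempty},
      ⟨fun C h => h.1, fun C h => h.1, ?_, ?_, ?_⟩, ?_⟩
    · obtain ⟨x, hx⟩ := hUne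
      obtain ⟨C, hC, hxC⟩ := hcomp x
      exact ⟨C, hC, hsep C hC ⟨x, hxC, hx⟩⟩
    · obtain ⟨x, hx⟩ := hVne
      obtain ⟨C, hC, hxC⟩ := hcomp x
      exact ⟨C, hC, fun h => hsep C hC h ⟨x, hxC, hx⟩⟩
    · ext C
      refine ⟨fun h => h.elim (fun h => h.1) (fun h => h.1), fun h => ?_⟩
      by_cases h' : (C ∩ (Zᶜ ∩ V)).Nonempty
      · exact Or.inr ⟨h, fun h'' => hsep C h h'' h'⟩
      · exact Or.inl ⟨h, h'⟩
    · rintro x ⟨⟨C, ⟨-, hC⟩, hxC⟩, D, ⟨-, hD⟩, hxD⟩
      by_contra hxZ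
      rcases hcov hxZ with h | h
      · exact hD ⟨x, hxD, hxZ, h⟩
      · exact hC ⟨x, hxC, hxZ, h⟩
  · obtain ⟨C, hC, -⟩ := hcomp (Classical.arbitrary T)
    have hZu : Z = Set.univ := by
      rwa [Set.not_nonempty_iff_eq_empty, Set.compl_empty_iff] at hne
    exact ⟨_, _, ⟨subset_rfl, subset_rfl, ⟨C, hC⟩, ⟨C, hC⟩, Set.union_self _⟩,
      hZu ▸ Set.subset_univ _⟩

lemma connDim_eq_iInf [Nonempty T] :
    LocCoh.connDim T = ⨅ (A : Set (Set T)) (B : Set (Set T))
      (_ : A ⊆ irreducibleComponents T ∧ B ⊆ irreducibleComponents T ∧ A.Nonempty ∧ B.Nonempty ∧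
        A ∪ B = irreducibleComponents T), topologicalKrullDim ↥(⋃₀ A ∩ ⋃₀ B) := by
  refine le_antisymm (le_iInf fun A => le_iInf fun B => le_iInf fun h =>
    connDim_le_inter h.1 h.2.1 h.2.2.1 h.2.2.2.1 h.2.2.2.2) (le_iInf₂ fun Z hZ => ?_)
  obtain ⟨A, B, h, hsub⟩ := exists_inter_le hZ.1 hZ.2
  exact le_trans (iInf_le_of_le A (iInf₂_le B h)) (dim_mono hsub)

omit [NoetherianSpace T] in
lemma dim_lt_of_ssubset {C Z : Set T} (hC : IsIrreducible C) (hCc : IsClosed C) (hZ : IsClosed Z)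
    (h : Z ⊂ C) (hfin : topologicalKrullDim ↥C < ⊤) :
    topologicalKrullDim ↥Z < topologicalKrullDim ↥C := by
  haveI : IrreducibleSpace ↥C := Subtype.irreducibleSpace hC
  let top : IrreducibleCloseds ↥C :=
    ⟨Set.univ, IrreducibleSpace.isIrreducible_univ _, isClosed_univ⟩
  have hnn : (0 : WithBot ℕ∞) ≤ topologicalKrullDim ↥C := Order.krullDim_nonneg_iff.mpr ⟨top⟩
  refine lt_of_le_of_ne (dim_mono h.subset) fun he => ?_
  obtain ⟨n, hn⟩ : ∃ n : ℕ, topologicalKrullDim ↥C = (n : WithBot ℕ∞) := by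
    cases hd : topologicalKrullDim ↥C with
    | bot => rw [hd] at hnn; exact absurd hnn (by simp)
    | coe m =>
      rw [hd] at hfin
      obtain ⟨k, rfl⟩ := (ENat.ne_top_iff_exists (n := m)).mp (fun e => hfin.ne (by rw [e]; rfl))
      exact ⟨k, rfl⟩
  rw [hn] at he
  obtain ⟨p, hp⟩ := Order.le_krullDim_iff.mp he.ge
  let incl : ↥Z → ↥C := Set.inclusion h.subset
  have hi : Topology.IsInducing incl := (Topology.IsEmbedding.inclusion h.subset).isInducing
  let f : IrreducibleCloseds ↥Z → IrreducibleCloseds ↥C :=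
    TopologicalSpace.IrreducibleCloseds.map incl hi.continuous
  have hf : StrictMono f := IrreducibleCloseds.map_strictMono_of_isInducing hi
  have hlt : ∀ s, f s < top := fun s => by
    refine lt_of_le_of_ne (fun x _ => trivial) fun heq => ?_
    have hsub : closure (incl '' (s : Set ↥Z)) ⊆ Subtype.val ⁻¹' Z := closure_minimal
      (by rintro _ ⟨z, -, rfl⟩; exact z.2) (hZ.preimage continuous_subtype_val)
    have hu : (closure (incl '' (s : Set ↥Z))) = Set.univ :=
      congrArg (fun t : IrreducibleCloseds ↥C => (t : Set ↥C)) heq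
    obtain ⟨x, hxC, hxZ⟩ := Set.exists_of_ssubset h
    exact hxZ (hsub (hu ▸ Set.mem_univ (⟨x, hxC⟩ : ↥C)))
  have h2 : ((n + 1 : ℕ) : WithBot ℕ∞) ≤ topologicalKrullDim ↥C :=
    Order.le_krullDim_iff.mpr ⟨(p.map f hf).snoc top (hlt p.last), congrArg (· + 1) hp⟩
  rw [hn] at h2
  have : n + 1 ≤ n := by exact_mod_cast h2
  omega

end Groth.Agent.LC17
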