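import Groth.Prelude.Def_Wider
import Groth.Agent.LC15.Gamma
import Mathlib.RingTheory.Ideal.AssociatedPrime.Finiteness
import Mathlib.RingTheory.Finiteness.Nakayama
import Mathlib.RingTheory.Regular.RegularSequence

set_option autoImplicit false

universe u

open scoped Pointwise
open RingTheory.Sequence Groth.Agent.LC15

namespace Groth.Agent.LC17

variable {R : Type u} [CommRing R]
variable {M : Type u} [AddCommGroup M] [Module R M]

lemma exists_smul_eq_self (I : Ideal R) [Module.Finite R M] (h : I • (⊤ : Submodule R M) = ⊤) :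
    ∃ a ∈ I, ∀ m : M, a • m = m := by
  obtain ⟨a, ha, hm⟩ :=
    Submodule.exists_mem_and_smul_eq_self_of_fg_of_le_smul I (⊤ : Submodule R M) Module.Finite.fg_top h.ge
  exact ⟨a, ha, fun m => hm m trivial⟩

lemma subsingleton_H_of_smul_top (I : Ideal R) [Module.Finite R M]
    (h : I • (⊤ : Submodule R M) = ⊤) (i : ℕ) : Subsingleton (LocCoh.H I i M) := by
  obtain ⟨a, ha, hm⟩ := exists_smul_eq_self I h
  refine subsingleton_H_of_smul_bijective I ha ?_ i
  rw [show (fun m : M => a • m) = id from funext hm]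
  exact Function.bijective_id

lemma gamma_eq_bot_of_regular {I : Ideal R} {x : R} (hx : x ∈ I) (h : IsSMulRegular M x) :
    gamma I M = ⊥ := by
  refine (Submodule.eq_bot_iff _).mpr fun y hy => ?_
  obtain ⟨n, hn⟩ := hy
  exact (h.pow n).right_eq_zero_of_smul (hn _ (Ideal.pow_mem_pow hx n))

lemma exists_isSMulRegular_mem [IsNoetherianRing R] [Module.Finite R M] {I : Ideal R}
    (h : gamma I M = ⊥) : ∃ x ∈ I, IsSMulRegular M x := by
  rcases subsingleton_or_nontrivial M with hM | hM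
  · exact ⟨0, I.zero_mem, IsSMulRegular.zero⟩
  by_contra! hno
  obtain ⟨q0, hq0⟩ := associatedPrimes.nonempty R M
  have hsub : (I : Set R) ⊆ ⋃ q ∈ associatedPrimes R M, (q : Set R) := by
    rw [biUnion_associatedPrimes_eq_compl_regular R]
    exact hno
  obtain ⟨q, hq, hIq⟩ := (Ideal.subset_union_prime_finite (associatedPrimes.finite R M) (f := id)
    q0 q0 fun q hq _ _ => IsAssociatedPrime.isPrime hq).mp hsub
  obtain ⟨hp, m, hm⟩ := (isAssociatedPrime_iff).mp hq
  have h1 : m ∈ gamma I M := ⟨1, fun a ha => by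
    rw [pow_one] at ha
    have h2 : a ∈ q := hIq ha
    rw [hm, Submodule.mem_colon_singleton] at h2
    simpa using h2⟩
  rw [h] at h1
  apply hp.ne_top
  rw [hm, Ideal.eq_top_iff_one, Submodule.mem_colon_singleton]
  simpa using h1

lemma quot_smul_top_ne_top {I : Ideal R} {x : R} (hx : x ∈ I)
    (h : I • (⊤ : Submodule R M) ≠ ⊤) : I • (⊤ : Submodule R (QuotSMulTop x M)) ≠ ⊤ := by
  intro e
  apply h
  refine top_le_iff.mp fun m _ => ?_
  have hm : (x • (⊤ : Submodule R M)).mkQ m ∈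
      (I • (⊤ : Submodule R M)).map (x • (⊤ : Submodule R M)).mkQ := by
    rw [Submodule.map_smul'', Submodule.map_top, Submodule.range_mkQ, e]; trivial
  obtain ⟨w, hw, hwm⟩ := hm
  obtain ⟨z, -, hz⟩ := (Submodule.mem_smul_pointwise_iff_exists _ _ _).mp ((Submodule.Quotient.eq _).mp hwm)
  have h2 : w - m ∈ I • (⊤ : Submodule R M) := hz ▸ Submodule.smul_mem_smul hx trivial
  simpa using sub_mem hw h2

lemma regular_ses {x : R} (hx : IsSMulRegular M x) :
    Function.Injective (LinearMap.lsmul R M x) ∧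
      Function.Exact (LinearMap.lsmul R M x) (x • (⊤ : Submodule R M)).mkQ :=
  ⟨hx, LinearMap.exact_iff.mpr (by
    rw [Submodule.ker_mkQ]; ext y
    simp [Submodule.mem_smul_pointwise_iff_exists])⟩

lemma subsingleton_H_quot (I : Ideal R) {x : R} (hx : IsSMulRegular M x) (i : ℕ)
    (h0 : Subsingleton (LocCoh.H I i M)) (h1 : Subsingleton (LocCoh.H I (i + 1) M)) :
    Subsingleton (LocCoh.H I i (QuotSMulTop x M)) :=
  subsingleton_H_right I i (regular_ses hx).1 (regular_ses hx).2 (Submodule.mkQ_surjective _) h0 h1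

lemma eq_zero_of_pow_smul {N : Type*} [AddCommGroup N] [Module R N] {x : R}
    (hinj : ∀ y : N, x • y = 0 → y = 0) : ∀ (k : ℕ) (y : N), x ^ k • y = 0 → y = 0
  | 0, y, hy => by rwa [pow_zero, one_smul] at hy
  | k + 1, y, hy => by
    rw [pow_succ', mul_smul] at hy
    exact eq_zero_of_pow_smul hinj k y (hinj _ hy)

lemma subsingleton_H_of_quot (I : Ideal R) {x : R} (hxI : x ∈ I) (hx : IsSMulRegular M x) (i : ℕ)
    (h : Subsingleton (LocCoh.H I i (QuotSMulTop x M))) : Subsingleton (LocCoh.H I (i + 1) M) := by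
  refine subsingleton_of_forall_eq 0 fun y => ?_
  have hinj : ∀ y : LocCoh.H I (i + 1) M, x • y = 0 → y = 0 := fun y hy => by
    rw [← Hmap_lsmul I (i + 1) x y] at hy
    obtain ⟨w, rfl⟩ := (H_exact₁ I i (regular_ses hx).1 (regular_ses hx).2
      (Submodule.mkQ_surjective _) y).mp hy
    rw [Subsingleton.elim w 0, map_zero]
  obtain ⟨k, hk⟩ := isPowerTorsion_H I (i + 1) y
  exact eq_zero_of_pow_smul hinj k y (hk _ (Ideal.pow_mem_pow hxI k))

variable [IsNoetherianRing R]

lemma exists_seq_of_subsingleton_H (I : Ideal R) : ∀ (n : ℕ) (M : Type u) [AddCommGroup M] [Module R M]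
    [Module.Finite R M], (∀ i, i < n → Subsingleton (LocCoh.H I i M)) →
    I • (⊤ : Submodule R M) ≠ ⊤ →
    ∃ rs : List R, rs.length = n ∧ IsWeaklyRegular M rs ∧ ∀ r ∈ rs, r ∈ I
  | 0, M, _, _, _, _, _ => ⟨[], rfl, IsWeaklyRegular.nil R M, by simp⟩
  | n + 1, M, _, _, _, h, hI => by
    obtain ⟨x, hxI, hx⟩ := exists_isSMulRegular_mem (M := M)
      ((subsingleton_H0_iff I M).mp (h 0 n.succ_pos))
    obtain ⟨rs, hlen, hreg, hmem⟩ := exists_seq_of_subsingleton_H I n (QuotSMulTop x M)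
      (fun i hi => subsingleton_H_quot I hx i (h i (by omega)) (h (i + 1) (by omega)))
      (quot_smul_top_ne_top hxI hI)
    exact ⟨x :: rs, by simp [hlen], IsWeaklyRegular.cons hx hreg, by simpa [hxI] using hmem⟩

omit [IsNoetherianRing R] in
lemma subsingleton_H_of_seq (I : Ideal R) : ∀ (rs : List R) (M : Type u) [AddCommGroup M] [Module R M],
    IsWeaklyRegular M rs → (∀ r ∈ rs, r ∈ I) → ∀ i, i < rs.length → Subsingleton (LocCoh.H I i M)
  | [], M, _, _, _, _, i, hi => absurd hi (Nat.not_lt_zero i)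
  | x :: rs, M, _, _, hreg, hmem, i, hi => by
    rw [isWeaklyRegular_cons_iff] at hreg
    have hxI := hmem x (List.mem_cons_self ..)
    match i with
    | 0 => exact (subsingleton_H0_iff I M).mpr (gamma_eq_bot_of_regular hxI hreg.1)
    | j + 1 =>
      exact subsingleton_H_of_quot I hxI hreg.1 j
        (subsingleton_H_of_seq I rs _ hreg.2 (fun r hr => hmem r (List.mem_cons_of_mem _ hr)) j
          (by simpa using hi))

/-- depth along an ideal via local cohomology -/
theorem natCast_le_idealDepth_iff (I : Ideal R) (M : Type u) [AddCommGroup M] [Module R M]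
    [Module.Finite R M] (n : ℕ) :
    (n : ℕ∞) ≤ LocCoh.idealDepth I M ↔ ∀ i, i < n → Subsingleton (LocCoh.H I i M) := by
  by_cases hI : I • (⊤ : Submodule R M) = ⊤
  · rw [LocCoh.idealDepth, if_pos hI]
    exact ⟨fun _ i _ => subsingleton_H_of_smul_top I hI i, fun _ => le_top⟩
  rw [LocCoh.idealDepth, if_neg hI]
  refine ⟨fun h i hi => ?_, fun h => ?_⟩
  · have h1 : (i : ℕ∞) < _ := lt_of_lt_of_le (Nat.cast_lt.mpr hi) h
    obtain ⟨rs, hrs⟩ := lt_iSup_iff.mp h1
    obtain ⟨⟨hreg, hmem⟩, hlt⟩ := lt_iSup_iff.mp hrs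
    exact subsingleton_H_of_seq I rs M hreg hmem i (by exact_mod_cast hlt)
  · obtain ⟨rs, hlen, hreg, hmem⟩ := exists_seq_of_subsingleton_H I n M h hI
    rw [← hlen]
    exact le_iSup₂ (f := fun (rs : List R) _ => ((rs.length : ℕ) : ℕ∞)) rs ⟨hreg, hmem⟩

omit [IsNoetherianRing R] in
lemma idealDepth_eq_top (I : Ideal R) (h : I • (⊤ : Submodule R M) = ⊤) :
    LocCoh.idealDepth I M = ⊤ := if_pos h

omit [IsNoetherianRing R] in
lemma idealDepth_of_subsingleton (I : Ideal R) [Subsingleton M] : LocCoh.idealDepth I M = ⊤ :=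
  if_pos (Subsingleton.elim _ _)

lemma eNat_le_of_forall {a b : ℕ∞} (h : ∀ n : ℕ, (n : ℕ∞) ≤ a → (n : ℕ∞) ≤ b) : a ≤ b := by
  refine ENat.forall_natCast_le_iff_le.mp h

lemma idealDepth_congr (I : Ideal R) {N : Type u} [AddCommGroup N] [Module R N] [Module.Finite R M]
    [Module.Finite R N] (e : M ≃ₗ[R] N) : LocCoh.idealDepth I M = LocCoh.idealDepth I N := by
  refine le_antisymm (eNat_le_of_forall fun n hn => ?_) (eNat_le_of_forall fun n hn => ?_)
  · rw [natCast_le_idealDepth_iff] at hn ⊢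
    exact fun i hi => haveI := hn i hi; (Hequiv I i e).toEquiv.symm.subsingleton
  · rw [natCast_le_idealDepth_iff] at hn ⊢
    exact fun i hi => haveI := hn i hi; (Hequiv I i e).toEquiv.subsingleton

lemma natCast_succ_le_idealDepth_iff (I : Ideal R) [Module.Finite R M] {x : R} (hxI : x ∈ I)
    (hx : IsSMulRegular M x) (n : ℕ) :
    ((n + 1 : ℕ) : ℕ∞) ≤ LocCoh.idealDepth I M ↔
      (n : ℕ∞) ≤ LocCoh.idealDepth I (QuotSMulTop x M) := by
  rw [natCast_le_idealDepth_iff, natCast_le_idealDepth_iff]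
  refine ⟨fun h i hi => subsingleton_H_quot I hx i (h i (by omega)) (h (i + 1) (by omega)),
    fun h i hi => ?_⟩
  match i with
  | 0 => exact (subsingleton_H0_iff I M).mpr (gamma_eq_bot_of_regular hxI hx)
  | j + 1 => exact subsingleton_H_of_quot I hxI hx j (h j (by omega))

end Groth.Agent.LC17
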