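import Groth.Agent.LA18.FreeComplex
import Mathlib.Algebra.Homology.ShortComplex.ModuleCat
import Mathlib.Algebra.Homology.HomologicalComplex
import Mathlib.RingTheory.Finiteness.Projective
import Mathlib.RingTheory.LocalRing.Module
import Mathlib.LinearAlgebra.Dimension.Finite
import Mathlib.LinearAlgebra.Dual.Lemmas

/-!
# Null homotopies of powers, and witnesses for the lowest homology of free complexes
-/

set_option autoImplicit false

universe u

open CategoryTheory IsLocalRing

namespace Groth.Agent.LC17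

variable {A : Type u} [CommRing A] (F : ChainComplex (ModuleCat.{u} A) ℕ)

/-- Cycles are boundaries up to what kills homology (degree `0`). -/
theorem smul_mem_range_zero {a : A} (ha : ∀ x : F.homology 0, a • x = 0) (x : F.X 0) :
    a • x ∈ LinearMap.range (F.d 1 0).hom := by
  let e := (ShortComplex.homologyMapIso (F.isoSc' 1 0 0 (by simp) (by simp)) ≪≫
    (F.sc' 1 0 0).moduleCatHomologyIso).toLinearEquiv
  let c : ↥(LinearMap.ker (F.sc' 1 0 0).g.hom) := ⟨x, by
    show (F.d 0 0).hom x = 0
    rw [F.shape 0 0 (by simp)]; rfl⟩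
  have h := congrArg e (ha (e.symm (Submodule.Quotient.mk c)))
  erw [map_smul, LinearEquiv.apply_symm_apply, map_zero] at h
  replace h := (Submodule.Quotient.mk_eq_zero _).1 (h : Submodule.Quotient.mk (a • c) = 0)
  obtain ⟨w, hw⟩ := h
  exact ⟨w, congrArg Subtype.val hw⟩

/-- Cycles are boundaries up to what kills homology (positive degree). -/
theorem smul_mem_range_succ {n : ℕ} {a : A} (ha : ∀ x : F.homology (n + 1), a • x = 0)
    (x : F.X (n + 1)) (hx : (F.d (n + 1) n).hom x = 0) :
    a • x ∈ LinearMap.range (F.d (n + 1 + 1) (n + 1)).hom := by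
  let e := (ShortComplex.homologyMapIso (F.isoSc' (n + 1 + 1) (n + 1) n (by simp) (by simp)) ≪≫
    (F.sc' (n + 1 + 1) (n + 1) n).moduleCatHomologyIso).toLinearEquiv
  let c : ↥(LinearMap.ker (F.sc' (n + 1 + 1) (n + 1) n).g.hom) := ⟨x, hx⟩
  have h := congrArg e (ha (e.symm (Submodule.Quotient.mk c)))
  erw [map_smul, LinearEquiv.apply_symm_apply, map_zero] at h
  replace h := (Submodule.Quotient.mk_eq_zero _).1 (h : Submodule.Quotient.mk (a • c) = 0)
  obtain ⟨w, hw⟩ := h
  exact ⟨w, congrArg Subtype.val hw⟩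

theorem d_d_apply (i j l : ℕ) (x : F.X i) : (F.d j l).hom ((F.d i j).hom x) = 0 :=
  congrArg (fun φ => φ.hom x) (F.d_comp_d i j l)

/-- A power of an element killing homology up to degree `n` is null homotopic up to degree `n`. -/
theorem exists_homotopy_pow (hfree : ∀ i, Module.Free A (F.X i)) (a : A) : ∀ n : ℕ,
    (∀ i ≤ n, ∃ N : ℕ, ∀ x : F.homology i, a ^ N • x = 0) →
    ∃ (M : ℕ) (s : ∀ i, (F.X i : Type u) →ₗ[A] (F.X (i + 1) : Type u)),
      (∀ x : F.X 0, (F.d 1 0).hom (s 0 x) = a ^ M • x) ∧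
      ∀ i, i < n → ∀ x : F.X (i + 1),
        (F.d (i + 1 + 1) (i + 1)).hom (s (i + 1) x) + s i ((F.d (i + 1) i).hom x) = a ^ M • x := by
  intro n
  induction n with
  | zero =>
    intro h
    obtain ⟨N, hN⟩ := h 0 le_rfl
    haveI := hfree 0
    let f : (F.X 0 : Type u) →ₗ[A] ↥(LinearMap.range (F.d 1 0).hom) :=
      LinearMap.codRestrict _ (a ^ N • LinearMap.id) (fun x => smul_mem_range_zero F hN x)
    obtain ⟨g, hg⟩ := Module.projective_lifting_property _ f
      (F.d 1 0).hom.surjective_rangeRestrict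
    refine ⟨N, fun i => if h : i = 0 then h ▸ g else 0, fun x => ?_, fun i hi => absurd hi (by omega)⟩
    simp only [↓reduceDIte]
    exact congrArg Subtype.val (LinearMap.congr_fun hg x)
  | succ n ih =>
    intro h
    obtain ⟨M, s, h0, hs⟩ := ih fun i hi => h i (by omega)
    obtain ⟨N, hN⟩ := h (n + 1) le_rfl
    haveI := hfree (n + 1)
    -- the defect is a cycle
    have hcyc : ∀ x : F.X (n + 1),
        (F.d (n + 1) n).hom (a ^ M • x - s n ((F.d (n + 1) n).hom x)) = 0 := by
      intro x
      rw [map_sub, map_smul]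
      rcases n with _ | k
      · rw [h0, sub_self]
      · have h1 := hs k (by omega) ((F.d (k + 1 + 1) (k + 1)).hom x)
        rw [d_d_apply, map_zero, add_zero] at h1
        rw [h1, sub_self]
    let f : (F.X (n + 1) : Type u) →ₗ[A] ↥(LinearMap.range (F.d (n + 1 + 1) (n + 1)).hom) :=
      LinearMap.codRestrict _ (a ^ N • (a ^ M • LinearMap.id - s n ∘ₗ (F.d (n + 1) n).hom))
        (fun x => smul_mem_range_succ F hN _ (hcyc x))
    obtain ⟨g, hg⟩ := Module.projective_lifting_property _ f
      (F.d (n + 1 + 1) (n + 1)).hom.surjective_rangeRestrict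
    refine ⟨N + M, fun i => if h : i = n + 1 then h ▸ g else a ^ N • s i, fun x => ?_,
      fun i hi x => ?_⟩
    · simp only [show (0 : ℕ) ≠ n + 1 by omega, ↓reduceDIte, LinearMap.smul_apply, map_smul, h0,
        smul_smul, pow_add]
    · rcases Nat.lt_or_ge i n with hlt | hge
      · simp only [show i + 1 ≠ n + 1 by omega, show i ≠ n + 1 by omega, ↓reduceDIte,
          LinearMap.smul_apply, map_smul, ← smul_add, hs i hlt, smul_smul, pow_add]
      · obtain rfl : i = n := by omega
        simp only [show i ≠ i + 1 by omega, ↓reduceDIte, LinearMap.smul_apply]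
        have := congrArg Subtype.val (LinearMap.congr_fun hg x)
        rw [show ((F.d (i + 1 + 1) (i + 1)).hom (g x)) =
          a ^ N • (a ^ M • x - s i ((F.d (i + 1) i).hom x)) from this, smul_sub, sub_add_cancel,
          smul_smul, pow_add]

/-- The cycles, with everything in degree `0` a cycle. -/
noncomputable def cyc : ∀ i, Submodule A (F.X i)
  | 0 => ⊤
  | i + 1 => LinearMap.ker (F.d (i + 1) i).hom

theorem d_mem_cyc (i : ℕ) (w : F.X (i + 1)) : (F.d (i + 1) i).hom w ∈ cyc F i := by
  cases i with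
  | zero => trivial
  | succ i => exact d_d_apply F _ _ _ w

theorem d_eq_zero_of_mem_cyc {i : ℕ} (l : ℕ) {z : F.X i} (hz : z ∈ cyc F i) :
    (F.d i l).hom z = 0 := by
  by_cases hl : l + 1 = i
  · subst hl; exact hz
  · rw [F.shape i l hl]; rfl

theorem isZero_homology_of_cyc {i : ℕ}
    (h : ∀ z ∈ cyc F i, z ∈ LinearMap.range (F.d (i + 1) i).hom) :
    Limits.IsZero (F.homology i) := by
  cases i with
  | zero =>
    refine Limits.IsZero.of_iso ((ShortComplex.exact_iff_isZero_homology _).1 ?_)
      (ShortComplex.homologyMapIso (F.isoSc' 1 0 0 (by simp) (by simp)))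
    rw [ShortComplex.moduleCat_exact_iff]
    exact fun x _ => h x trivial
  | succ m =>
    refine Limits.IsZero.of_iso ((ShortComplex.exact_iff_isZero_homology _).1 ?_)
      (ShortComplex.homologyMapIso (F.isoSc' (m + 1 + 1) (m + 1) m (by simp) (by simp)))
    rw [ShortComplex.moduleCat_exact_iff]
    exact fun x hx => h x hx

/-- At the lowest nonexact spot there is a cycle seen by a functional killing boundaries mod `𝔪`. -/
theorem exists_cycle_witness [IsLocalRing A]
    (hfree : ∀ i, Module.Free A (F.X i) ∧ Module.Finite A (F.X i))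
    (hne : ∃ i, ¬ Limits.IsZero (F.homology i)) :
    ∃ (j : ℕ) (z : F.X j) (φ : (F.X j : Type u) →ₗ[A] A), ¬ Limits.IsZero (F.homology j) ∧
      (∀ l, (F.d j l).hom z = 0) ∧ φ z = 1 ∧
      ∀ w : F.X (j + 1), φ ((F.d (j + 1) j).hom w) ∈ maximalIdeal A := by
  classical
  let j := Nat.find hne
  have hj : ¬ Limits.IsZero (F.homology j) := Nat.find_spec hne
  have hlt : ∀ i < j, Limits.IsZero (F.homology i) := fun i hi => not_not.1 (Nat.find_min hne hi)
  -- cycles
  let Z : ∀ i, Submodule A (F.X i) := cyc F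
  have hmem : ∀ i (w : F.X (i + 1)), (F.d (i + 1) i).hom w ∈ Z i := d_mem_cyc F
  have hex : ∀ i < j, ∀ z ∈ Z i, z ∈ LinearMap.range (F.d (i + 1) i).hom := by
    intro i hi z hz
    haveI := ModuleCat.subsingleton_of_isZero (hlt i hi)
    cases i with
    | zero =>
      have := smul_mem_range_zero F (a := 1) (fun x => Subsingleton.elim _ _) z
      rwa [one_smul] at this
    | succ i =>
      have := smul_mem_range_succ F (a := 1) (fun x => Subsingleton.elim _ _) z hz
      rwa [one_smul] at this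
  -- they are direct summands
  have hsummand : ∀ i ≤ j, ∃ q : (F.X i : Type u) →ₗ[A] Z i, ∀ z : Z i, q z = z := by
    intro i
    induction i with
    | zero => exact fun _ => ⟨LinearMap.id.codRestrict ⊤ fun _ => trivial, fun z => rfl⟩
    | succ i ih =>
      intro hi
      obtain ⟨q, hq⟩ := ih (by omega)
      haveI := (hfree i).1
      haveI : Module.Projective A (Z i) :=
        Module.Projective.of_split (Z i).subtype q (LinearMap.ext hq)
      let dz : (F.X (i + 1) : Type u) →ₗ[A] Z i := (F.d (i + 1) i).hom.codRestrict (Z i) (hmem i)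
      have hdz : Function.Surjective dz := fun z => by
        obtain ⟨w, hw⟩ := hex i (by omega) z z.2
        exact ⟨w, Subtype.ext hw⟩
      obtain ⟨σ, hσ⟩ := Module.projective_lifting_property dz LinearMap.id hdz
      have hker : ∀ x, x - σ (dz x) ∈ Z (i + 1) := fun x => by
        show (F.d (i + 1) i).hom (x - σ (dz x)) = 0
        have h1 : (F.d (i + 1) i).hom (σ (dz x)) = (dz x : F.X i) :=
          congrArg Subtype.val (LinearMap.congr_fun hσ (dz x))
        rw [map_sub, h1]
        exact sub_self _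
      refine ⟨(LinearMap.id - σ ∘ₗ dz).codRestrict (Z (i + 1)) hker, fun z => Subtype.ext ?_⟩
      show (z : F.X (i + 1)) - σ (dz z) = z
      rw [show dz z = 0 from Subtype.ext z.2, map_zero, sub_zero]
  obtain ⟨q, hq⟩ := hsummand j le_rfl
  haveI := (hfree j).1
  haveI := (hfree j).2
  haveI : Module.Projective A (Z j) :=
    Module.Projective.of_split (Z j).subtype q (LinearMap.ext hq)
  haveI : Module.Finite A (Z j) := Module.Finite.of_surjective q fun z => ⟨z, hq z⟩
  let dz : (F.X (j + 1) : Type u) →ₗ[A] Z j := (F.d (j + 1) j).hom.codRestrict (Z j) (hmem j)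
  have hnot : ¬ (LinearMap.range dz ⊔ maximalIdeal A • ⊤ = ⊤) := by
    intro h
    have htop : LinearMap.range dz = ⊤ := by
      refine top_le_iff.1 (Submodule.le_of_le_smul_of_le_jacobson_bot Module.Finite.fg_top ?_ h.ge)
      rw [IsLocalRing.jacobson_eq_maximalIdeal _ bot_ne_top]
    refine hj (isZero_homology_of_cyc F fun z hz => ?_)
    obtain ⟨w, hw⟩ : (⟨z, hz⟩ : Z j) ∈ LinearMap.range dz := htop ▸ trivial
    exact ⟨w, congrArg Subtype.val hw⟩
  -- a basis coordinate that survives
  let P := LinearMap.range dz ⊔ maximalIdeal A • (⊤ : Submodule A (Z j))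
  obtain ⟨ψ, z, hψz, hψ⟩ : ∃ (ψ : (Z j) →ₗ[A] A) (z : Z j), ψ z = 1 ∧
      ∀ w ∈ P, ψ w ∈ maximalIdeal A := by
    let _ : Module (ResidueField A) ((Z j) ⧸ P) := Module.IsTorsionBySet.module (I := maximalIdeal A)
      (fun x r => by
        obtain ⟨y, rfl⟩ := Submodule.Quotient.mk_surjective _ x
        rw [← Submodule.Quotient.mk_smul, Submodule.Quotient.mk_eq_zero]
        exact Submodule.mem_sup_right (Submodule.smul_mem_smul r.2 trivial))
    have : IsScalarTower A (ResidueField A) ((Z j) ⧸ P) :=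
      Module.IsTorsionBySet.isScalarTower _
    haveI : Nontrivial ((Z j) ⧸ P) := Submodule.Quotient.nontrivial_iff.2 hnot
    obtain ⟨v, hv⟩ := exists_ne (0 : (Z j) ⧸ P)
    obtain ⟨f, hf⟩ : ∃ f : ((Z j) ⧸ P) →ₗ[ResidueField A] ResidueField A, f v = 1 :=
      Module.Projective.exists_dual_eq_one (ResidueField A) hv
    obtain ⟨ψ, hψ⟩ := Module.projective_lifting_property (Algebra.linearMap A (ResidueField A))
      ((f.restrictScalars A) ∘ₗ P.mkQ) residue_surjective
    obtain ⟨z₀, rfl⟩ := Submodule.Quotient.mk_surjective _ v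
    have h1 : residue A (ψ z₀) = 1 := (LinearMap.congr_fun hψ z₀).trans hf
    obtain ⟨t, ht⟩ : IsUnit (ψ z₀) := by
      by_contra hu
      rw [residue_eq_zero_iff _ |>.2 hu] at h1
      exact zero_ne_one h1
    refine ⟨ψ, (↑t⁻¹ : A) • z₀, ?_, fun w hw => ?_⟩
    · rw [map_smul, smul_eq_mul, ← ht, Units.inv_mul]
    · rw [← residue_eq_zero_iff]
      refine (LinearMap.congr_fun hψ w).trans ?_
      show f (P.mkQ w) = 0
      rw [show P.mkQ w = 0 from (Submodule.Quotient.mk_eq_zero _).2 hw, map_zero]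
  refine ⟨j, z, ψ ∘ₗ q, hj, fun l => d_eq_zero_of_mem_cyc F l z.2, ?_, fun w => ?_⟩
  · show ψ (q z) = 1
    rw [hq, hψz]
  · show ψ (q _) ∈ _
    rw [hq ⟨_, hmem j w⟩]
    exact hψ _ (Submodule.mem_sup_left ⟨w, rfl⟩)

end Groth.Agent.LC17
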