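import Groth.Agent.DR39.InjAmp
import Groth.Agent.LC17.KGood
import Groth.Agent.LC17.FreeHomotopy
import Mathlib.Algebra.Homology.DerivedCategory.Linear
import Mathlib.Algebra.Homology.DerivedCategory.SingleTriangle
import Mathlib.RingTheory.Nakayama
import Mathlib.Algebra.Category.ModuleCat.Projective

/-!
# The contravariant functors `M ↦ Hom(M[0], ω⟦n⟧)`
-/

set_option autoImplicit false
set_option linter.unusedSectionVars false

universe u

open CategoryTheory CategoryTheory.Limits CategoryTheory.Pretriangulated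

attribute [local instance] HasDerivedCategory.standard

namespace Groth.Agent.LC17

variable {A : Type u} [CommRing A] (ω : Dual.D A)

/-- `Hom(M[0], ω⟦n⟧)` -/
abbrev GM (M : ModuleCat.{u} A) (n : ℤ) : Type (u + 1) :=
  (DerivedCategory.singleFunctor (ModuleCat.{u} A) 0).obj M ⟶ ω⟦n⟧

/-- the ideal killing `Hom(M[0], ω⟦n⟧)` -/
noncomputable def gAnn (M : ModuleCat.{u} A) (n : ℤ) : Ideal A := Module.annihilator A (GM ω M n)

theorem mem_gAnn {M : ModuleCat.{u} A} {n : ℤ} {a : A} :
    a ∈ gAnn ω M n ↔ ∀ f : GM ω M n, a • f = 0 := Module.mem_annihilator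

theorem gAnn_eq_top_iff {M : ModuleCat.{u} A} {n : ℤ} :
    gAnn ω M n = ⊤ ↔ ∀ f : GM ω M n, f = 0 := by
  rw [Ideal.eq_top_iff_one, mem_gAnn]
  simp

theorem gAnn_congr {M N : ModuleCat.{u} A} (e : M ≅ N) (n : ℤ) : gAnn ω M n = gAnn ω N n := by
  suffices ∀ {M N : ModuleCat.{u} A} (_ : M ≅ N), gAnn ω M n ≤ gAnn ω N n from
    le_antisymm (this e) (this e.symm)
  intro M N e a ha
  rw [mem_gAnn] at ha ⊢
  intro f
  have h := ha ((DerivedCategory.singleFunctor _ 0).map e.hom ≫ f)
  rw [← Linear.comp_smul] at h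
  exact (cancel_epi ((DerivedCategory.singleFunctor _ 0).map e.hom)).1 (h.trans comp_zero.symm)

theorem map_smul_eq {M : ModuleCat.{u} A} (a : A) {L : Dual.D A}
    (f : (DerivedCategory.singleFunctor (ModuleCat.{u} A) 0).obj M ⟶ L) :
    (DerivedCategory.singleFunctor (ModuleCat.{u} A) 0).map (a • 𝟙 M) ≫ f = a • f := by
  rw [Functor.map_smul, CategoryTheory.Functor.map_id, Linear.smul_comp, Category.id_comp]

theorem homToH0_smul {M : ModuleCat.{u} A} (L : Dual.D A) (a : A)
    (f : (DerivedCategory.singleFunctor (ModuleCat.{u} A) 0).obj M ⟶ L) :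
    DR39.homToH0 M L (a • f) = a • DR39.homToH0 M L f := by
  rw [← map_smul_eq a f, DR39.homToH0_precomp, Linear.smul_comp, Category.id_comp]

theorem homToH0_add {M : ModuleCat.{u} A} (L : Dual.D A)
    (f g : (DerivedCategory.singleFunctor (ModuleCat.{u} A) 0).obj M ⟶ L) :
    DR39.homToH0 M L (f + g) = DR39.homToH0 M L f + DR39.homToH0 M L g := by
  simp [DR39.homToH0, Functor.map_add, Preadditive.comp_add]

/-- `homToH0` as a linear map. -/
noncomputable def homToH0Lin (M : ModuleCat.{u} A) (L : Dual.D A) :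
    ((DerivedCategory.singleFunctor (ModuleCat.{u} A) 0).obj M ⟶ L) →ₗ[A]
      (M ⟶ (DerivedCategory.homologyFunctor (ModuleCat.{u} A) 0).obj L) where
  toFun := DR39.homToH0 M L
  map_add' := homToH0_add L
  map_smul' := homToH0_smul L

/-- degree `0` of the shift -/
noncomputable def shiftH (n : ℤ) :
    (DerivedCategory.homologyFunctor (ModuleCat.{u} A) 0).obj (ω⟦n⟧) ≅
      (DerivedCategory.homologyFunctor (ModuleCat.{u} A) n).obj ω :=
  ((DerivedCategory.homologyFunctor (ModuleCat.{u} A) 0).shiftIso n 0 n (add_zero n)).app ω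

theorem annihilator_le_gAnn (M : ModuleCat.{u} A) [Projective M] (n : ℤ) :
    Module.annihilator A (Dual.HD A ω n) ≤ gAnn ω M n := by
  intro a ha
  rw [mem_gAnn]
  intro f
  apply (DR39.homToH0_bijective M (ω⟦n⟧)).1
  rw [homToH0_smul, show DR39.homToH0 M (ω⟦n⟧) (0 : GM ω M n) = 0 from (homToH0Lin M _).map_zero]
  rw [← cancel_mono (shiftH ω n).hom, zero_comp, Linear.smul_comp]
  refine ModuleCat.hom_ext (LinearMap.ext fun x => ?_)
  exact Module.mem_annihilator.1 ha _

/-- precomposition -/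
noncomputable def pre {M N : ModuleCat.{u} A} (φ : M ⟶ N) (n : ℤ) : GM ω N n →ₗ[A] GM ω M n :=
  Linear.leftComp A (ω⟦n⟧) ((DerivedCategory.singleFunctor (ModuleCat.{u} A) 0).map φ)

theorem pre_pre {M N P : ModuleCat.{u} A} (φ : M ⟶ N) (ψ : N ⟶ P) (n : ℤ) (f : GM ω P n) :
    pre ω φ n (pre ω ψ n f) = pre ω (φ ≫ ψ) n f :=
  ((Category.assoc _ _ _).symm.trans
    (congrArg (· ≫ f) ((DerivedCategory.singleFunctor _ 0).map_comp φ ψ).symm))

theorem pre_smul_id {M : ModuleCat.{u} A} (a : A) (n : ℤ) (f : GM ω M n) :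
    pre ω (a • 𝟙 M) n f = a • f := map_smul_eq a f

section Seq

variable {S : ShortComplex (ModuleCat.{u} A)} (hS : S.ShortExact)

/-- the connecting map -/
noncomputable def conn (m n : ℤ) (h : m + 1 = n) : GM ω S.X₁ m →ₗ[A] GM ω S.X₃ n where
  toFun g := hS.singleδ ≫ g⟦(1 : ℤ)⟧' ≫ ((shiftFunctorAdd' (Dual.D A) m 1 n h).app ω).inv
  map_add' g g' := by
    rw [Functor.map_add, Preadditive.add_comp, Preadditive.comp_add]
  map_smul' c g := by
    rw [Functor.map_smul, Linear.smul_comp, Linear.comp_smul]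
    rfl

include hS

theorem exact₂ (n : ℤ) (f : GM ω S.X₂ n) (hf : pre ω S.f n f = 0) :
    ∃ g : GM ω S.X₃ n, pre ω S.g n g = f := by
  obtain ⟨g, hg⟩ := Triangle.yoneda_exact₂ _ hS.singleTriangle_distinguished f hf
  exact ⟨g, hg.symm⟩

theorem exact₃ (m n : ℤ) (h : m + 1 = n) (f : GM ω S.X₃ n) (hf : pre ω S.g n f = 0) :
    ∃ g : GM ω S.X₁ m, conn ω hS m n h g = f := by
  obtain ⟨g, hg⟩ := Triangle.yoneda_exact₃ _ hS.singleTriangle_distinguished f hf
  let e : ω⟦n⟧ ≅ (ω⟦m⟧)⟦(1 : ℤ)⟧ := (shiftFunctorAdd' (Dual.D A) m 1 n h).app ω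
  obtain ⟨g', hg'⟩ := (shiftFunctor (Dual.D A) (1 : ℤ)).map_surjective
    (X := (DerivedCategory.singleFunctor (ModuleCat.{u} A) 0).obj S.X₁) (Y := ω⟦m⟧) (g ≫ e.hom)
  refine ⟨g', ?_⟩
  show hS.singleδ ≫ g'⟦(1 : ℤ)⟧' ≫ e.inv = f
  rw [hg', Category.assoc, Iso.hom_inv_id]
  exact (congrArg (hS.singleδ ≫ ·) (Category.comp_id g)).trans hg.symm

theorem exact₁ (n m : ℤ) (h : n + 1 = m) (f : GM ω S.X₁ n) (hf : conn ω hS n m h f = 0) :
    ∃ g : GM ω S.X₂ n, pre ω S.f n g = f := by
  let e : ω⟦m⟧ ≅ (ω⟦n⟧)⟦(1 : ℤ)⟧ := (shiftFunctorAdd' (Dual.D A) n 1 m h).app ω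
  obtain ⟨g, hg⟩ := Triangle.yoneda_exact₃ _
    (rot_of_distTriang _ hS.singleTriangle_distinguished) (f⟦(1 : ℤ)⟧' ≫ e.inv) hf
  obtain ⟨g', hg'⟩ := (shiftFunctor (Dual.D A) (1 : ℤ)).map_surjective
    (X := (DerivedCategory.singleFunctor (ModuleCat.{u} A) 0).obj S.X₂) (Y := ω⟦n⟧) (g ≫ e.hom)
  refine ⟨-g', ?_⟩
  apply (shiftFunctor (Dual.D A) (1 : ℤ)).map_injective
  show (shiftFunctor (Dual.D A) (1 : ℤ)).map
    ((DerivedCategory.singleFunctor (ModuleCat.{u} A) 0).map S.f ≫ (-g')) = _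
  rw [Functor.map_comp, Functor.map_neg, hg', ← cancel_mono e.inv]
  refine Eq.trans ?_ hg.symm
  rw [Category.assoc, Preadditive.neg_comp, Category.assoc, Iso.hom_inv_id, Category.comp_id]
  simp [Triangle.rotate]
  first
    | exact (Preadditive.neg_comp _ _).symm
    | exact (Preadditive.comp_neg _ _).trans (Preadditive.neg_comp _ _).symm

theorem gAnn_mid (n : ℤ) : gAnn ω S.X₃ n * gAnn ω S.X₁ n ≤ gAnn ω S.X₂ n := by
  refine Ideal.mul_le.2 fun b hb a ha => (mem_gAnn ω).2 fun f => ?_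
  obtain ⟨g, hg⟩ := exact₂ ω hS n (a • f) (by rw [map_smul]; exact (mem_gAnn ω).1 ha _)
  rw [mul_smul, ← hg, ← map_smul, (mem_gAnn ω).1 hb g, map_zero]

theorem gAnn_right (n m : ℤ) (h : m + 1 = n) :
    gAnn ω S.X₁ m * gAnn ω S.X₂ n ≤ gAnn ω S.X₃ n := by
  refine Ideal.mul_le.2 fun b hb a ha => (mem_gAnn ω).2 fun f => ?_
  obtain ⟨g, hg⟩ := exact₃ ω hS m n h (a • f) (by rw [map_smul]; exact (mem_gAnn ω).1 ha _)
  rw [mul_smul, ← hg, ← map_smul, (mem_gAnn ω).1 hb g, map_zero]

theorem gAnn_left (n m : ℤ) (h : n + 1 = m) :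
    gAnn ω S.X₂ n * gAnn ω S.X₃ m ≤ gAnn ω S.X₁ n := by
  refine Ideal.mul_le.2 fun a ha b hb => (mem_gAnn ω).2 fun f => ?_
  obtain ⟨g, hg⟩ := exact₁ ω hS n m h (b • f) (by rw [map_smul]; exact (mem_gAnn ω).1 hb _)
  rw [mul_smul, ← hg, ← map_smul, (mem_gAnn ω).1 ha g, map_zero]

theorem pre_surjective_of_gAnn_eq_top (n m : ℤ) (h : n + 1 = m) (hX : gAnn ω S.X₃ m = ⊤) :
    Function.Surjective (pre ω S.f n) := fun f =>
  exact₁ ω hS n m h f ((gAnn_eq_top_iff ω).1 hX _)

end Seq

/-- The short exact sequence of a submodule. -/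
theorem exists_shortExact_submodule {M : Type u} [AddCommGroup M] [Module A M] (N : Submodule A M) :
    ∃ (S : ShortComplex (ModuleCat.{u} A)) (_ : S.ShortExact),
      S.X₁ = ModuleCat.of A N ∧ S.X₂ = ModuleCat.of A M ∧ S.X₃ = ModuleCat.of A (M ⧸ N) := by
  refine ⟨ShortComplex.mk (ModuleCat.ofHom N.subtype) (ModuleCat.ofHom N.mkQ) (by ext x; simp),
    { exact := (ShortComplex.moduleCat_exact_iff _).2 fun x hx =>
        ⟨⟨x, (Submodule.Quotient.mk_eq_zero N).1 hx⟩, rfl⟩
      mono_f := (ModuleCat.mono_iff_injective _).2 (Submodule.subtype_injective N)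
      epi_g := (ModuleCat.epi_iff_surjective _).2 (Submodule.mkQ_surjective N) }, rfl, rfl, rfl⟩

theorem shortExact_of_exact {M₁ M₂ M₃ : Type u} [AddCommGroup M₁] [Module A M₁] [AddCommGroup M₂]
    [Module A M₂] [AddCommGroup M₃] [Module A M₃] (f : M₁ →ₗ[A] M₂) (g : M₂ →ₗ[A] M₃)
    (hf : Function.Injective f) (hg : Function.Surjective g) (h : Function.Exact f g) :
    (ShortComplex.mk (ModuleCat.ofHom f) (ModuleCat.ofHom g)
      (ModuleCat.hom_ext h.linearMap_comp_eq_zero)).ShortExact :=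
  { exact := (ShortComplex.moduleCat_exact_iff _).2 fun x hx => (h x).1 hx
    mono_f := (ModuleCat.mono_iff_injective _).2 hf
    epi_g := (ModuleCat.epi_iff_surjective _).2 hg }

variable [IsNoetherianRing A]

/-- Vanishing may be checked on the primes of the support. -/
theorem gAnn_eq_top_of_support (n : ℤ) (M : Type u) [AddCommGroup M] [Module A M] [Module.Finite A M]
    (h : ∀ p ∈ Module.support A M, gAnn ω (ModuleCat.of A (A ⧸ p.asIdeal)) n = ⊤) :
    gAnn ω (ModuleCat.of A M) n = ⊤ := by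
  induction ‹Module.Finite A M› using IsNoetherianRing.induction_on_isQuotientEquivQuotientPrime A with
  | subsingleton N =>
    rw [gAnn_eq_top_iff]
    intro f
    exact ((DerivedCategory.singleFunctor _ 0).map_isZero (ModuleCat.isZero_of_subsingleton
      (ModuleCat.of A N))).eq_of_src f 0
  | quotient N p e =>
    rw [gAnn_congr ω e.toModuleIso]
    refine h p ?_
    rw [e.support_eq, Module.mem_support_iff_of_finite, Ideal.annihilator_quotient]
  | exact N₁ N₂ N₃ f g hf hg hfg ih₁ ih₃ =>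
    rw [Module.support_of_exact hfg hf hg] at h
    have := gAnn_mid ω (shortExact_of_exact f g hf hg hfg) n
    rw [ih₁ fun p hp => h p (Or.inl hp), ih₃ fun p hp => h p (Or.inr hp), Ideal.top_mul] at this
    exact top_le_iff.1 this

variable {ω} (hω : Dual.IsDualizing A ω)
include hω

theorem finite_GM : ∀ (n : ℤ) (M : Type u) [AddCommGroup M] [Module A M] [Module.Finite A M],
    Module.Finite A (GM ω (ModuleCat.of A M) n) := by
  obtain ⟨a, b, hab⟩ := hω.finite_injective_dimension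
  suffices H : ∀ (j : ℕ) (n : ℤ), n < a + j → ∀ (M : Type u) [AddCommGroup M] [Module A M]
      [Module.Finite A M], Module.Finite A (GM ω (ModuleCat.of A M) n) by
    intro n M _ _ _
    exact H (n + 1 - a).toNat n (by omega) M
  intro j
  induction j with
  | zero =>
    intro n hn M _ _ _
    haveI : Subsingleton (GM ω (ModuleCat.of A M) n) := hab M n (Or.inl (by omega))
    exact Module.Finite.of_surjective (0 : A →ₗ[A] _) fun y => ⟨0, Subsingleton.elim _ _⟩
  | succ j ih =>
    intro n hn M _ _ _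
    obtain ⟨r, g, hg⟩ := Module.Finite.exists_fin' A M
    obtain hS := shortExact_of_exact (LinearMap.ker g).subtype g (Submodule.subtype_injective _) hg
      (LinearMap.exact_subtype_ker_map g)
    haveI : Module.Finite A (Dual.HD A ω n) := hω.finite_cohomology n
    haveI : Projective (ModuleCat.of A (Fin r → A)) := (IsProjective.iff_projective _).1 inferInstance
    haveI hfree : Module.Finite A (GM ω (ModuleCat.of A (Fin r → A)) n) := by
      haveI : Module.Finite A ((DerivedCategory.homologyFunctor (ModuleCat.{u} A) 0).obj (ω⟦n⟧)) :=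
        Module.Finite.equiv (shiftH ω n).symm.toLinearEquiv
      haveI : Module.Finite A (ModuleCat.of A (Fin r → A) ⟶
          (DerivedCategory.homologyFunctor (ModuleCat.{u} A) 0).obj (ω⟦n⟧)) :=
        Module.Finite.equiv (ModuleCat.homLinearEquiv (R := A) (S := A)).symm
      exact Module.Finite.of_injective (homToH0Lin _ (ω⟦n⟧)) (DR39.homToH0_bijective _ _).1
    haveI : IsNoetherian A (GM ω (ModuleCat.of A (Fin r → A)) n) := isNoetherian_of_isNoetherianRing_of_finite A _
    haveI hker : Module.Finite A (GM ω (ModuleCat.of A (LinearMap.ker g)) (n - 1)) :=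
      ih (n - 1) (by omega) (LinearMap.ker g)
    let φ : GM ω (ModuleCat.of A M) n →ₗ[A] GM ω (ModuleCat.of A (Fin r → A)) n :=
      pre ω (ModuleCat.ofHom g) n
    let ψ : GM ω (ModuleCat.of A (LinearMap.ker g)) (n - 1) →ₗ[A] GM ω (ModuleCat.of A M) n :=
      conn ω hS (n - 1) n (by omega)
    have hex : LinearMap.ker φ ≤ LinearMap.range ψ := fun f hf =>
      exact₃ ω hS (n - 1) n (by omega) f hf
    haveI : Module.Finite A (LinearMap.ker φ) := by
      haveI : IsNoetherian A (LinearMap.range ψ) := isNoetherian_of_isNoetherianRing_of_finite A _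
      exact Module.Finite.of_injective (Submodule.inclusion hex) (Submodule.inclusion_injective hex)
    haveI : Module.Finite A (GM ω (ModuleCat.of A M) n ⧸ LinearMap.ker φ) :=
      Module.Finite.of_injective (Submodule.liftQ _ φ le_rfl)
        (LinearMap.ker_eq_bot.1 (Submodule.ker_liftQ_eq_bot' _ _ rfl))
    exact Module.Finite.of_submodule_quotient (LinearMap.ker φ)

variable [IsLocalRing A]

/-- Vanishing of `Hom((A/p)[0], ω⟦n⟧)` for all primes follows from that for the residue field, along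
upward closed sets of degrees. -/
theorem gAnn_eq_top_prime (N : Set ℤ) (hN : ∀ n ∈ N, n + 1 ∈ N)
    (hres : ∀ n ∈ N, gAnn ω (ModuleCat.of A (A ⧸ IsLocalRing.maximalIdeal A)) n = ⊤)
    (p : PrimeSpectrum A) : ∀ n ∈ N, gAnn ω (ModuleCat.of A (A ⧸ p.asIdeal)) n = ⊤ := by
  obtain ⟨P, hP⟩ := p
  induction P using IsWellFounded.induction (· > · : Ideal A → Ideal A → Prop) with
  | ind P ih =>
    intro n hn
    by_cases hm : P = IsLocalRing.maximalIdeal A
    · subst hm; exact hres n hn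
    obtain ⟨x, hxm, hxP⟩ := SetLike.exists_of_lt
      (lt_of_le_of_ne (IsLocalRing.le_maximalIdeal hP.ne_top) hm)
    let q := Ideal.Quotient.mk P x
    let f : (A ⧸ P) →ₗ[A] A ⧸ P := x • LinearMap.id
    have hfinj : Function.Injective f := by
      rw [injective_iff_map_eq_zero]
      intro y hy
      obtain ⟨y, rfl⟩ := Ideal.Quotient.mk_surjective y
      rw [LinearMap.smul_apply, LinearMap.id_apply, ← Ideal.Quotient.mkₐ_eq_mk A, ← map_smul,
        Ideal.Quotient.mkₐ_eq_mk, Ideal.Quotient.eq_zero_iff_mem] at hy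
      exact Ideal.Quotient.eq_zero_iff_mem.2 ((hP.mem_or_mem hy).resolve_left hxP)
    have hS := shortExact_of_exact f (LinearMap.range f).mkQ hfinj (Submodule.mkQ_surjective _)
      (LinearMap.exact_map_mkQ_range f)
    have hC : gAnn ω (ModuleCat.of A ((A ⧸ P) ⧸ LinearMap.range f)) (n + 1) = ⊤ := by
      refine gAnn_eq_top_of_support ω (n + 1) _ fun Q hQ => ?_
      refine ih Q.asIdeal ?_ Q.2 (n + 1) (hN n hn)
      have hann := Module.mem_support_iff_of_finite.1 hQ
      refine lt_of_le_of_ne (le_trans (fun a ha => Module.mem_annihilator.2 fun y => ?_) hann)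
        fun heq => hxP (heq ▸ hann (Module.mem_annihilator.2 fun y => ?_))
      · obtain ⟨y, rfl⟩ := Submodule.Quotient.mk_surjective _ y
        obtain ⟨y, rfl⟩ := Ideal.Quotient.mk_surjective y
        rw [← Submodule.Quotient.mk_smul, ← Ideal.Quotient.mkₐ_eq_mk A, ← map_smul,
          Ideal.Quotient.mkₐ_eq_mk, smul_eq_mul,
          Ideal.Quotient.eq_zero_iff_mem.2 (Ideal.mul_mem_right _ _ ha), Submodule.Quotient.mk_zero]
      · obtain ⟨y, rfl⟩ := Submodule.Quotient.mk_surjective _ y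
        exact (Submodule.Quotient.mk_eq_zero _).2 ⟨y, rfl⟩
    -- multiplication by `x` is surjective
    haveI := finite_GM hω n (A ⧸ P)
    have hsurj : ∀ g : GM ω (ModuleCat.of A (A ⧸ P)) n, ∃ h : GM ω (ModuleCat.of A (A ⧸ P)) n,
        x • h = g := fun g => by
      obtain ⟨h, hh⟩ := pre_surjective_of_gAnn_eq_top ω hS n (n + 1) rfl hC g
      refine ⟨h, ?_⟩
      rw [← hh, ← pre_smul_id ω x n h]
      rfl
    have htop : (⊤ : Submodule A (GM ω (ModuleCat.of A (A ⧸ P)) n)) ≤
        IsLocalRing.maximalIdeal A • ⊤ := fun g _ => by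
      obtain ⟨h, rfl⟩ := hsurj g
      exact Submodule.smul_mem_smul hxm trivial
    have := Submodule.eq_bot_of_le_smul_of_le_jacobson_bot _ _ Module.Finite.fg_top htop
      (IsLocalRing.jacobson_eq_maximalIdeal ⊥ bot_ne_top).ge
    rw [gAnn_eq_top_iff]
    intro g
    exact (Submodule.mem_bot A).1 (this ▸ (trivial : g ∈ (⊤ : Submodule A _)))

variable (hn : Dual.IsNormalized A ω)
include hn

theorem gAnn_residue {n : ℤ} (h : n ≠ 0) :
    gAnn ω (ModuleCat.of A (A ⧸ IsLocalRing.maximalIdeal A)) n = ⊤ :=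
  (gAnn_eq_top_iff ω).2 fun f => @Subsingleton.elim _ (hn n h) f 0

theorem gAnn_pos (M : Type u) [AddCommGroup M] [Module A M] [Module.Finite A M] {n : ℤ} (h : 0 < n) :
    gAnn ω (ModuleCat.of A M) n = ⊤ :=
  gAnn_eq_top_of_support ω n M fun p _ => gAnn_eq_top_prime hω {j | 0 < j}
    (fun j (hj : 0 < j) => show 0 < j + 1 by omega)
    (fun j (hj : 0 < j) => gAnn_residue hω hn hj.ne') p n h

theorem gAnn_finLen (M : Type u) [AddCommGroup M] [Module A M] [Module.Finite A M]
    (hM : IsFiniteLength A M) {n : ℤ} (h : n ≠ 0) : gAnn ω (ModuleCat.of A M) n = ⊤ :=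
  gAnn_eq_top_of_support ω n M fun p hp => by
    rw [IsLocalRing.eq_maximalIdeal (isMaximal_of_mem_support hM hp)]
    exact gAnn_residue hω hn h

theorem gAnn_residue_zero : gAnn ω (ModuleCat.of A (A ⧸ IsLocalRing.maximalIdeal A)) 0 ≠ ⊤ := by
  intro h0
  have hres : ∀ n : ℤ, gAnn ω (ModuleCat.of A (A ⧸ IsLocalRing.maximalIdeal A)) n = ⊤ := fun n => by
    by_cases h : n = 0
    · rwa [h]
    · exact gAnn_residue hω hn h
  have hA : ∀ n : ℤ, gAnn ω (ModuleCat.of A A) n = ⊤ := fun n =>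
    gAnn_eq_top_of_support ω n A fun p _ =>
      gAnn_eq_top_prime hω Set.univ (fun _ _ => trivial) (fun j _ => hres j) p n trivial
  have hz : ∀ n : ℤ, IsZero ((DerivedCategory.homologyFunctor (ModuleCat.{u} A) n).obj ω) := fun n =>
    DR39.isZero_HF_of_ext_ring (X := ω) (n := n)
      ⟨fun f g => ((gAnn_eq_top_iff ω).1 (hA n) f).trans ((gAnn_eq_top_iff ω).1 (hA n) g).symm⟩
  haveI : IsIso (0 : ω ⟶ ω) := (DerivedCategory.isIso_iff (C := ModuleCat.{u} A) _).2 fun n =>
    ⟨0, (hz n).eq_of_src _ _, (hz n).eq_of_src _ _⟩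
  have h1 : 𝟙 ω = 0 := by
    rw [← IsIso.hom_inv_id (0 : ω ⟶ ω), zero_comp]
  exact one_ne_zero (hω.toEnd_bijective.1 (show (1 : A) • 𝟙 ω = (0 : A) • 𝟙 ω by
    rw [h1, smul_zero, smul_zero]))

/-- `Hom(H[0], ω)` detects the action of the ring on a module of finite length. -/
theorem gAnn_zero_le_annihilator (H : Type u) [AddCommGroup H] [Module A H] [Module.Finite A H]
    (hH : IsFiniteLength A H) : gAnn ω (ModuleCat.of A H) 0 ≤ Module.annihilator A H := by
  intro a ha
  by_contra hne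
  let μ : H →ₗ[A] H := a • LinearMap.id
  let I := LinearMap.range μ
  haveI : Nontrivial I := by
    obtain ⟨y, hy⟩ : ∃ y : H, a • y ≠ 0 := by
      by_contra! h; exact hne (Module.mem_annihilator.2 h)
    exact ⟨⟨a • y, y, rfl⟩, 0, fun h => hy (congrArg Subtype.val h)⟩
  have hflI : IsFiniteLength A I := hH.of_injective (f := I.subtype) (Submodule.subtype_injective _)
  -- every map on `I` extends to `H`
  have hI : gAnn ω (ModuleCat.of A I) 0 = ⊤ := by
    have hS₁ := shortExact_of_exact I.subtype I.mkQ (Submodule.subtype_injective _)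
      (Submodule.mkQ_surjective _) (LinearMap.exact_subtype_mkQ I)
    have hS₂ := shortExact_of_exact (LinearMap.ker μ.rangeRestrict).subtype μ.rangeRestrict
      (Submodule.subtype_injective _) μ.surjective_rangeRestrict (LinearMap.exact_subtype_ker_map _)
    have hflK : IsFiniteLength A (LinearMap.ker μ.rangeRestrict) :=
      hH.of_injective (f := Submodule.subtype _) (Submodule.subtype_injective _)
    rw [gAnn_eq_top_iff]
    intro v
    obtain ⟨g', rfl⟩ := pre_surjective_of_gAnn_eq_top ω hS₁ 0 1 rfl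
      (gAnn_pos hω hn (H ⧸ I) one_pos) v
    have h3 : pre ω (ModuleCat.ofHom μ.rangeRestrict) 0 (pre ω (ModuleCat.ofHom I.subtype) 0 g') = 0 := by
      rw [pre_pre, show ModuleCat.ofHom μ.rangeRestrict ≫ ModuleCat.ofHom I.subtype =
          a • 𝟙 (ModuleCat.of A H) from rfl, pre_smul_id]
      exact (mem_gAnn ω).1 ha g'
    obtain ⟨h, hh⟩ := exact₃ ω hS₂ (-1) 0 rfl _ h3
    refine hh.symm.trans ?_
    rw [show h = 0 from (gAnn_eq_top_iff ω).1
      (gAnn_finLen hω hn _ hflK (show (-1 : ℤ) ≠ 0 by decide)) h, map_zero]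
  -- hence so would the residue field be
  obtain ⟨L, hL⟩ := exists_maximal_submodule (A := A) (I := I)
  have hS₃ := shortExact_of_exact L.subtype L.mkQ (Submodule.subtype_injective _)
    (Submodule.mkQ_surjective _) (LinearMap.exact_subtype_mkQ L)
  have hflL : IsFiniteLength A L := hflI.of_injective (f := L.subtype) (Submodule.subtype_injective _)
  haveI : IsNoetherian A H := isNoetherian_of_isNoetherianRing_of_finite A H
  have := gAnn_right ω hS₃ 0 (-1) rfl
  rw [show gAnn ω (ModuleCat.of A L) (-1) = ⊤ from gAnn_finLen hω hn L hflL (by decide),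
    show gAnn ω (ModuleCat.of A I) 0 = ⊤ from hI, Ideal.top_mul, top_le_iff] at this
  obtain ⟨e⟩ := hL
  rw [gAnn_congr ω e.toModuleIso] at this
  exact gAnn_residue_zero hω hn this
where
  exists_maximal_submodule {A : Type u} [CommRing A] [IsLocalRing A] [IsNoetherianRing A] {H : Type u}
      [AddCommGroup H] [Module A H] [Module.Finite A H] {I : Submodule A H} [Nontrivial I] :
      ∃ L : Submodule A I, Nonempty ((I ⧸ L) ≃ₗ[A] A ⧸ IsLocalRing.maximalIdeal A) := by
    haveI : Module.Finite A I := inferInstance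
    obtain ⟨L, hL, -⟩ := (eq_top_or_exists_le_coatom (⊥ : Submodule A I)).resolve_left bot_ne_top
    haveI : IsSimpleModule A (I ⧸ L) := isSimpleModule_iff_isCoatom.2 hL
    obtain ⟨J, hJ, ⟨e⟩⟩ := isSimpleModule_iff_quot_maximal.1 ‹IsSimpleModule A (I ⧸ L)›
    obtain rfl := IsLocalRing.eq_maximalIdeal hJ
    exact ⟨L, ⟨e⟩⟩

end Groth.Agent.LC17
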