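import Groth.Prelude.Def_Wider
import Groth.Prelude.Def_DRing3
import Mathlib.AlgebraicGeometry.Modules.Tilde
import Mathlib.Topology.Sheaves.SheafCondition.UniqueGluing
import Mathlib.RingTheory.Spectrum.Prime.Noetherian

/-!
# Sections of a quasi-coherent sheaf over a punctured spectrum
-/

set_option autoImplicit false

universe u

open CategoryTheory AlgebraicGeometry Opposite TopologicalSpace

namespace Groth.Agent.LC17

variable {R : Type u} [CommRing R] (a : Ideal R) (M : Type u) [AddCommGroup M] [Module R M]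

/-- the sheaf of modules attached to `M`, with values in `R`-modules -/
noncomputable abbrev tsheaf := AlgebraicGeometry.modulesSpecToSheaf.obj
  (AlgebraicGeometry.tilde (R := CommRingCat.of R) (ModuleCat.of R M))

/-- restriction -/
noncomputable abbrev tres {U V : (Spec (CommRingCat.of R)).Opens} (h : V ≤ U) :
    (tsheaf M).presheaf.obj (op U) ⟶ (tsheaf M).presheaf.obj (op V) :=
  (tsheaf M).presheaf.map (homOfLE h).op

/-- the map from `M` -/
noncomputable abbrev ttoOpen (U : (Spec (CommRingCat.of R)).Opens) :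
    M →ₗ[R] (tsheaf M).presheaf.obj (op U) :=
  (AlgebraicGeometry.tilde.toOpen (R := CommRingCat.of R) (ModuleCat.of R M) U).hom

theorem tres_tres {U V W : (Spec (CommRingCat.of R)).Opens} (h : V ≤ U) (h' : W ≤ V)
    (s : (tsheaf M).presheaf.obj (op U)) : tres M h' (tres M h s) = tres M (h'.trans h) s :=
  (ConcreteCategory.congr_hom ((tsheaf M).presheaf.map_comp (homOfLE h).op (homOfLE h').op) s).symm

theorem tres_ttoOpen {U V : (Spec (CommRingCat.of R)).Opens} (h : V ≤ U) (m : M) :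
    tres M h (ttoOpen M U m) = ttoOpen M V m :=
  ConcreteCategory.congr_hom (AlgebraicGeometry.tilde.toOpen_res
    (R := CommRingCat.of R) (ModuleCat.of R M) U V (homOfLE h)) m

theorem tres_smul {U V : (Spec (CommRingCat.of R)).Opens} (h : V ≤ U) (r : R)
    (s : (tsheaf M).presheaf.obj (op U)) : tres M h (r • s) = r • tres M h s :=
  (tres M h).hom.map_smul r s

theorem isLocalizedAux {S : CommRingCat.{u}} (N : ModuleCat.{u} S) (f : S) :
    IsLocalizedModule.Away f (AlgebraicGeometry.tilde.toOpen N (PrimeSpectrum.basicOpen f)).hom :=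
  inferInstance

theorem isLocalized (f : R) :
    IsLocalizedModule (Submonoid.powers f) (ttoOpen M (PrimeSpectrum.basicOpen f)) :=
  isLocalizedAux (S := CommRingCat.of R) (ModuleCat.of R M) f

theorem smul_injective {f : R} (s : (tsheaf M).presheaf.obj (op (PrimeSpectrum.basicOpen f))) (n : ℕ)
    (hs : f ^ n • s = 0) : s = 0 := by
  have := isLocalized M f
  have hu := (Module.End.isUnit_iff _).1 (IsLocalizedModule.map_units (ttoOpen M (PrimeSpectrum.basicOpen f))
    (⟨f ^ n, n, rfl⟩ : Submonoid.powers f))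
  exact hu.1 (hs.trans (smul_zero (f ^ n)).symm)

theorem exists_num {f : R} (s : (tsheaf M).presheaf.obj (op (PrimeSpectrum.basicOpen f))) :
    ∃ (n : ℕ) (m : M), f ^ n • s = ttoOpen M (PrimeSpectrum.basicOpen f) m := by
  have := isLocalized M f
  obtain ⟨⟨m, ⟨_, n, rfl⟩⟩, h⟩ := IsLocalizedModule.surj (Submonoid.powers f)
    (ttoOpen M (PrimeSpectrum.basicOpen f)) s
  exact ⟨n, m, h⟩

theorem exists_pow_smul_eq_zero_of_toOpen {f : R} {m : M}
    (h : ttoOpen M (PrimeSpectrum.basicOpen f) m = 0) : ∃ n : ℕ, f ^ n • m = 0 := by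
  have := isLocalized M f
  obtain ⟨⟨_, n, rfl⟩, hn⟩ := (IsLocalizedModule.eq_zero_iff (Submonoid.powers f)
    (ttoOpen M (PrimeSpectrum.basicOpen f))).1 h
  exact ⟨n, hn⟩

theorem exists_pow_smul_eq_zero_of_tres {f g : R} (hle : PrimeSpectrum.basicOpen (g * f) ≤
      (PrimeSpectrum.basicOpen g : Opens (PrimeSpectrum R)))
    (s : (tsheaf M).presheaf.obj (op (PrimeSpectrum.basicOpen g)))
    (hs : tres M hle s = 0) : ∃ n : ℕ, f ^ n • s = 0 := by
  obtain ⟨k, m, hm⟩ := exists_num M s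
  have h1 : ttoOpen M (PrimeSpectrum.basicOpen (g * f)) m = 0 := by
    rw [← tres_ttoOpen M hle, ← hm, tres_smul, hs, smul_zero]
  obtain ⟨n, hn⟩ := exists_pow_smul_eq_zero_of_toOpen M h1
  refine ⟨n, smul_injective M _ (k + n) ?_⟩
  rw [pow_add, smul_smul, show g ^ k * g ^ n * f ^ n = (g * f) ^ n * g ^ k by ring, mul_smul, hm,
    ← map_smul, hn, map_zero]

theorem le_puncturedOpen {f : R} (hf : f ∈ a) :
    (PrimeSpectrum.basicOpen f : Opens (PrimeSpectrum R)) ≤ LocCoh.puncturedOpen R a :=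
  fun q hq hle => hq (hle hf)

theorem exists_basicOpen_le_of_mem {q : PrimeSpectrum R} (hq : q ∈ LocCoh.puncturedOpen R a) :
    ∃ f ∈ a, q ∈ (PrimeSpectrum.basicOpen f : Opens (PrimeSpectrum R)) :=
  Set.not_subset.1 hq

theorem eq_zero_of_local {U : (Spec (CommRingCat.of R)).Opens} {ι : Type u}
    (V : ι → (Spec (CommRingCat.of R)).Opens) (hV : ∀ i, V i ≤ U) (hcov : U ≤ iSup V)
    (s : (tsheaf M).presheaf.obj (op U)) (h : ∀ i, tres M (hV i) s = 0) : s = 0 :=
  (tsheaf M).eq_of_locally_eq' V U (fun i => homOfLE (hV i)) hcov s 0 fun i => by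
    refine (h i).trans ?_
    exact (map_zero ((tsheaf M).presheaf.map (homOfLE (hV i)).op).hom).symm

theorem eq_zero_of_basic (s : (tsheaf M).presheaf.obj (op (LocCoh.puncturedOpen R a)))
    (h : ∀ (f : R) (hf : f ∈ a), tres M (le_puncturedOpen a hf) s = 0) : s = 0 := by
  refine eq_zero_of_local M (fun f : a => PrimeSpectrum.basicOpen f.1)
    (fun f => le_puncturedOpen a f.2) (fun q hq => ?_) s fun f => h f.1 f.2
  obtain ⟨f, hf, hqf⟩ := exists_basicOpen_le_of_mem a hq
  exact Opens.mem_iSup.2 ⟨⟨f, hf⟩, hqf⟩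

/-- no torsion among sections over the punctured spectrum -/
theorem section_eq_zero_of_pow_smul (s : (tsheaf M).presheaf.obj (op (LocCoh.puncturedOpen R a)))
    (n : ℕ) (h : ∀ c ∈ a ^ n, c • s = 0) : s = 0 :=
  eq_zero_of_basic a M s fun f hf => smul_injective M _ n (by
    rw [← tres_smul, h _ (Ideal.pow_mem_pow hf n), map_zero])

theorem toOpen_punctured_eq_zero_iff [IsNoetherianRing R] (m : M) :
    ttoOpen M (LocCoh.puncturedOpen R a) m = 0 ↔ ∃ n : ℕ, ∀ c ∈ a ^ n, c • m = 0 := by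
  constructor
  · intro h
    have key : a ≤ (Module.annihilator R (R ∙ m)).radical := by
      intro f hf
      obtain ⟨n, hn⟩ := exists_pow_smul_eq_zero_of_toOpen M (f := f) (m := m)
        (by rw [← tres_ttoOpen M (le_puncturedOpen a hf), h, map_zero])
      refine ⟨n, Module.mem_annihilator.2 fun ⟨y, hy⟩ => Subtype.ext ?_⟩
      obtain ⟨c, rfl⟩ := Submodule.mem_span_singleton.1 hy
      show f ^ n • c • m = 0
      rw [smul_comm, hn, smul_zero]
    obtain ⟨N, hN⟩ := Ideal.exists_pow_le_of_le_radical_of_fg key (IsNoetherian.noetherian _)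
    exact ⟨N, fun c hc => congrArg Subtype.val
      (Module.mem_annihilator.1 (hN hc) ⟨m, Submodule.mem_span_singleton_self m⟩)⟩
  · rintro ⟨n, hn⟩
    refine section_eq_zero_of_pow_smul a M _ n fun c hc => ?_
    rw [← map_smul, hn c hc, map_zero]

theorem exists_pow_smul_mem_range [IsNoetherianRing R]
    (s : (tsheaf M).presheaf.obj (op (LocCoh.puncturedOpen R a))) :
    ∃ n : ℕ, ∀ c ∈ a ^ n, c • s ∈ LinearMap.range (ttoOpen M (LocCoh.puncturedOpen R a)) := by
  classical
  obtain ⟨G, hG⟩ := (IsNoetherian.noetherian a : Submodule.FG a)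
  have hGa : ∀ g ∈ G, g ∈ a := fun g hg => hG ▸ Submodule.subset_span hg
  have key : ∀ f ∈ a, ∃ N : ℕ, f ^ N • s ∈ LinearMap.range (ttoOpen M (LocCoh.puncturedOpen R a)) := by
    intro f hf
    obtain ⟨k, m, hm⟩ := exists_num M (tres M (le_puncturedOpen a hf) s)
    set t := f ^ k • s - ttoOpen M (LocCoh.puncturedOpen R a) m with ht
    have ht0 : tres M (le_puncturedOpen a hf) t = 0 := by
      rw [ht, map_sub, tres_smul, tres_ttoOpen, hm, sub_self]
    have hloc : ∀ g : ↥G, ∃ l : ℕ, f ^ l • tres M (le_puncturedOpen a (hGa g.1 g.2)) t = 0 := fun g =>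
      exists_pow_smul_eq_zero_of_tres M (PrimeSpectrum.basicOpen_mul_le_left g.1 f) _ (by
        rw [tres_tres, ← tres_tres M (le_puncturedOpen a hf) (PrimeSpectrum.basicOpen_mul_le_right g.1 f),
          ht0, map_zero])
    choose l hl using hloc
    set L := Finset.univ.sup l
    refine ⟨L + k, f ^ L • m, ?_⟩
    have hLt : f ^ L • t = 0 := by
      refine eq_zero_of_local M (fun g : ↥G => PrimeSpectrum.basicOpen g.1)
        (fun g => le_puncturedOpen a (hGa g.1 g.2)) (fun q hq => ?_) _ fun g => ?_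
      · obtain ⟨g, hg, hgq⟩ : ∃ g ∈ G, g ∉ q.asIdeal := by
          by_contra hc
          push Not at hc
          exact hq (SetLike.coe_subset_coe.2 (hG ▸ Submodule.span_le.2 hc))
        exact Opens.mem_iSup.2 ⟨⟨g, hg⟩, hgq⟩
      · obtain ⟨j, hj⟩ : ∃ j, L = j + l g :=
          ⟨L - l g, (Nat.sub_add_cancel (Finset.le_sup (f := l) (Finset.mem_univ g))).symm⟩
        rw [tres_smul, hj, pow_add, mul_smul, hl g, smul_zero]
    rw [map_smul, pow_add, mul_smul, ← sub_eq_zero, ← smul_sub, ← neg_sub, smul_neg, hLt, neg_zero]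
  have hle : a ≤ ((LinearMap.range (ttoOpen M (LocCoh.puncturedOpen R a))).colon {s}).radical := fun f hf => by
    obtain ⟨N, hN⟩ := key f hf
    exact ⟨N, Submodule.mem_colon_singleton.2 hN⟩
  obtain ⟨N, hN⟩ := Ideal.exists_pow_le_of_le_radical_of_fg hle (IsNoetherian.noetherian _)
  exact ⟨N, fun c hc => Submodule.mem_colon_singleton.1 (hN hc)⟩

theorem tres_punctured_eq_zero_iff [IsNoetherianRing R] {W : (Spec (CommRingCat.of R)).Opens}
    (hUW : LocCoh.puncturedOpen R a ≤ W) (s : (tsheaf M).presheaf.obj (op W)) :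
    tres M hUW s = 0 ↔ ∃ n : ℕ, ∀ c ∈ a ^ n, c • s = 0 := by
  classical
  constructor
  · intro hs
    obtain ⟨b, hb⟩ : ∃ b : Ideal R, ∀ q : PrimeSpectrum R, q ∈ W ↔ ¬ b ≤ q.asIdeal := by
      obtain ⟨S, hS⟩ := (PrimeSpectrum.isOpen_iff _).1 W.isOpen
      refine ⟨Ideal.span S, fun q => ?_⟩
      rw [Ideal.span_le, ← PrimeSpectrum.mem_zeroLocus]
      exact ⟨fun hq h => (hS.ge h) hq, fun h => not_not.1 fun hq => h (hS.le hq)⟩
    obtain ⟨G, hG⟩ := (IsNoetherian.noetherian b : Submodule.FG b)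
    have hgW : ∀ g ∈ b, (PrimeSpectrum.basicOpen g : Opens (PrimeSpectrum R)) ≤ W := fun g hg q hq =>
      (hb q).2 fun hle => hq (hle hg)
    have hGb : ∀ g ∈ G, g ∈ b := fun g hg => hG ▸ Submodule.subset_span hg
    have key : ∀ f ∈ a, ∃ N : ℕ, f ^ N • s = 0 := by
      intro f hf
      have hloc : ∀ g : ↥G, ∃ l : ℕ, f ^ l • tres M (hgW g.1 (hGb g.1 g.2)) s = 0 := fun g =>
        exists_pow_smul_eq_zero_of_tres M (PrimeSpectrum.basicOpen_mul_le_left g.1 f) _ (by
          rw [tres_tres, ← tres_tres M hUW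
            ((PrimeSpectrum.basicOpen_mul_le_right g.1 f).trans (le_puncturedOpen a hf)), hs, map_zero])
      choose l hl using hloc
      refine ⟨Finset.univ.sup l, eq_zero_of_local M (fun g : ↥G => PrimeSpectrum.basicOpen g.1)
        (fun g => hgW g.1 (hGb g.1 g.2)) (fun q hq => ?_) _ fun g => ?_⟩
      · have hq' := (hb q).1 hq
        obtain ⟨g, hg, hgq⟩ : ∃ g ∈ G, g ∉ q.asIdeal := by
          by_contra hc
          push Not at hc
          exact hq' (hG ▸ Submodule.span_le.2 hc)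
        exact Opens.mem_iSup.2 ⟨⟨g, hg⟩, hgq⟩
      · obtain ⟨j, hj⟩ : ∃ j, Finset.univ.sup l = j + l g :=
          ⟨_, (Nat.sub_add_cancel (Finset.le_sup (f := l) (Finset.mem_univ g))).symm⟩
        rw [tres_smul, hj, pow_add, mul_smul, hl g, smul_zero]
    have hle : a ≤ ((⊥ : Submodule R ((tsheaf M).presheaf.obj (op W))).colon {s}).radical := fun f hf => by
      obtain ⟨N, hN⟩ := key f hf
      exact ⟨N, Submodule.mem_colon_singleton.2 ((Submodule.mem_bot R).2 hN)⟩
    obtain ⟨N, hN⟩ := Ideal.exists_pow_le_of_le_radical_of_fg hle (IsNoetherian.noetherian _)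
    exact ⟨N, fun c hc => (Submodule.mem_bot R).1 (Submodule.mem_colon_singleton.1 (hN hc))⟩
  · rintro ⟨n, hn⟩
    exact section_eq_zero_of_pow_smul a M _ n fun c hc => by rw [← tres_smul, hn c hc, map_zero]

theorem mem_iSup_torsionBy_iff {N : Type u} [AddCommGroup N] [Module R N] (x : N) :
    x ∈ ⨆ n : ℕ, LocCoh.torsionBy (a ^ n) N ↔ ∃ n : ℕ, ∀ c ∈ a ^ n, c • x = 0 := by
  have hdir : Directed (· ≤ ·) fun n : ℕ => LocCoh.torsionBy (a ^ n) N :=
    (Monotone.directed_le fun i j hij => Submodule.torsionBySet_le_torsionBySet_of_subset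
      (Ideal.pow_le_pow_right hij))
  rw [Submodule.mem_iSup_of_directed _ hdir]
  refine exists_congr fun n => ?_
  rw [Submodule.mem_torsionBySet_iff]
  exact ⟨fun h c hc => h ⟨c, hc⟩, fun h c => h c.1 c.2⟩

end Groth.Agent.LC17
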