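import Groth.Agent.LC17.IDepth
import Mathlib.Algebra.Module.LocalizedModule.Submodule
import Mathlib.RingTheory.Localization.Ideal
import Mathlib.RingTheory.Localization.Finiteness

set_option autoImplicit false

universe u

open scoped Pointwise
open Groth.Agent.LC15

namespace Groth.Agent.LC17

variable {R : Type u} [CommRing R] (S : Submonoid R)
variable {M N P : Type u} [AddCommGroup M] [Module R M] [AddCommGroup N] [Module R N]
  [AddCommGroup P] [Module R P]

/-- every element is killed by an element of `S` -/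
def Nul (M : Type u) [AddCommGroup M] [Module R M] : Prop := ∀ y : M, ∃ u ∈ S, u • y = 0

/-- after localizing at `S`, multiplication by `c` is zero -/
def KN (c : R) (M : Type u) [AddCommGroup M] [Module R M] : Prop := ∀ y : M, ∃ u ∈ S, u • c • y = 0

variable {S}

lemma KN_one : KN S 1 M ↔ Nul S M := by simp [KN, Nul]

lemma Nul.kn (h : Nul S M) (c : R) : KN S c M := fun y => h (c • y)

lemma KN.mul_left {c : R} (h : KN S c M) (d : R) : KN S (d * c) M := fun y => by
  obtain ⟨u, hu, h⟩ := h (d • y)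
  exact ⟨u, hu, by rw [mul_comm, mul_smul, h]⟩

lemma KN.nul {c : R} (hc : c ∈ S) (h : KN S c M) : Nul S M := fun y => by
  obtain ⟨u, hu, h⟩ := h y
  exact ⟨u * c, mul_mem hu hc, by rw [mul_smul, h]⟩

lemma KN.of_injective {c : R} {f : M →ₗ[R] N} (hf : Function.Injective f) (h : KN S c N) :
    KN S c M := fun y => by
  obtain ⟨u, hu, h⟩ := h (f y)
  exact ⟨u, hu, hf (by rw [map_smul, map_smul, h, map_zero])⟩

lemma KN.of_surjective {c : R} {f : M →ₗ[R] N} (hf : Function.Surjective f) (h : KN S c M) :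
    KN S c N := fun y => by
  obtain ⟨y, rfl⟩ := hf y
  obtain ⟨u, hu, h⟩ := h y
  exact ⟨u, hu, by rw [← map_smul, ← map_smul, h, map_zero]⟩

lemma KN.middle {c d : R} {f : M →ₗ[R] N} {g : N →ₗ[R] P} (hfg : Function.Exact f g)
    (h1 : KN S c M) (h2 : KN S d P) : KN S (c * d) N := fun y => by
  obtain ⟨u, hu, hy⟩ := h2 (g y)
  rw [← map_smul, ← map_smul] at hy
  obtain ⟨z, hz⟩ := (hfg _).mp hy
  obtain ⟨v, hv, hzv⟩ := h1 z
  refine ⟨v * u, mul_mem hv hu, ?_⟩
  have h3 := congrArg f hzv
  rw [map_smul, map_smul, hz, map_zero] at h3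
  simp only [smul_smul] at h3 ⊢
  rw [← h3]
  congr 1
  ring

lemma Nul.of_injective {f : M →ₗ[R] N} (hf : Function.Injective f) (h : Nul S N) : Nul S M :=
  KN_one.mp ((KN_one.mpr h).of_injective hf)

lemma Nul.of_surjective {f : M →ₗ[R] N} (hf : Function.Surjective f) (h : Nul S M) : Nul S N :=
  KN_one.mp ((KN_one.mpr h).of_surjective hf)

lemma Nul.middle {f : M →ₗ[R] N} {g : N →ₗ[R] P} (hfg : Function.Exact f g)
    (h1 : Nul S M) (h2 : Nul S P) : Nul S N :=
  KN_one.mp (by simpa using (KN_one.mpr h1).middle hfg (KN_one.mpr h2))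

lemma nul_of_subsingleton [Subsingleton M] : Nul S M := fun y =>
  ⟨1, S.one_mem, Subsingleton.elim _ _⟩

lemma exists_kill [Module.Finite R M] (h : Nul S M) : ∃ u ∈ S, ∀ y : M, u • y = 0 := by
  classical
  obtain ⟨s, hs⟩ := (Module.Finite.fg_top : (⊤ : Submodule R M).FG)
  choose u hu hk using h
  refine ⟨∏ y ∈ s, u y, prod_mem fun y _ => hu y, fun y => ?_⟩
  have hy : y ∈ Submodule.span R (s : Set M) := hs ▸ trivial
  induction hy using Submodule.span_induction with
  | mem y hy => rw [← Finset.prod_erase_mul _ _ hy, mul_smul, hk, smul_zero]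
  | zero => simp
  | add a b _ _ ha hb => rw [smul_add, ha, hb, add_zero]
  | smul r a _ ha => rw [smul_comm, ha, smul_zero]

lemma smul_H_eq_zero (I : Ideal R) (i : ℕ) {r : R} (hr : ∀ m : M, r • m = 0) (y : LocCoh.H I i M) :
    r • y = 0 := by
  rw [← Hmap_lsmul I i r y, show LinearMap.lsmul R M r = 0 from LinearMap.ext hr, Hmap_zero,
    LinearMap.zero_apply]

lemma nul_H_of_nul [Module.Finite R M] (I : Ideal R) (i : ℕ) (h : Nul S M) :
    Nul S (LocCoh.H I i M) := by
  obtain ⟨u, hu, hk⟩ := exists_kill h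
  exact fun y => ⟨u, hu, smul_H_eq_zero I i hk y⟩

/-- multiplication by `x` has `S`-torsion kernel -/
def RegAt (S : Submonoid R) (x : R) (M : Type u) [AddCommGroup M] [Module R M] : Prop :=
  Nul S (LinearMap.ker (LinearMap.lsmul R M x))

section Seq

variable [IsNoetherianRing R] [Module.Finite R M] (I : Ideal R) {x : R}

omit [IsNoetherianRing R] [Module.Finite R M] in
lemma range_lsmul_eq (x : R) : LinearMap.range (LinearMap.lsmul R M x) = x • (⊤ : Submodule R M) := by
  ext y
  simp [Submodule.mem_smul_pointwise_iff_exists]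

omit [IsNoetherianRing R] [Module.Finite R M] in
lemma exact_range_quot (x : R) :
    Function.Exact (LinearMap.range (LinearMap.lsmul R M x)).subtype (x • (⊤ : Submodule R M)).mkQ :=
  LinearMap.exact_iff.mpr (by rw [Submodule.ker_mkQ, Submodule.range_subtype, range_lsmul_eq])

lemma nul_H_succ_of_quot (hx : RegAt S x M) (hxI : x ∈ I) (i : ℕ)
    (h : Nul S (LocCoh.H I i (QuotSMulTop x M))) : Nul S (LocCoh.H I (i + 1) M) := by
  set F := LinearMap.lsmul R M x
  have hjp : F = (LinearMap.range F).subtype ∘ₗ F.rangeRestrict := rfl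
  have key : ∀ y : LocCoh.H I (i + 1) M, (∃ u ∈ S, u • x • y = 0) → ∃ u ∈ S, u • y = 0 := by
    rintro y ⟨u, hu, hy⟩
    have h1 : Hmap I (i + 1) (LinearMap.range F).subtype
        (Hmap I (i + 1) F.rangeRestrict (u • y)) = 0 := by
      rw [← LinearMap.comp_apply, ← Hmap_comp, ← hjp, Hmap_lsmul, smul_comm, hy]
    obtain ⟨w, hw⟩ := (H_exact₁ I i (Submodule.subtype_injective _) (exact_range_quot x)
      (Submodule.mkQ_surjective _) _).mp h1
    obtain ⟨v, hv, hvw⟩ := h w
    have h2 : Hmap I (i + 1) F.rangeRestrict ((v * u) • y) = 0 := by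
      rw [mul_smul, map_smul, ← hw, ← map_smul, hvw, map_zero]
    obtain ⟨z, hz⟩ := (H_exact₂ I (i + 1) (Submodule.subtype_injective _)
      (LinearMap.exact_iff.mpr (by rw [LinearMap.ker_rangeRestrict, Submodule.range_subtype]))
      F.surjective_rangeRestrict _).mp h2
    obtain ⟨w', hw', hwz⟩ := nul_H_of_nul I (i + 1) hx z
    exact ⟨w' * (v * u), mul_mem hw' (mul_mem hv hu), by rw [mul_smul, ← hz, ← map_smul, hwz, map_zero]⟩
  intro y
  obtain ⟨k, hk⟩ := isPowerTorsion_H I (i + 1) y
  suffices H : ∀ k : ℕ, ∀ y : LocCoh.H I (i + 1) M, (∃ u ∈ S, u • x ^ k • y = 0) → ∃ u ∈ S, u • y = 0 from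
    H k y ⟨1, S.one_mem, by rw [hk _ (Ideal.pow_mem_pow hxI k), smul_zero]⟩
  intro k
  induction k with
  | zero => intro y hy; simpa using hy
  | succ k ih =>
    rintro y ⟨u, hu, hy⟩
    rw [pow_succ', mul_smul] at hy
    exact ih _ (key _ ⟨u, hu, hy⟩)

lemma nul_H_quot_of (hx : RegAt S x M) (i : ℕ) (h0 : Nul S (LocCoh.H I i M))
    (h1 : Nul S (LocCoh.H I (i + 1) M)) : Nul S (LocCoh.H I i (QuotSMulTop x M)) := by
  set F := LinearMap.lsmul R M x
  have hex : Function.Exact (LinearMap.ker F).subtype F.rangeRestrict :=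
    LinearMap.exact_iff.mpr (by rw [LinearMap.ker_rangeRestrict, Submodule.range_subtype])
  have hI : Nul S (LocCoh.H I (i + 1) (LinearMap.range F)) :=
    Nul.middle (H_exact₃ I (i + 1) (Submodule.subtype_injective _) hex F.surjective_rangeRestrict)
      h1 (nul_H_of_nul I (i + 1 + 1) hx)
  exact Nul.middle (H_exact₃ I i (Submodule.subtype_injective _) (exact_range_quot x)
    (Submodule.mkQ_surjective _)) h0 hI

end Seq

section Localize

variable (S) [IsNoetherianRing R] [Module.Finite R M]

local notation "L" => Localization S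
local notation "MS" => LocalizedModule S M

lemma regAt_iff (x : R) : RegAt S x M ↔ IsSMulRegular MS (algebraMap R L x) := by
  constructor
  · intro h
    refine isSMulRegular_iff_right_eq_zero_of_smul.mpr (fun z hz => ?_)
    induction z using LocalizedModule.induction_on with
    | _ m s =>
      rw [algebraMap_smul, LocalizedModule.smul'_mk, ← LocalizedModule.zero_mk (1 : S),
        LocalizedModule.mk_eq] at hz
      obtain ⟨u, hu⟩ := hz
      simp only [one_smul, smul_zero, Submonoid.smul_def] at hu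
      obtain ⟨v, hv, hvm⟩ := h ⟨(u : R) • m, by
        show x • (u : R) • m = 0
        rw [smul_comm, hu]⟩
      rw [← LocalizedModule.zero_mk (1 : S), LocalizedModule.mk_eq]
      refine ⟨⟨v, hv⟩ * u, ?_⟩
      have hvm' : v • (u : R) • m = 0 := congrArg Subtype.val hvm
      simp [Submonoid.smul_def, mul_smul, hvm']
  · intro h m
    have h1 : algebraMap R L x • LocalizedModule.mkLinearMap S M m.1 = 0 := by
      rw [algebraMap_smul, ← map_smul, show x • m.1 = 0 from m.2, map_zero]
    obtain ⟨u, hu⟩ := LocalizedModule.mem_ker_mkLinearMap_iff.mp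
      (show m.1 ∈ LinearMap.ker (LocalizedModule.mkLinearMap S M) from h.right_eq_zero_of_smul h1)
    exact ⟨u, hu.1, Subtype.ext hu.2⟩

lemma gamma_bot_of_nul (I : Ideal R) (h : Nul S (LocCoh.H I 0 M)) :
    gamma (I.map (algebraMap R L)) MS = ⊥ := by
  refine (Submodule.eq_bot_iff _).mpr fun z hz => ?_
  induction z using LocalizedModule.induction_on with
  | _ m s =>
    obtain ⟨k, hk⟩ := hz
    have h1 : ∀ a ∈ I ^ k, ∃ u ∈ S, u • a • m = 0 := fun a ha => by
      have h2 := hk (algebraMap R L a) (by rw [← Ideal.map_pow]; exact Ideal.mem_map_of_mem _ ha)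
      rw [algebraMap_smul, LocalizedModule.smul'_mk, ← LocalizedModule.zero_mk (1 : S),
        LocalizedModule.mk_eq] at h2
      obtain ⟨u, hu⟩ := h2
      exact ⟨u, u.2, by simpa [Submonoid.smul_def] using hu⟩
    classical
    obtain ⟨t, ht⟩ := (IsNoetherian.noetherian (I ^ k) : Submodule.FG (I ^ k))
    choose! u hu hk' using h1
    have hsub : ∀ a ∈ t, a ∈ I ^ k := fun a ha => ht ▸ Submodule.subset_span ha
    obtain ⟨v, hv, hvm⟩ := h ((H0equiv I M).symm ⟨(∏ a ∈ t, u a) • m, k, fun a ha => by
      rw [← ht] at ha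
      induction ha using Submodule.span_induction with
      | mem a ha => rw [smul_comm, ← Finset.prod_erase_mul _ _ ha, mul_smul, hk' a (hsub a ha), smul_zero]
      | zero => simp
      | add a b _ _ ha hb => rw [add_smul, ha, hb, add_zero]
      | smul r a _ ha => rw [smul_assoc, ha, smul_zero]⟩)
    rw [← map_smul, LinearEquiv.map_eq_zero_iff] at hvm
    have hvm' : v • (∏ a ∈ t, u a) • m = 0 := congrArg Subtype.val hvm
    rw [← LocalizedModule.zero_mk (1 : S), LocalizedModule.mk_eq]
    exact ⟨⟨v * ∏ a ∈ t, u a, mul_mem hv (prod_mem fun a ha => hu a (hsub a ha))⟩, by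
      simp [Submonoid.smul_def, mul_smul, hvm']⟩

/-- localization commutes with reduction modulo an element -/
noncomputable def quotLocEquiv (x : R) :
    LocalizedModule S (QuotSMulTop x M) ≃ₗ[L] QuotSMulTop (algebraMap R L x) MS :=
  (localizedQuotientEquiv S (x • (⊤ : Submodule R M))).symm.trans
    (Submodule.quotEquivOfEq _ _ (by
      apply le_antisymm
      · rintro z ⟨m, hm, s, rfl⟩
        obtain ⟨n, -, rfl⟩ := (Submodule.mem_smul_pointwise_iff_exists _ _ _).mp hm
        refine (Submodule.mem_smul_pointwise_iff_exists _ _ _).mpr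
          ⟨IsLocalizedModule.mk' (LocalizedModule.mkLinearMap S M) n s, trivial, ?_⟩
        rw [algebraMap_smul, IsLocalizedModule.mk'_smul]
      · intro z hz
        obtain ⟨w, -, rfl⟩ := (Submodule.mem_smul_pointwise_iff_exists _ _ _).mp hz
        obtain ⟨⟨n, s⟩, rfl⟩ := IsLocalizedModule.mk'_surjective S (LocalizedModule.mkLinearMap S M) w
        refine ⟨x • n, Submodule.smul_mem_pointwise_smul _ _ _ trivial, s, ?_⟩
        simp only [Function.uncurry_apply_pair]
        rw [algebraMap_smul, IsLocalizedModule.mk'_smul]))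

lemma nul_of_smul_top (I : Ideal R)
    (h : I.map (algebraMap R L) • (⊤ : Submodule L MS) = ⊤) (i : ℕ) :
    Nul S (LocCoh.H I i M) := by
  obtain ⟨b, hb, hbm⟩ := exists_smul_eq_self (R := L) _ h
  obtain ⟨⟨⟨a, ha⟩, s⟩, hab⟩ := (IsLocalization.mem_map_algebraMap_iff S L).mp hb
  have hN : Nul S (LinearMap.range (LinearMap.lsmul R M ((s : R) - a))) := by
    rintro ⟨_, m, rfl⟩
    have h1 : LocalizedModule.mkLinearMap S M (((s : R) - a) • m) = 0 := by
      rw [map_smul, ← algebraMap_smul L, map_sub, sub_smul, sub_eq_zero]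
      conv_rhs => rw [show algebraMap R L a = b * algebraMap R L s from hab.symm, mul_smul, hbm]
    obtain ⟨u, hu⟩ := LocalizedModule.mem_ker_mkLinearMap_iff.mp (LinearMap.mem_ker.mpr h1)
    exact ⟨u, hu.1, Subtype.ext hu.2⟩
  obtain ⟨v, hv, hvk⟩ := exists_kill hN
  intro y
  obtain ⟨k, hk⟩ := isPowerTorsion_H I i y
  have key : ∀ j, ((v * (s : R)) ^ j) • y = (v * a) ^ j • y := by
    intro j
    induction j with
    | zero => simp
    | succ j ih =>
      have h0 : ((v * ((s : R) - a))) • y = 0 := smul_H_eq_zero I i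
        (fun m => by rw [mul_smul]; exact congrArg Subtype.val (hvk ⟨_, m, rfl⟩)) y
      rw [mul_sub, sub_smul, sub_eq_zero] at h0
      rw [pow_succ, mul_smul, h0, smul_comm, ih, smul_smul, ← pow_succ']
  refine ⟨(v * (s : R)) ^ k, pow_mem (mul_mem hv s.2) k, ?_⟩
  rw [key, mul_pow, mul_smul, hk _ (Ideal.pow_mem_pow ha k), smul_zero]

theorem natCast_le_idealDepth_loc_iff (I : Ideal R) : ∀ (n : ℕ) (M : Type u) [AddCommGroup M]
    [Module R M] [Module.Finite R M],
    (n : ℕ∞) ≤ LocCoh.idealDepth (I.map (algebraMap R L)) (LocalizedModule S M) ↔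
      ∀ i, i < n → Nul S (LocCoh.H I i M)
  | 0, M, _, _, _ => by simp
  | n + 1, M, _, _, _ => by
    haveI : IsNoetherianRing L := IsLocalization.isNoetherianRing S L inferInstance
    haveI : Module.Finite L (LocalizedModule S M) :=
      Module.Finite.of_isLocalizedModule S (LocalizedModule.mkLinearMap S M)
    by_cases htop : I.map (algebraMap R L) • (⊤ : Submodule L (LocalizedModule S M)) = ⊤
    · exact ⟨fun _ i _ => nul_of_smul_top S I htop i, fun _ => by
        rw [idealDepth_eq_top _ htop]; exact le_top⟩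
    have step : ∀ x ∈ I, RegAt S x M →
        (((n + 1 : ℕ) : ℕ∞) ≤ LocCoh.idealDepth (I.map (algebraMap R L)) (LocalizedModule S M) ↔
          ∀ i, i < n → Nul S (LocCoh.H I i (QuotSMulTop x M))) := fun x hxI hx => by
      haveI : Module.Finite L (LocalizedModule S (QuotSMulTop x M)) :=
        Module.Finite.of_isLocalizedModule S (LocalizedModule.mkLinearMap S _)
      rw [natCast_succ_le_idealDepth_iff _ (Ideal.mem_map_of_mem _ hxI) ((regAt_iff S x).mp hx),
        ← idealDepth_congr _ (quotLocEquiv S x), natCast_le_idealDepth_loc_iff I n (QuotSMulTop x M)]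
    have getx : gamma (I.map (algebraMap R L)) (LocalizedModule S M) = ⊥ → ∃ x ∈ I, RegAt S x M := by
      intro hg
      obtain ⟨b, hb, hreg⟩ := exists_isSMulRegular_mem hg
      obtain ⟨⟨⟨a, ha⟩, s⟩, hab⟩ := (IsLocalization.mem_map_algebraMap_iff S L).mp hb
      refine ⟨a, ha, (regAt_iff S a).mpr ?_⟩
      rw [show algebraMap R L a = b * algebraMap R L s from hab.symm]
      exact hreg.mul ((IsLocalization.map_units L s).isSMulRegular _)
    constructor
    · intro h i hi
      obtain ⟨x, hxI, hx⟩ := getx ((subsingleton_H0_iff _ _).mp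
        ((natCast_le_idealDepth_iff _ _ _).mp h 0 n.succ_pos))
      match i with
      | 0 =>
        intro y
        obtain ⟨k, hk⟩ := isPowerTorsion_H I 0 y
        have h1 : x ^ k • (H0equiv I M y : M) = 0 := by
          rw [← Submodule.coe_smul, ← map_smul, hk _ (Ideal.pow_mem_pow hxI k)]
          simp
        have hz : LocalizedModule.mkLinearMap S M (H0equiv I M y : M) = 0 := by
          refine (((regAt_iff S x).mp hx).pow k).right_eq_zero_of_smul ?_
          rw [← map_pow, algebraMap_smul, ← map_smul, h1, map_zero]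
        obtain ⟨u, hu⟩ := LocalizedModule.mem_ker_mkLinearMap_iff.mp (LinearMap.mem_ker.mpr hz)
        refine ⟨u, hu.1, (H0equiv I M).injective (Subtype.ext ?_)⟩
        rw [map_smul, map_zero]
        exact hu.2
      | j + 1 => exact nul_H_succ_of_quot I hx hxI j ((step x hxI hx).mp h j (by omega))
    · intro h
      obtain ⟨x, hxI, hx⟩ := getx (gamma_bot_of_nul S I (h 0 n.succ_pos))
      exact (step x hxI hx).mpr fun i hi => nul_H_quot_of I hx i (h i (by omega)) (h (i + 1) (by omega))

end Localize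

end Groth.Agent.LC17
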