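import Groth.Agent.LC17.Transfer
import Groth.Agent.EGA4Alg4.Depth
import Mathlib.RingTheory.Ideal.KrullsHeightTheorem
import Mathlib.RingTheory.Depth.Rees

/-!
Depth over local rings via localization.
-/

set_option autoImplicit false

universe u

open scoped Pointwise
open Groth.Agent.LC15 RingTheory.Sequence IsLocalRing

namespace Groth.Agent.LC17

variable {R : Type u} [CommRing R] [IsNoetherianRing R] [IsLocalRing R]
variable {M : Type u} [AddCommGroup M] [Module R M] [Module.Finite R M]

lemma depth_loc_maximalIdeal :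
    LocCoh.depth (Localization.AtPrime (maximalIdeal R))
      (LocalizedModule (maximalIdeal R).primeCompl M) = LocCoh.depth R M := by
  have h : ∀ n : ℕ, ((n : ℕ∞) ≤ LocCoh.depth (Localization.AtPrime (maximalIdeal R))
      (LocalizedModule (maximalIdeal R).primeCompl M) ↔ (n : ℕ∞) ≤ LocCoh.depth R M) := fun n => by
    rw [natCast_le_depth_loc_iff, LocCoh.depth, natCast_le_idealDepth_iff]
    refine forall₂_congr fun i _ => ⟨fun h => subsingleton_of_forall_eq 0 fun y => ?_,
      fun _ => nul_of_subsingleton⟩
    obtain ⟨u, hu, huy⟩ := h y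
    exact (IsLocalRing.notMem_maximalIdeal.mp hu).smul_eq_zero.mp huy
  exact le_antisymm (eNat_le_of_forall fun n => (h n).mp) (eNat_le_of_forall fun n => (h n).mpr)

theorem isWeaklyRegular_of_le_idealDepth (a : Ideal R) (ha : a ≤ maximalIdeal R) :
    ∀ (xs : List R) (M : Type u) [AddCommGroup M] [Module R M] [Module.Finite R M],
    (∀ x ∈ xs, x ∈ a) → a ≤ Ideal.ofList xs ⊔ Module.annihilator R M →
    (xs.length : ℕ∞) ≤ LocCoh.idealDepth a M → IsWeaklyRegular M xs
  | [], M, _, _, _, _, _, _ => IsWeaklyRegular.nil R M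
  | x :: l, M, _, _, _, hmem, hle, hd => by
    have hxa : x ∈ a := hmem x (List.mem_cons_self ..)
    have hx : IsSMulRegular M x := by
      by_contra hx
      obtain ⟨q, hq, hxq⟩ : ∃ q ∈ associatedPrimes R M, x ∈ q := by
        have h1 : x ∈ ⋃ q ∈ associatedPrimes R M, (q : Set R) := by
          rw [biUnion_associatedPrimes_eq_compl_regular]; exact hx
        simpa using h1
      haveI := IsAssociatedPrime.isPrime hq
      obtain ⟨m, hm⟩ := exists_annihilator_mem hq
      have hann : Module.annihilator R M ≤ q := fun r hr =>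
        (hm r).mp (Module.mem_annihilator.mp hr m)
      have hJ : q ⊔ Ideal.ofList l ≤ maximalIdeal R := sup_le (le_maximalIdeal Ideal.IsPrime.ne_top')
        (Ideal.span_le.mpr fun r hr => ha (hmem r (List.mem_cons_of_mem _ hr)))
      obtain ⟨P, hP, -⟩ := Ideal.exists_minimalPrimes_le hJ
      haveI := hP.isPrime
      have hqP : q ≤ P := le_sup_left.trans hP.le
      have haP : a ≤ P := hle.trans (sup_le (by
        rw [Ideal.ofList_cons]
        exact sup_le ((Ideal.span_singleton_le_iff_mem _).mpr (hqP hxq)) (le_sup_right.trans hP.le))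
        (hann.trans hqP))
      have hq0 : LocCoh.depth (Localization.AtPrime q) (LocalizedModule q.primeCompl M) = 0 := by
        by_contra hne
        exact not_nul_H0_of_associated q le_rfl hm ((natCast_le_depth_loc_iff q 1).mp
          (by rw [Nat.cast_one]; exact ENat.one_le_iff_ne_zero.mpr hne) 0 zero_lt_one)
      have hht : htq q P ≤ (l.length : ℕ∞) := by
        classical
        have hmin : P.map (Ideal.Quotient.mk q) ∈
            (Ideal.span ((Ideal.Quotient.mk q) '' {r | r ∈ l})).minimalPrimes := by
          haveI := isPrime_map_mk (q := P) hqP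
          refine ⟨⟨inferInstance, Ideal.span_le.mpr ?_⟩, fun Q ⟨hQ, hQle⟩ hQP => ?_⟩
          · rintro _ ⟨r, hr, rfl⟩
            exact Ideal.mem_map_of_mem _ (hP.le (Ideal.mem_sup_right (Ideal.subset_span hr)))
          · haveI := hQ
            have h2 : P ≤ Q.comap (Ideal.Quotient.mk q) := hP.2
              ⟨inferInstance, sup_le (fun r hr => by
                rw [Ideal.mem_comap, Ideal.Quotient.eq_zero_iff_mem.mpr hr]; exact zero_mem _)
                (Ideal.span_le.mpr fun r hr => hQle (Ideal.subset_span ⟨r, hr, rfl⟩))⟩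
              (by
                intro r hr
                exact (comap_map_mk' hqP).le (hQP hr))
            exact Ideal.map_le_iff_le_comap.mpr h2
        have hfin : ((Ideal.Quotient.mk q) '' {r | r ∈ l}).Finite := (List.finite_toSet l).image _
        refine (Ideal.height_le_card_of_mem_minimalPrimes_span hfin hmin).trans (Nat.cast_le.mpr ?_)
        calc _ ≤ ({r | r ∈ l} : Set R).ncard := Set.ncard_image_le (List.finite_toSet l)
          _ ≤ l.length := by
            rw [show ({r | r ∈ l} : Set R) = ↑l.toFinset by ext; simp, Set.ncard_coe_finset]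
            exact l.toFinset_card_le
      have h3 := (hd.trans (idealDepth_le_depth_loc P haP)).trans
        ((depth_loc_le_add_height (M := M) hqP).trans (add_le_add_right hht _))
      rw [hq0, zero_add, List.length_cons] at h3
      exact absurd (Nat.cast_le.mp h3) (by omega)
    refine IsWeaklyRegular.cons hx (isWeaklyRegular_of_le_idealDepth a ha l _
      (fun r hr => hmem r (List.mem_cons_of_mem _ hr)) ?_
      ((natCast_succ_le_idealDepth_iff a hxa hx l.length).mp (by simpa using hd)))
    refine hle.trans (sup_le ?_ ?_)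
    · rw [Ideal.ofList_cons]
      refine sup_le ((Ideal.span_singleton_le_iff_mem _).mpr
        (Ideal.mem_sup_right (Module.mem_annihilator.mpr fun y => ?_))) le_sup_left
      obtain ⟨y, rfl⟩ := Submodule.mkQ_surjective _ y
      rw [← map_smul, Submodule.mkQ_apply, Submodule.Quotient.mk_eq_zero]
      exact Submodule.smul_mem_pointwise_smul _ _ _ trivial
    · exact le_sup_of_le_right
        ((x • (⊤ : Submodule R M)).mkQ.annihilator_le_of_surjective (Submodule.mkQ_surjective _))

theorem idealDepth_le_length (a : Ideal R) (ha : a ≤ maximalIdeal R) :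
    ∀ (xs : List R) (M : Type u) [AddCommGroup M] [Module R M] [Module.Finite R M] [Nontrivial M],
    (∀ x ∈ xs, x ∈ a) → a ≤ Ideal.ofList xs ⊔ Module.annihilator R M →
    IsWeaklyRegular M xs → ¬ ((xs.length + 1 : ℕ) : ℕ∞) ≤ LocCoh.idealDepth a M
  | [], M, _, _, _, _, _, hle, _ => fun hd => by
    rw [Ideal.ofList_nil, bot_sup_eq] at hle
    have h0 := (subsingleton_H0_iff a M).mp ((natCast_le_idealDepth_iff a M 1).mp hd 0 zero_lt_one)
    obtain ⟨y, hy⟩ := exists_ne (0 : M)
    refine hy ((Submodule.eq_bot_iff _).mp h0 y ⟨1, fun r hr => ?_⟩)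
    exact Module.mem_annihilator.mp (hle (by simpa using hr)) y
  | x :: l, M, _, _, _, _, hmem, hle, hreg => fun hd => by
    rw [isWeaklyRegular_cons_iff] at hreg
    have hxa : x ∈ a := hmem x (List.mem_cons_self ..)
    haveI : Nontrivial (QuotSMulTop x M) := Submodule.Quotient.nontrivial_iff.mpr
      (Submodule.top_ne_pointwise_smul_of_mem_jacobson_annihilator
        (IsLocalRing.maximalIdeal_le_jacobson _ (ha hxa))).symm
    refine idealDepth_le_length a ha l _ (fun r hr => hmem r (List.mem_cons_of_mem _ hr)) ?_ hreg.2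
      ((natCast_succ_le_idealDepth_iff a hxa hreg.1 (l.length + 1)).mp (by simpa using hd))
    refine hle.trans (sup_le ?_ ?_)
    · rw [Ideal.ofList_cons]
      refine sup_le ((Ideal.span_singleton_le_iff_mem _).mpr
        (Ideal.mem_sup_right (Module.mem_annihilator.mpr fun y => ?_))) le_sup_left
      obtain ⟨y, rfl⟩ := Submodule.mkQ_surjective _ y
      rw [← map_smul, Submodule.mkQ_apply, Submodule.Quotient.mk_eq_zero]
      exact Submodule.smul_mem_pointwise_smul _ _ _ trivial
    · exact le_sup_of_le_right
        ((x • (⊤ : Submodule R M)).mkQ.annihilator_le_of_surjective (Submodule.mkQ_surjective _))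

theorem natCast_sub_le_idealDepth_annihilator (N : Type u) [AddCommGroup N] [Module R N]
    [Module.Finite R N] (d r : ℕ) (hd : (d : ℕ∞) ≤ LocCoh.depth R M)
    (hr : Module.supportDim R N ≤ (r : WithBot ℕ∞)) :
    ((d - r : ℕ) : ℕ∞) ≤ LocCoh.idealDepth (Module.annihilator R N) M := by
  rw [idealDepth_eq_iInf]
  refine le_iInf₂ fun q hq => ?_
  have h1 : htq q.asIdeal (maximalIdeal R) ≤ (r : ℕ∞) := by
    have h2 : ((htq q.asIdeal (maximalIdeal R) : ℕ∞) : WithBot ℕ∞) ≤ (r : WithBot ℕ∞) := by
      haveI := isPrime_map_mk (q := maximalIdeal R) (le_maximalIdeal (Ideal.IsPrime.ne_top' : q.asIdeal ≠ ⊤))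
      refine le_trans (Ideal.height_le_ringKrullDim_of_isPrime) (le_trans ?_
        (le_of_eq_of_le (Module.supportDim_eq_ringKrullDim_quotient_annihilator R N).symm hr))
      exact ringKrullDim_le_of_surjective _ (Ideal.Quotient.factor_surjective hq)
    exact WithBot.coe_le_coe.mp h2
  rw [← depth_loc_maximalIdeal] at hd
  have h3 := hd.trans ((depth_loc_le_add_height (p := q.asIdeal) (s := maximalIdeal R) (M := M)
    (le_maximalIdeal Ideal.IsPrime.ne_top')).trans (add_le_add_right h1 _))
  cases hdq : LocCoh.depth (Localization.AtPrime q.asIdeal)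
      (LocalizedModule q.asIdeal.primeCompl M) with
  | top => exact le_top
  | coe k =>
    rw [hdq, ← Nat.cast_add, Nat.cast_le] at h3
    exact Nat.cast_le.mpr (by omega)

theorem subsingleton_ext_of_depth (N : Type u) [AddCommGroup N] [Module R N] [Module.Finite R N]
    [Nontrivial M] [Nontrivial N] (d r i : ℕ) (hd : (d : ℕ∞) ≤ LocCoh.depth R M)
    (hr : Module.supportDim R N ≤ (r : WithBot ℕ∞)) (hi : i + r < d) :
    Subsingleton (CategoryTheory.Abelian.Ext (ModuleCat.of R N) (ModuleCat.of R M) i) := by
  have hI : Module.annihilator R N ≤ maximalIdeal R := le_maximalIdeal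
    fun h => not_subsingleton N ⟨fun x y => by
      rw [← one_smul R x, ← one_smul R y,
        Module.mem_annihilator.mp (h.symm ▸ Submodule.mem_top (x := (1 : R))) x,
        Module.mem_annihilator.mp (h.symm ▸ Submodule.mem_top (x := (1 : R))) y]⟩
  have hlt := EGA4Alg4.smul_top_lt_top (M := M) _ hI
  obtain ⟨rs, hlen, hreg, hmem⟩ := exists_seq_of_subsingleton_H (Module.annihilator R N) (d - r) M
    ((natCast_le_idealDepth_iff _ M _).mp (natCast_sub_le_idealDepth_annihilator N d r hd hr)) hlt.ne
  refine ModuleCat.subsingleton_ext_of_exists_isRegular (Module.annihilator R N) (ModuleCat.of R N)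
    (by rw [Module.support_eq_zeroLocus]) (ModuleCat.of R M) hlt rs hmem
    (EGA4Alg4.isRegular_of_isWeaklyRegular hreg fun r hr => hI (hmem r hr)) i (by omega)

end Groth.Agent.LC17
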