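import Groth.Agent.LC17.LocVanish
import Mathlib.RingTheory.Localization.AtPrime.Basic
import Mathlib.RingTheory.Ideal.Height

set_option autoImplicit false

universe u

open scoped Pointwise
open Groth.Agent.LC15

namespace Groth.Agent.LC17

variable {R : Type u} [CommRing R]
variable {M : Type u} [AddCommGroup M] [Module R M]

lemma idealDepth_mono {I J : Ideal R} (h : J ≤ I) :
    LocCoh.idealDepth J M ≤ LocCoh.idealDepth I M := by
  by_cases hI : I • (⊤ : Submodule R M) = ⊤
  · rw [idealDepth_eq_top I hI]; exact le_top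
  have hJ : J • (⊤ : Submodule R M) ≠ ⊤ := fun e =>
    hI (top_le_iff.mp (e.ge.trans (Submodule.smul_mono h le_rfl)))
  rw [LocCoh.idealDepth, if_neg hJ, LocCoh.idealDepth, if_neg hI]
  exact iSup₂_le fun rs hrs => le_iSup₂ (f := fun (rs : List R) _ => ((rs.length : ℕ) : ℕ∞)) rs
    ⟨hrs.1, fun r hr => h (hrs.2 r hr)⟩

lemma regAt_of_regular {S : Submonoid R} {x : R} (h : IsSMulRegular M x) : RegAt S x M := by
  rintro ⟨m, hm⟩
  exact ⟨1, S.one_mem, Subtype.ext (by simp [h.right_eq_zero_of_smul (show x • m = 0 from hm)])⟩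

section

variable [IsNoetherianRing R] [Module.Finite R M] (p : Ideal R) [p.IsPrime]

theorem natCast_le_depth_loc_iff (n : ℕ) :
    (n : ℕ∞) ≤ LocCoh.depth (Localization.AtPrime p) (LocalizedModule p.primeCompl M) ↔
      ∀ i, i < n → Nul p.primeCompl (LocCoh.H p i M) := by
  rw [LocCoh.depth, ← Localization.AtPrime.map_eq_maximalIdeal]
  exact natCast_le_idealDepth_loc_iff p.primeCompl p n M

lemma nul_of_lt_idealDepth (a : Ideal R) (S : Submonoid R) {i : ℕ}
    (h : (i : ℕ∞) < LocCoh.idealDepth a M) : Nul S (LocCoh.H a i M) := by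
  haveI := (natCast_le_idealDepth_iff a M (i + 1)).mp
    (by exact_mod_cast (ENat.add_one_le_iff (ENat.natCast_ne_top i)).mpr h) i (by omega)
  exact nul_of_subsingleton

theorem idealDepth_le_depth_loc {a : Ideal R} (hap : a ≤ p) :
    LocCoh.idealDepth a M ≤ LocCoh.depth (Localization.AtPrime p) (LocalizedModule p.primeCompl M) := by
  refine le_trans ?_ (idealDepth_mono (J := a.map (algebraMap R (Localization.AtPrime p)))
    ((Ideal.map_mono hap).trans Localization.AtPrime.map_eq_maximalIdeal.le))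
  refine eNat_le_of_forall fun n hn => (natCast_le_idealDepth_loc_iff p.primeCompl a n M).mpr
    fun i hi => nul_of_lt_idealDepth a _ (lt_of_lt_of_le (Nat.cast_lt.mpr hi) hn)

lemma not_nul_H0_of_associated {m : M} {a : Ideal R} (ha : a ≤ p)
    (hm : ∀ r : R, r • m = 0 ↔ r ∈ p) : ¬ Nul p.primeCompl (LocCoh.H a 0 M) := by
  intro h
  obtain ⟨u, hu, huy⟩ := h ((H0equiv a M).symm
    ⟨m, 1, fun r hr => (hm r).mpr (ha (by rwa [pow_one] at hr))⟩)
  rw [← map_smul, LinearEquiv.map_eq_zero_iff] at huy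
  exact hu ((hm u).mp (congrArg Subtype.val huy))

lemma exists_annihilator_mem {q : Ideal R} (hq : q ∈ associatedPrimes R M) :
    ∃ m : M, ∀ r : R, r • m = 0 ↔ r ∈ q := by
  obtain ⟨-, m, hm⟩ := isAssociatedPrime_iff.mp hq
  exact ⟨m, fun r => by rw [hm, Submodule.mem_colon_singleton]; simp⟩

lemma exists_associated_of_gamma_ne_bot {a : Ideal R} (h : gamma a M ≠ ⊥) :
    ∃ q ∈ associatedPrimes R M, a ≤ q := by
  obtain ⟨y, ⟨k, hk⟩, hy⟩ := Submodule.exists_mem_ne_zero_of_ne_bot h
  obtain ⟨q, hq, hle⟩ := exists_le_isAssociatedPrime_of_isNoetherianRing R y hy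
  refine ⟨q, hq, fun r hr => ?_⟩
  have h1 : r ^ k ∈ q := hle (Submodule.mem_colon_singleton.mpr (by
    simpa using hk _ (Ideal.pow_mem_pow hr k)))
  exact (IsAssociatedPrime.isPrime hq).mem_of_pow_mem k h1

end

theorem natCast_le_idealDepth_of_forall [IsNoetherianRing R] (a : Ideal R) :
    ∀ (n : ℕ) (M : Type u) [AddCommGroup M] [Module R M] [Module.Finite R M],
    (∀ q : PrimeSpectrum R, a ≤ q.asIdeal →
      (n : ℕ∞) ≤ LocCoh.depth (Localization.AtPrime q.asIdeal) (LocalizedModule q.asIdeal.primeCompl M)) →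
    (n : ℕ∞) ≤ LocCoh.idealDepth a M
  | 0, M, _, _, _, _ => bot_le
  | n + 1, M, _, _, _, h => by
    have hg : gamma a M = ⊥ := by
      by_contra hg
      obtain ⟨q, hq, haq⟩ := exists_associated_of_gamma_ne_bot hg
      haveI := IsAssociatedPrime.isPrime hq
      obtain ⟨m, hm⟩ := exists_annihilator_mem hq
      exact not_nul_H0_of_associated q le_rfl hm
        ((natCast_le_depth_loc_iff q (n + 1)).mp (h ⟨q, inferInstance⟩ haq) 0 n.succ_pos)
    obtain ⟨x, hxa, hx⟩ := exists_isSMulRegular_mem hg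
    rw [natCast_succ_le_idealDepth_iff a hxa hx]
    refine natCast_le_idealDepth_of_forall a n _ fun q haq => ?_
    have h1 := (natCast_le_depth_loc_iff q.asIdeal (n + 1)).mp (h q haq)
    exact (natCast_le_depth_loc_iff q.asIdeal n).mpr fun i hi =>
      nul_H_quot_of q.asIdeal (regAt_of_regular hx) i (h1 i (by omega)) (h1 (i + 1) (by omega))

theorem idealDepth_eq_iInf [IsNoetherianRing R] [Module.Finite R M] (a : Ideal R) :
    LocCoh.idealDepth a M = ⨅ (q : PrimeSpectrum R) (_ : a ≤ q.asIdeal),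
      LocCoh.depth (Localization.AtPrime q.asIdeal) (LocalizedModule q.asIdeal.primeCompl M) :=
  le_antisymm (le_iInf₂ fun q hq => idealDepth_le_depth_loc q.asIdeal hq)
    (eNat_le_of_forall fun n hn => natCast_le_idealDepth_of_forall a n M fun q hq =>
      hn.trans (iInf₂_le q hq))

end Groth.Agent.LC17
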