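import Mathlib.RingTheory.Length
import Mathlib.RingTheory.Support
import Mathlib.RingTheory.Ideal.AssociatedPrime.Finiteness
import Mathlib.RingTheory.KrullDimension.Regular
import Mathlib.RingTheory.HopkinsLevitzki
import Mathlib.RingTheory.Regular.RegularSequence

set_option autoImplicit false

universe u v

namespace Groth.Agent.LC17

variable {A : Type u} [CommRing A]

/-- integer length -/
noncomputable def lenZ (A : Type u) [CommRing A] (M : Type v) [AddCommGroup M] [Module A M] : ℤ :=
  ((Module.length A M).toNat : ℤ)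

variable {M N P : Type v} [AddCommGroup M] [Module A M] [AddCommGroup N] [Module A N]
  [AddCommGroup P] [Module A P]

lemma length_ker_add_range (f : M →ₗ[A] N) :
    Module.length A M = Module.length A (LinearMap.ker f) + Module.length A (LinearMap.range f) :=
  Module.length_eq_add_of_exact (LinearMap.ker f).subtype f.rangeRestrict
    (Submodule.subtype_injective _) f.surjective_rangeRestrict
    (LinearMap.exact_iff.mpr (by rw [LinearMap.ker_rangeRestrict, Submodule.range_subtype]))

lemma lenZ_congr (e : M ≃ₗ[A] N) : lenZ A M = lenZ A N := by rw [lenZ, lenZ, e.length_eq]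

lemma lenZ_nonneg : 0 ≤ lenZ A M := Int.natCast_nonneg _

lemma lenZ_eq_add {a b : ℕ∞} (h : Module.length A M = a + b) (hM : Module.length A M ≠ ⊤) :
    lenZ A M = (a.toNat : ℤ) + (b.toNat : ℤ) := by
  rw [h] at hM
  rw [lenZ, h, ENat.toNat_add (fun e => hM (by simp [e])) (fun e => hM (by simp [e]))]
  push_cast
  rfl

/-- the cokernel of multiplication -/
abbrev Cok (f : A) (M : Type v) [AddCommGroup M] [Module A M] : Type v :=
  M ⧸ LinearMap.range (LinearMap.lsmul A M f)

/-- the kernel of multiplication -/
abbrev Ker (f : A) (M : Type v) [AddCommGroup M] [Module A M] : Submodule A M :=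
  LinearMap.ker (LinearMap.lsmul A M f)

lemma length_five {f : A} (a : M →ₗ[A] N) (b : N →ₗ[A] P)
    (h1 : Function.Exact (LinearMap.lsmul A M f) a) (h2 : Function.Exact a b)
    (h3 : Function.Exact b (LinearMap.lsmul A P f)) :
    Module.length A N = Module.length A (Cok f M) + Module.length A (Ker f P) := by
  rw [length_ker_add_range b]
  refine congrArg₂ (· + ·) ?_ ?_
  · rw [h2.linearMap_ker_eq, ← a.quotKerEquivRange.length_eq,
      (Submodule.quotEquivOfEq _ _ h1.linearMap_ker_eq).length_eq]
  · rw [← h3.linearMap_ker_eq]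

/-- Euler characteristic of the two term complex given by multiplication -/
noncomputable def eTwo (f : A) (M : Type v) [AddCommGroup M] [Module A M] : ℤ :=
  lenZ A (Cok f M) - lenZ A (Ker f M)

lemma eTwo_zero_of_smul (f : A) (h : ∀ x : M, f • x = 0) : eTwo f M = 0 := by
  have h0 : LinearMap.lsmul A M f = 0 := LinearMap.ext h
  rw [eTwo, lenZ_congr (Submodule.quotEquivOfEqBot _ (by rw [h0, LinearMap.range_zero])),
    lenZ_congr (LinearEquiv.ofTop (Ker f M) (by rw [Ker, h0, LinearMap.ker_zero])), sub_self]

lemma eTwo_one : eTwo (1 : A) M = 0 := by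
  have h1 : LinearMap.lsmul A M 1 = LinearMap.id := LinearMap.ext (one_smul A)
  have hc : Subsingleton (Cok (1 : A) M) :=
    Submodule.Quotient.subsingleton_iff.mpr (by rw [h1, LinearMap.range_id])
  have hk : Subsingleton (Ker (1 : A) M) :=
    Submodule.subsingleton_iff_eq_bot.mpr (by rw [Ker, h1, LinearMap.ker_id])
  simp [eTwo, lenZ]

lemma eTwo_mul {f g : A} (hf : Module.length A (Cok f M) ≠ ⊤) (hg : Module.length A (Cok g M) ≠ ⊤)
    (hf' : Module.length A (Ker f M) ≠ ⊤) (hg' : Module.length A (Ker g M) ≠ ⊤) :
    eTwo (f * g) M = eTwo f M + eTwo g M := by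
  set F := LinearMap.lsmul A M f with hF
  set G := LinearMap.lsmul A M g with hG
  have hFG : LinearMap.lsmul A M (f * g) = F.comp G := LinearMap.ext fun x => mul_smul f g x
  have hGF : LinearMap.lsmul A M (f * g) = G.comp F :=
    LinearMap.ext fun x => (mul_comm f g ▸ mul_smul g f x : (f * g) • x = g • f • x)
  -- kernel
  let κ : Ker (f * g) M →ₗ[A] Ker f M :=
    LinearMap.codRestrict _ (G.comp (Ker (f * g) M).subtype) fun x => by
      have h : f • g • (x : M) = 0 := by rw [← mul_smul]; exact x.2
      exact h
  have hκ : LinearMap.ker κ = LinearMap.range (Submodule.inclusion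
      (show Ker g M ≤ Ker (f * g) M from by
        rw [Ker, Ker, hFG]; exact LinearMap.ker_le_ker_comp _ _)) := by
    rw [Submodule.range_inclusion]
    ext x
    exact ⟨fun h => congrArg Subtype.val h, fun h => Subtype.ext h⟩
  have k1 : Module.length A (Ker (f * g) M) =
      Module.length A (Ker g M) + Module.length A (LinearMap.range κ) := by
    rw [length_ker_add_range κ, hκ]
    congr 1
    exact (LinearEquiv.ofInjective _ (Submodule.inclusion_injective _)).symm.length_eq
  -- cokernel
  have hle : LinearMap.range (LinearMap.lsmul A M (f * g)) ≤ LinearMap.range F := by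
    rw [hFG]; exact LinearMap.range_comp_le_range _ _
  let μ : Cok g M →ₗ[A] Cok (f * g) M := Submodule.mapQ _ _ F (by
    rintro _ ⟨z, rfl⟩
    exact ⟨z, mul_smul f g z⟩)
  let τ : Cok (f * g) M →ₗ[A] Cok f M := Submodule.factor hle
  have hμτ : LinearMap.ker τ = LinearMap.range μ := by
    ext y
    obtain ⟨y, rfl⟩ := Submodule.Quotient.mk_surjective _ y
    constructor
    · intro h
      obtain ⟨z, rfl⟩ := (Submodule.Quotient.mk_eq_zero _).mp
        (show (Submodule.Quotient.mk y : Cok f M) = 0 from h)
      exact ⟨Submodule.Quotient.mk z, rfl⟩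
    · rintro ⟨z, hz⟩
      obtain ⟨z, rfl⟩ := Submodule.Quotient.mk_surjective _ z
      obtain ⟨w, hw⟩ := (Submodule.Quotient.eq _).mp hz
      have hw' : (f * g) • w = f • z - y := hw
      show (Submodule.Quotient.mk y : Cok f M) = 0
      refine (Submodule.Quotient.mk_eq_zero _).mpr ⟨z - g • w, ?_⟩
      show f • (z - g • w) = y
      rw [smul_sub, ← mul_smul, hw', sub_sub_cancel]
  have hτ : LinearMap.range τ = ⊤ :=
    LinearMap.range_eq_top.mpr (Submodule.factor_surjective hle)
  have c1 : Module.length A (Cok (f * g) M) =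
      Module.length A (LinearMap.range μ) + Module.length A (Cok f M) := by
    rw [length_ker_add_range τ, hμτ, hτ, Module.length_top]
  -- middle
  let ν : Ker f M →ₗ[A] Cok g M := (LinearMap.range G).mkQ.comp (Ker f M).subtype
  have hν : LinearMap.range ν = LinearMap.ker μ := by
    apply le_antisymm
    · rintro _ ⟨x, rfl⟩
      refine (Submodule.Quotient.mk_eq_zero _).mpr ?_
      exact ⟨0, (map_zero _).trans (show (0 : M) = f • (x : M) from x.2.symm)⟩
    · intro y hy
      obtain ⟨y, rfl⟩ := Submodule.Quotient.mk_surjective _ y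
      obtain ⟨z, hz⟩ := (Submodule.Quotient.mk_eq_zero _).mp
        (show (Submodule.Quotient.mk (f • y) : Cok (f * g) M) = 0 from hy)
      have hz' : (f * g) • z = f • y := hz
      refine ⟨⟨y - g • z, ?_⟩, ?_⟩
      · show f • (y - g • z) = 0
        rw [smul_sub, ← mul_smul, hz', sub_self]
      · exact (Submodule.Quotient.eq _).mpr ⟨-z, by simp [hG]⟩
  have hνker : LinearMap.ker ν = LinearMap.range κ := by
    ext x
    constructor
    · intro hx
      obtain ⟨z, hz⟩ := (Submodule.Quotient.mk_eq_zero _).mp hx
      refine ⟨⟨z, ?_⟩, Subtype.ext hz⟩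
      have hz' : g • z = (x : M) := hz
      have h : (f * g) • z = 0 := by rw [mul_smul, hz']; exact x.2
      exact h
    · rintro ⟨z, rfl⟩
      exact (Submodule.Quotient.mk_eq_zero _).mpr ⟨z, rfl⟩
  have m1 : Module.length A (Ker f M) =
      Module.length A (LinearMap.range κ) + Module.length A (LinearMap.ker μ) := by
    rw [length_ker_add_range ν, hν, hνker]
  have m2 : Module.length A (Cok g M) =
      Module.length A (LinearMap.ker μ) + Module.length A (LinearMap.range μ) :=
    length_ker_add_range μ
  have t1 : Module.length A (LinearMap.range κ) ≠ ⊤ := fun e => hf' (by simp [m1, e])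
  have t2 : Module.length A (LinearMap.range μ) ≠ ⊤ := fun e => hg (by simp [m2, e])
  have e1 := lenZ_eq_add k1 (by rw [k1]; simp [hg', t1])
  have e2 := lenZ_eq_add c1 (by rw [c1]; simp [t2, hf])
  have e3 := lenZ_eq_add m1 hf'
  have e4 := lenZ_eq_add m2 hg
  unfold eTwo
  unfold lenZ at *
  linarith

end Groth.Agent.LC17
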