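import Groth.Prelude.Def_DRing2
import Groth.Agent.Koszul19.Homotopy
import Groth.Agent.LC17.KLen
import Groth.Agent.LC17.KGood
import Mathlib.LinearAlgebra.TensorProduct.Prod
import Mathlib.RingTheory.Finiteness.Prod

set_option autoImplicit false

universe u

open CategoryTheory CategoryTheory.Limits TensorProduct
open Groth.Agent.Koszul19

namespace Groth.Agent.LC17

variable {A : Type u} [CommRing A]

/-- the Koszul complex with coefficients -/
noncomputable abbrev KM (l : List A) (M : Type u) [AddCommGroup M] [Module A M] : DRing.Cx A :=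
  DRing.tensorCx (Koszul.koszul A l) (ModuleCat.of A M)

/-- length of homology -/
noncomputable abbrev hlen (l : List A) (M : Type u) [AddCommGroup M] [Module A M] (q : ℤ) : ℕ∞ :=
  Module.length A ((KM l M).homology q)

variable (P : DRing.Cx A) (M : ModuleCat.{u} A)

noncomputable def tX (q : ℤ) :
    ((DRing.tensorCx P M).X q : Type u) ≃ₗ[A] TensorProduct A (P.X q : Type u) (M : Type u) :=
  LinearEquiv.refl A _

lemma tX_d (i j : ℤ) (x : (DRing.tensorCx P M).X i) :
    tX P M j (dd (DRing.tensorCx P M) i j x) = (dd P i j).rTensor M (tX P M i x) := rfl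

variable {P M}

lemma prodLeft_tmul' {M₁ M₂ M₃ : Type u} [AddCommGroup M₁] [Module A M₁] [AddCommGroup M₂]
    [Module A M₂] [AddCommGroup M₃] [Module A M₃] (x : M₁ × M₂) (m : M₃) :
    TensorProduct.prodLeft A A M₁ M₂ M₃ (x ⊗ₜ m) = (x.1 ⊗ₜ m, x.2 ⊗ₜ m) :=
  TensorProduct.prodLeft_tmul A A M₁ M₂ M₃ x.1 x.2 m

noncomputable def tensorData {f : A} {K L : DRing.Cx A} (c : ConeData f K L)
    (M : ModuleCat.{u} A) : ConeData f (DRing.tensorCx K M) (DRing.tensorCx L M) where
  e q q₁ h := (tX L M q).trans (((c.e q q₁ h).rTensor (M : Type u)).trans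
    ((TensorProduct.prodLeft A A _ _ _).trans ((tX K M q₁).symm.prodCongr (tX K M q).symm)))
  e_d_fst q q₁ q₂ h h' x := by
    obtain ⟨x, rfl⟩ := (tX L M q).symm.surjective x
    induction x using TensorProduct.induction_on with
    | zero => simp
    | tmul a m =>
      simp only [LinearEquiv.trans_apply, tX_d, LinearEquiv.apply_symm_apply, LinearMap.rTensor_tmul,
        LinearEquiv.rTensor_tmul, prodLeft_tmul', LinearEquiv.prodCongr_apply]
      rw [c.e_d_fst q q₁ q₂ h h' a, TensorProduct.neg_tmul, map_neg]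
      rfl
    | add x y hx hy =>
      simp only [map_add, Prod.fst_add] at hx hy ⊢
      rw [hx, hy, neg_add]
  e_d_snd q q₁ q₂ h h' x := by
    obtain ⟨x, rfl⟩ := (tX L M q).symm.surjective x
    induction x using TensorProduct.induction_on with
    | zero => simp
    | tmul a m =>
      simp only [LinearEquiv.trans_apply, tX_d, LinearEquiv.apply_symm_apply, LinearMap.rTensor_tmul,
        LinearEquiv.rTensor_tmul, prodLeft_tmul', LinearEquiv.prodCongr_apply]
      rw [c.e_d_snd q q₁ q₂ h h' a, TensorProduct.add_tmul, map_add,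
        ← TensorProduct.smul_tmul' f, map_smul]
      rfl
    | add x y hx hy =>
      simp only [map_add, Prod.snd_add, Prod.fst_add] at hx hy ⊢
      rw [hx, hy, smul_add]
      abel

lemma length_homology (K : DRing.Cx A) (p q j : ℤ) (hp : p + 1 = q) (hj : q + 1 = j) :
    Module.length A (K.homology q) = Module.length A (Hc K p q j) :=
  (homologyIsoHc K p q j hp hj).toLinearEquiv.length_eq

lemma five_cone {f : A} {K L : DRing.Cx A} (c : ConeData f K L) (p q r s : ℤ) (hp : p + 1 = q)
    (hr : q + 1 = r) (hs : r + 1 = s) :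
    Module.length A (Hc L p q r) =
      Module.length A (Cok f (Hc K p q r)) + Module.length A (Ker f (Hc K q r s)) := by
  let a0 : LinearMap.ker (dd K q r) →ₗ[A] LinearMap.ker (dd L q r) :=
    LinearMap.codRestrict _ ((c.e q r hr).symm.toLinearMap ∘ₗ
      (LinearMap.inr A (K.X r : Type u) (K.X q : Type u)) ∘ₗ (LinearMap.ker (dd K q r)).subtype)
      fun z => by
        rw [LinearMap.mem_ker]
        refine (c.cycle_iff q r s hr hs _).mpr ?_
        simp only [LinearMap.comp_apply, LinearEquiv.coe_coe, LinearEquiv.apply_symm_apply,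
          LinearMap.inr_apply, map_zero, smul_zero, zero_add, Submodule.subtype_apply]
        exact ⟨trivial, z.2⟩
  let a : Hc K p q r →ₗ[A] Hc L p q r := Submodule.mapQ _ _ a0 (by
    rintro z ⟨w, hw⟩
    refine ⟨(c.e p q hp).symm (0, w), ?_⟩
    change dd L p q _ = (c.e q r hr).symm (0, z.1)
    rw [LinearEquiv.eq_symm_apply, c.e_d_symm p q r hp hr]
    simp only [map_zero, neg_zero, smul_zero, zero_add]
    rw [hw]
    rfl)
  let b0 : LinearMap.ker (dd L q r) →ₗ[A] LinearMap.ker (dd K r s) :=
    LinearMap.codRestrict _ ((LinearMap.fst A _ _) ∘ₗ (c.e q r hr).toLinearMap ∘ₗ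
      (LinearMap.ker (dd L q r)).subtype) fun z => ((c.cycle_iff q r s hr hs z.1).mp z.2).1
  let b : Hc L p q r →ₗ[A] Hc K q r s := Submodule.mapQ _ _ b0 (by
    rintro z ⟨w, hw⟩
    refine ⟨-(c.e p q hp w).1, ?_⟩
    change dd K q r _ = (c.e q r hr z.1).1
    rw [map_neg, ← c.e_d_fst p q r hp hr, hw]
    rfl)
  refine length_five a b ?_ ?_ ?_
  · intro y
    obtain ⟨y, rfl⟩ := Submodule.Quotient.mk_surjective _ y
    constructor
    · intro h
      obtain ⟨w, hw⟩ := (Submodule.Quotient.mk_eq_zero _).mp h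
      have h1 : c.e q r hr (dd L p q w) = (0, y.1) :=
        (congrArg (c.e q r hr) hw).trans (LinearEquiv.apply_symm_apply _ _)
      have h2 := congrArg Prod.fst h1
      have h3 := congrArg Prod.snd h1
      rw [c.e_d_fst p q r hp hr, neg_eq_zero] at h2
      rw [c.e_d_snd p q r hp hr] at h3
      refine ⟨Submodule.Quotient.mk ⟨(c.e p q hp w).1, h2⟩, ?_⟩
      change Submodule.Quotient.mk (f • (⟨_, h2⟩ : LinearMap.ker (dd K q r))) = _
      refine (Submodule.Quotient.eq _).mpr ⟨-(c.e p q hp w).2, ?_⟩
      change dd K p q (-(c.e p q hp w).2) = f • (c.e p q hp w).1 - y.1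
      have h4 : f • (c.e p q hp w).1 + dd K p q (c.e p q hp w).2 = y.1 := h3
      rw [map_neg, ← h4]
      abel
    · rintro ⟨z, hz⟩
      obtain ⟨z, rfl⟩ := Submodule.Quotient.mk_surjective _ z
      rw [← hz]
      refine (Submodule.Quotient.mk_eq_zero _).mpr ⟨(c.e p q hp).symm (z.1, 0), ?_⟩
      change dd L p q _ = (c.e q r hr).symm (0, f • z.1)
      rw [LinearEquiv.eq_symm_apply, c.e_d_symm p q r hp hr,
        show dd K q r z.1 = 0 from z.2]
      simp
  · intro y
    obtain ⟨y, rfl⟩ := Submodule.Quotient.mk_surjective _ y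
    constructor
    · intro h
      obtain ⟨w, hw⟩ := (Submodule.Quotient.mk_eq_zero _).mp h
      have hw' : dd K q r w = (c.e q r hr y.1).1 := hw
      have hy := ((c.cycle_iff q r s hr hs y.1).mp y.2).2
      rw [← hw', ← map_smul, ← map_add] at hy
      refine ⟨Submodule.Quotient.mk ⟨f • w + (c.e q r hr y.1).2, hy⟩, ?_⟩
      refine (Submodule.Quotient.eq _).mpr ⟨(c.e p q hp).symm (w, 0), ?_⟩
      change dd L p q _ = (c.e q r hr).symm (0, f • w + (c.e q r hr y.1).2) - y.1
      apply (c.e q r hr).injective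
      rw [c.e_d_symm p q r hp hr, map_sub, LinearEquiv.apply_symm_apply, hw', Prod.ext_iff]
      simp
    · rintro ⟨z, hz⟩
      obtain ⟨z, rfl⟩ := Submodule.Quotient.mk_surjective _ z
      rw [← hz]
      refine (Submodule.Quotient.mk_eq_zero _).mpr ⟨0, ?_⟩
      change dd K q r 0 = (c.e q r hr ((c.e q r hr).symm (0, z.1))).1
      simp
  · intro y
    obtain ⟨y, rfl⟩ := Submodule.Quotient.mk_surjective _ y
    constructor
    · intro h
      obtain ⟨w, hw⟩ := (Submodule.Quotient.mk_eq_zero _).mp
        (show (Submodule.Quotient.mk (f • y) : Hc K q r s) = 0 from h)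
      have hw' : dd K q r w = f • y.1 := hw
      refine ⟨Submodule.Quotient.mk ⟨(c.e q r hr).symm (y.1, -w), ?_⟩, ?_⟩
      · rw [LinearMap.mem_ker, c.cycle_iff q r s hr hs, LinearEquiv.apply_symm_apply]
        exact ⟨y.2, by rw [map_neg, hw', add_neg_cancel]⟩
      · refine congrArg Submodule.Quotient.mk (Subtype.ext ?_)
        change (c.e q r hr ((c.e q r hr).symm (y.1, -w))).1 = y.1
        simp
    · rintro ⟨z, hz⟩
      obtain ⟨z, rfl⟩ := Submodule.Quotient.mk_surjective _ z
      rw [← hz]
      refine (Submodule.Quotient.mk_eq_zero _).mpr ⟨-(c.e q r hr z.1).2, ?_⟩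
      change dd K q r _ = f • (c.e q r hr z.1).1
      rw [map_neg, eq_comm, eq_neg_iff_add_eq_zero]
      exact ((c.cycle_iff q r s hr hs z.1).mp z.2).2

variable (P M)

lemma nullHtp_tensor {y : A} (h : NullHtp P y) : NullHtp (DRing.tensorCx P M) y := by
  obtain ⟨h, hh⟩ := h
  refine ⟨fun q p e => (tX P M q).symm.toLinearMap ∘ₗ (h q p e).rTensor (M : Type u) ∘ₗ
    (tX P M p).toLinearMap, fun q p r e e' x => ?_⟩
  obtain ⟨x, rfl⟩ := (tX P M p).symm.surjective x
  apply (tX P M p).injective
  induction x using TensorProduct.induction_on with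
  | zero => simp
  | tmul a m =>
    simp only [LinearMap.comp_apply, LinearEquiv.coe_coe, map_add, map_smul, tX_d,
      LinearEquiv.apply_symm_apply, LinearMap.rTensor_tmul]
    rw [← TensorProduct.add_tmul, hh q p r e e' a, TensorProduct.smul_tmul']
  | add x y hx hy =>
    simp only [map_add, smul_add] at hx hy ⊢
    rw [← hx, ← hy]
    abel

lemma smul_hc_eq_zero {K : DRing.Cx A} {y : A} (h : NullHtp K y) (p q j : ℤ) (hp : p + 1 = q)
    (hj : q + 1 = j) (z : Hc K p q j) : y • z = 0 := by
  obtain ⟨z, rfl⟩ := Submodule.Quotient.mk_surjective _ z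
  obtain ⟨h, hh⟩ := h
  refine (Submodule.Quotient.mk_eq_zero _).mpr ⟨h p q hp z.1, ?_⟩
  change dd K p q _ = y • z.1
  rw [← hh p q j hp hj z.1, show dd K q j z.1 = 0 from z.2, map_zero, add_zero]

lemma smul_hc_of_smul {K : DRing.Cx A} {y : A} (p q j : ℤ) (h : ∀ x : K.X q, y • x = 0)
    (z : Hc K p q j) : y • z = 0 := by
  obtain ⟨z, rfl⟩ := Submodule.Quotient.mk_surjective _ z
  rw [← Submodule.Quotient.mk_smul]
  refine (Submodule.Quotient.mk_eq_zero _).mpr ⟨0, ?_⟩
  rw [map_zero]
  exact (h z.1).symm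

lemma finite_free_X : ∀ (l : List A) (q : ℤ),
    Module.Finite A ((Koszul.koszul A l).X q : Type u) ∧ Module.Free A ((Koszul.koszul A l).X q : Type u)
  | [], q => by
    by_cases hq : q = 0
    · subst hq
      exact ⟨Module.Finite.equiv nilZero.symm, Module.Free.of_equiv nilZero.symm⟩
    · haveI := subsingleton_nil (A := A) hq
      exact ⟨inferInstance, Module.Free.of_subsingleton A _⟩
  | f :: l, q => by
    obtain ⟨h1, h2⟩ := finite_free_X l q
    obtain ⟨h3, h4⟩ := finite_free_X l (q + 1)
    haveI : Module.Finite A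
        (((Koszul.koszul A l).X (q + 1) : Type u) × ((Koszul.koszul A l).X q : Type u)) := inferInstance
    exact ⟨Module.Finite.equiv ((consData f l).e q (q + 1) rfl).symm,
      Module.Free.of_equiv ((consData f l).e q (q + 1) rfl).symm⟩

lemma subsingleton_KM_X (l : List A) (M : Type u) [AddCommGroup M] [Module A M] (q : ℤ)
    (hq : 0 < q ∨ q < -(l.length : ℤ)) : Subsingleton ((KM l M).X q : Type u) := by
  haveI := Groth.Agent.Koszul19.subsingleton_X l q hq
  exact (tX (Koszul.koszul A l) (ModuleCat.of A M) q).toEquiv.subsingleton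

lemma hlen_eq_zero (l : List A) (M : Type u) [AddCommGroup M] [Module A M] (q : ℤ)
    (hq : 0 < q ∨ q < -(l.length : ℤ)) : hlen l M q = 0 := by
  haveI := subsingleton_KM_X l M q hq
  rw [hlen, length_homology (KM l M) (q - 1) q (q + 1) (by omega) rfl, Module.length_eq_zero_iff]
  infer_instance

lemma finite_KM_X (l : List A) (M : Type u) [AddCommGroup M] [Module A M] [Module.Finite A M]
    (q : ℤ) : Module.Finite A ((KM l M).X q : Type u) := by
  haveI := (finite_free_X l q).1
  exact Module.Finite.equiv (tX (Koszul.koszul A l) (ModuleCat.of A M) q).symm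

lemma finite_hc [IsNoetherianRing A] (l : List A) (M : Type u) [AddCommGroup M] [Module A M]
    [Module.Finite A M] (p q j : ℤ) : Module.Finite A (Hc (KM l M) p q j) := by
  haveI := finite_KM_X l M q
  infer_instance

lemma smul_hc_ofList (l : List A) (M : Type u) [AddCommGroup M] [Module A M] {y : A}
    (hy : y ∈ Ideal.ofList l) (p q j : ℤ) (hp : p + 1 = q) (hj : q + 1 = j)
    (z : Hc (KM l M) p q j) : y • z = 0 :=
  smul_hc_eq_zero (nullHtp_tensor _ _ (nullHtp_koszul l hy)) p q j hp hj z

lemma smul_hc_annihilator (l : List A) (M : Type u) [AddCommGroup M] [Module A M] {y : A}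
    (hy : ∀ m : M, y • m = 0) (p q j : ℤ) (z : Hc (KM l M) p q j) : y • z = 0 := by
  refine smul_hc_of_smul p q j (fun x => ?_) z
  apply (tX (Koszul.koszul A l) (ModuleCat.of A M) q).injective
  rw [map_smul, map_zero]
  generalize tX (Koszul.koszul A l) (ModuleCat.of A M) q x = t
  induction t using TensorProduct.induction_on with
  | zero => simp
  | tmul a m =>
    rw [TensorProduct.smul_tmul', TensorProduct.smul_tmul, show y • m = 0 from hy m,
      TensorProduct.tmul_zero]
  | add a b ha hb => rw [smul_add, ha, hb, add_zero]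

lemma length_ne_top_hc [IsNoetherianRing A] {f : A} {l : List A} {M : Type u} [AddCommGroup M]
    [Module A M] [Module.Finite A M] (h : Good (f :: l) M) (p q j : ℤ) (hp : p + 1 = q)
    (hj : q + 1 = j) {N : Type u} [AddCommGroup N] [Module A N] [Module.Finite A N]
    (hann : Module.annihilator A (Hc (KM l M) p q j) ≤ Module.annihilator A N)
    (hf : f ∈ Module.annihilator A N) : Module.length A N ≠ ⊤ := by
  refine length_ne_top_of_support fun x hx => ?_
  have hx' := Module.mem_support_iff_of_finite.mp hx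
  refine h x (Module.mem_support_iff_of_finite.mpr fun y hy => hx' (hann
    (Module.mem_annihilator.mpr (smul_hc_annihilator l M (Module.mem_annihilator.mp hy) p q j)))) ?_
  rw [Ideal.ofList_cons]
  exact sup_le ((Ideal.span_singleton_le_iff_mem _).mpr (hx' hf))
    fun y hy => hx' (hann (Module.mem_annihilator.mpr (smul_hc_ofList l M hy p q j hp hj)))

lemma length_ne_top_ker [IsNoetherianRing A] {f : A} {l : List A} {M : Type u} [AddCommGroup M]
    [Module A M] [Module.Finite A M] (h : Good (f :: l) M) (p q j : ℤ) (hp : p + 1 = q)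
    (hj : q + 1 = j) : Module.length A (Ker f (Hc (KM l M) p q j)) ≠ ⊤ := by
  haveI := finite_hc l M p q j
  haveI : Module.Finite A (Ker f (Hc (KM l M) p q j)) := inferInstance
  exact length_ne_top_hc h p q j hp hj
    (LinearMap.annihilator_le_of_injective _ (Submodule.subtype_injective _))
    (Module.mem_annihilator.mpr fun x => Subtype.ext x.2)

lemma length_ne_top_cok [IsNoetherianRing A] {f : A} {l : List A} {M : Type u} [AddCommGroup M]
    [Module A M] [Module.Finite A M] (h : Good (f :: l) M) (p q j : ℤ) (hp : p + 1 = q)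
    (hj : q + 1 = j) : Module.length A (Cok f (Hc (KM l M) p q j)) ≠ ⊤ := by
  haveI := finite_hc l M p q j
  exact length_ne_top_hc h p q j hp hj
    (LinearMap.annihilator_le_of_surjective _ (Submodule.mkQ_surjective _))
    (Module.mem_annihilator.mpr fun x => by
      obtain ⟨x, rfl⟩ := Submodule.Quotient.mk_surjective _ x
      exact (Submodule.Quotient.mk_eq_zero _).mpr ⟨x, rfl⟩)

lemma length_ne_top_smul [IsNoetherianRing A] {f : A} {l : List A} {M : Type u} [AddCommGroup M]
    [Module A M] [Module.Finite A M] (h : Good (f :: l) M) (hf : ∀ m : M, f • m = 0) (p q j : ℤ)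
    (hp : p + 1 = q) (hj : q + 1 = j) : Module.length A (Hc (KM l M) p q j) ≠ ⊤ := by
  haveI := finite_hc l M p q j
  exact length_ne_top_hc h p q j hp hj le_rfl
    (Module.mem_annihilator.mpr (smul_hc_annihilator l M hf p q j))

end Groth.Agent.LC17
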