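import Groth.Agent.LC17.KChi
import Mathlib.RingTheory.Flat.Localization
import Mathlib.RingTheory.KrullDimension.LocalRing

set_option autoImplicit false

universe u

open CategoryTheory CategoryTheory.Limits TensorProduct
open scoped Pointwise

namespace Groth.Agent.LC17

variable {A : Type u} [CommRing A] [IsNoetherianRing A]

lemma ofList_ofFn {n : ℕ} (x : Fin n → A) : Ideal.ofList (List.ofFn x) = Ideal.span (Set.range x) := by
  rw [Ideal.ofList]
  congr 1
  ext a
  simp [List.mem_ofFn]

lemma good_ofFn {n : ℕ} {x : Fin n → A} {M : Type u} [AddCommGroup M] [Module A M] [Module.Finite A M]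
    (h : IsFiniteLength A (M ⧸ (Ideal.span (Set.range x) • (⊤ : Submodule A M)))) :
    Good (List.ofFn x) M := by
  rw [good_iff, ofList_ofFn]; exact h

lemma supportDim_mono {N M : Type u} [AddCommGroup N] [Module A N] [AddCommGroup M] [Module A M]
    (h : Module.support A N ⊆ Module.support A M) : Module.supportDim A N ≤ Module.supportDim A M :=
  Order.krullDim_le_of_strictMono (fun x => ⟨x.1, h x.2⟩) fun _ _ hxy => hxy

lemma chi_eq_zero_of_dim_lt : ∀ (l : List A) (M : Type u) [AddCommGroup M] [Module A M]
    [Module.Finite A M], Good l M → Module.supportDim A M < (l.length : WithBot ℕ∞) → chi l M = 0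
  | [], M, _, _, _, _, hd => by
    have : Module.supportDim A M = ⊥ := by
      cases hs : Module.supportDim A M with
      | bot => rfl
      | coe a => rw [hs] at hd; exact absurd hd (not_lt.mpr (WithBot.coe_le_coe.mpr (zero_le (a := a))))
    haveI := (Module.supportDim_eq_bot_iff_subsingleton A M).mp this
    exact chi_subsingleton [] M
  | f :: l, M, _, _, hfin, hG, hd => by
    suffices H : ∀ (N : Type u) [AddCommGroup N] [Module A N] [Module.Finite A N],
        Module.support A N ⊆ Module.support A M → chi (f :: l) N = 0 from H M subset_rfl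
    intro N _ _ hN
    induction hN using IsNoetherianRing.induction_on_isQuotientEquivQuotientPrime A with
    | subsingleton N => intro _; exact chi_subsingleton _ N
    | quotient N p e =>
      intro hsub
      by_cases hf : f ∈ p.asIdeal
      · exact chi_cons_smul_zero (hG.mono hsub) (smul_eq_zero_of_mem e hf)
      · have hreg := isSMulRegular_quotient e hf
        rw [chi_cons_regular f l N hreg]
        refine chi_eq_zero_of_dim_lt l _ (hG.mono hsub).tail ?_
        have hd' : Module.supportDim A (QuotSMulTop f N) + 1 < ((l.length + 1 : ℕ) : WithBot ℕ∞) :=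
          lt_of_le_of_lt (le_trans (Module.supportDim_quotSMulTop_succ_le_of_notMem_minimalPrimes
            (fun _ => hreg.notMem_of_mem_minimalPrimes)) (supportDim_mono hsub)) hd
        refine lt_of_le_of_ne (dim_add_one_le_cancel hd'.le) fun e => ?_
        rw [e] at hd'
        push_cast at hd'
        exact lt_irrefl _ hd'
    | exact N₁ N₂ N₃ a b ha hb hab ih₁ ih₃ =>
      intro hsub
      have hs := Module.support_of_exact hab ha hb
      rw [chi_exact (f :: l) a b ha hb hab (hG.mono hsub), ih₁ (fun p hp => hsub (hs ▸ Or.inl hp)),
        ih₃ (fun p hp => hsub (hs ▸ Or.inr hp)), add_zero]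

variable [IsLocalRing A]

lemma chi_pos_aux : ∀ (l : List A) (M : Type u) [AddCommGroup M] [Module A M] [Module.Finite A M],
    Good l M → (∀ a ∈ l, a ∈ IsLocalRing.maximalIdeal A) →
    0 ≤ chi l M ∧ (Module.supportDim A M = (l.length : WithBot ℕ∞) → 0 < chi l M)
  | [], M, _, _, _, hG, _ => by
    rw [chi_nil]
    refine ⟨lenZ_nonneg, fun hd => ?_⟩
    have hne : Nontrivial M := (Module.supportDim_ne_bot_iff_nontrivial A M).mp (by rw [hd]; simp)
    have h1 : Module.length A M ≠ ⊤ := length_ne_top_of_support fun p hp => hG p hp (by simp)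
    have h2 : Module.length A M ≠ 0 := by
      rw [ne_eq, Module.length_eq_zero_iff]; exact not_subsingleton M
    have := ENat.toNat_eq_zero.not.mpr (not_or.mpr ⟨h2, h1⟩)
    unfold lenZ
    omega
  | f :: l, M, _, _, hfin, hG, hm => by
    suffices H : ∀ (N : Type u) [AddCommGroup N] [Module A N] [Module.Finite A N],
        Module.support A N ⊆ Module.support A M → (0 ≤ chi (f :: l) N ∧
          (Module.supportDim A N = ((f :: l).length : WithBot ℕ∞) → 0 < chi (f :: l) N)) from
      H M subset_rfl
    intro N _ _ hN
    induction hN using IsNoetherianRing.induction_on_isQuotientEquivQuotientPrime A with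
    | subsingleton N =>
      intro _
      rw [chi_subsingleton _ N]
      refine ⟨le_rfl, fun h => ?_⟩
      exact absurd h (by rw [(Module.supportDim_eq_bot_iff_subsingleton A N).mpr ‹_›]; exact WithBot.bot_ne_coe)
    | quotient N p e =>
      intro hsub
      have hG' := hG.mono hsub
      by_cases hf : f ∈ p.asIdeal
      · rw [chi_cons_smul_zero hG' (smul_eq_zero_of_mem e hf)]
        refine ⟨le_rfl, fun h => ?_⟩
        have hGl : Good l N := fun q hq hl => by
          refine hG' q hq ?_
          rw [Ideal.ofList_cons]
          refine sup_le ?_ hl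
          rw [Ideal.span_singleton_le_iff_mem]
          exact Module.mem_support_iff_of_finite.mp hq
            (Module.mem_annihilator.mpr (smul_eq_zero_of_mem e hf))
        have h2 := Good.supportDim_le l N hGl fun a ha => hm a (List.mem_cons_of_mem _ ha)
        rw [h, List.length_cons] at h2
        have : l.length + 1 ≤ l.length := by exact_mod_cast h2
        omega
      · have hreg := isSMulRegular_quotient e hf
        rw [chi_cons_regular f l N hreg]
        obtain ⟨h1, h2⟩ := chi_pos_aux l _ hG'.tail fun a ha => hm a (List.mem_cons_of_mem _ ha)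
        refine ⟨h1, fun h => h2 ?_⟩
        rw [List.length_cons] at h
        have h3 := Module.supportDim_quotSMulTop_succ_eq_supportDim_mem_jacobson hreg
          (IsLocalRing.maximalIdeal_le_jacobson _ (hm f (List.mem_cons_self ..)))
        rw [h] at h3
        refine le_antisymm (dim_add_one_le_cancel h3.le) ?_
        cases hs : Module.supportDim A (QuotSMulTop f N) with
        | bot => rw [hs, WithBot.bot_add] at h3; exact absurd h3 WithBot.bot_ne_coe
        | coe a =>
          rw [hs] at h3
          have h4 : a + 1 = ((l.length + 1 : ℕ) : ℕ∞) := WithBot.coe_inj.mp h3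
          push_cast at h4
          exact (WithBot.coe_le_coe.mpr ((WithTop.add_right_inj ENat.one_ne_top).mp h4).ge)
    | exact N₁ N₂ N₃ a b ha hb hab ih₁ ih₃ =>
      intro hsub
      have hs := Module.support_of_exact hab ha hb
      obtain ⟨p1, q1⟩ := ih₁ fun p hp => hsub (hs ▸ Or.inl hp)
      obtain ⟨p3, q3⟩ := ih₃ fun p hp => hsub (hs ▸ Or.inr hp)
      rw [chi_exact (f :: l) a b ha hb hab (hG.mono hsub)]
      refine ⟨add_nonneg p1 p3, fun h => ?_⟩
      rcases exists_supportDim_eq hs _ h with h' | h'
      · linarith [q1 h']
      · linarith [q3 h']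

end Groth.Agent.LC17
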