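import Groth.Agent.LC17.SerreChi
import Groth.Agent.LC17.KDim

/-!
# Limits: Samuel multiplicity, Koszul Euler characteristic and Lech's formula
-/

set_option autoImplicit false

universe u

open CategoryTheory Filter Topology Groth.Agent.Koszul19

namespace Groth.Agent.LC17

variable {A : Type u} [CommRing A] [IsNoetherianRing A] [IsLocalRing A]

theorem tendsto_factorial_samuel {k : ℕ} (x : Fin k → A) (M : Type u) [AddCommGroup M] [Module A M]
    [Module.Finite A M]
    (hfl : IsFiniteLength A (M ⧸ (Ideal.span (Set.range x) • (⊤ : Submodule A M))))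
    (hd : Module.supportDim A M ≤ (k : WithBot ℕ∞)) :
    Tendsto (fun n : ℕ => (k.factorial : ℝ) * (samuel (Ideal.span (Set.range x)) M n : ℝ) / (n : ℝ) ^ k)
      atTop (𝓝 ((chi (List.ofFn x) M : ℤ) : ℝ)) := by
  obtain ⟨P, N, hdeg, hP⟩ := exists_samuel_poly x M hfl k hd
  have hchi := chi_eq_factorial_mul_coeff (List.ofFn x) M (good_ofFn hfl) P N
    (by rw [List.length_ofFn]; exact hdeg) (fun n hn => by rw [ofList_ofFn]; exact hP n hn)
  rw [List.length_ofFn] at hchi
  have hchi' : ((chi (List.ofFn x) M : ℤ) : ℝ) = (k.factorial : ℝ) * ((P.coeff k : ℚ) : ℝ) := by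
    have := congrArg (fun q : ℚ => (q : ℝ)) hchi
    push_cast at this
    exact this
  rw [hchi']
  refine ((tendsto_eval_div_pow hdeg).const_mul (k.factorial : ℝ)).congr'
    (eventually_atTop.2 ⟨N, fun n hn => ?_⟩)
  simp only [← hP n hn, Rat.cast_natCast]
  ring

omit [IsNoetherianRing A] [IsLocalRing A] in
/-- The zeroth Koszul homology. -/
theorem hlen_zero_eq (l : List A) (M : Type u) [AddCommGroup M] [Module A M] :
    hlen l M 0 = Module.length A (M ⧸ Ideal.ofList l • (⊤ : Submodule A M)) := by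
  rw [hlen, length_homology (KM l M) (-1) 0 1 (by norm_num) (by norm_num)]
  let ee : ((KM l M).X 0 : Type u) ≃ₗ[A] M :=
    (tX (Koszul.koszul A l) (ModuleCat.of A M) 0).trans
      (((eps l).rTensor M).trans (TensorProduct.lid A M))
  haveI : Subsingleton ((KM l M).X 1 : Type u) := subsingleton_KM_X l M 1 (Or.inl one_pos)
  have htop : LinearMap.ker (dd (KM l M) 0 1) = ⊤ := top_le_iff.1 fun x _ => Subsingleton.elim _ _
  let e' : ↥(LinearMap.ker (dd (KM l M) 0 1)) ≃ₗ[A] M :=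
    ((LinearEquiv.ofEq _ _ htop).trans Submodule.topEquiv).trans ee
  refine (Submodule.Quotient.equiv _ (Ideal.ofList l • (⊤ : Submodule A M)) e' ?_).length_eq
  refine le_antisymm ?_ ?_
  · rintro _ ⟨⟨z, hz⟩, ⟨w, hw⟩, rfl⟩
    show ee z ∈ _
    rw [show z = dd (KM l M) (-1) 0 w from hw.symm]
    have h1 := dd_KM_mem_smul l M (-1) 0 (by norm_num) w
    have h2 := Submodule.mem_map_of_mem (f := ee.toLinearMap) h1
    rw [Submodule.map_smul'', Submodule.map_top, LinearMap.range_eq_top.2 ee.surjective] at h2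
    exact h2
  · rw [Submodule.smul_le]
    intro y hy m _
    obtain ⟨h, hh⟩ := nullHtp_tensor (Koszul.koszul A l) (ModuleCat.of A M) (nullHtp_koszul l hy)
    refine ⟨e'.symm (y • m), ⟨h (-1) 0 (by norm_num) (ee.symm m), ?_⟩, e'.apply_symm_apply _⟩
    have h1 := hh (-1) 0 1 (by norm_num) (by norm_num) (ee.symm m)
    rw [Subsingleton.elim (dd (DRing.tensorCx (Koszul.koszul A l) (ModuleCat.of A M)) 0 1 (ee.symm m)) 0,
      map_zero, add_zero] at h1
    refine h1.trans ?_
    rw [← map_smul]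
    rfl

theorem tendsto_lech {k : ℕ} (x : Fin k → A) (M : Type u) [AddCommGroup M] [Module A M]
    [Module.Finite A M]
    (hfl : IsFiniteLength A (M ⧸ (Ideal.span (Set.range x) • (⊤ : Submodule A M))))
    (hk : 0 < k)
    (hmul : ∀ n : ℕ, chi (List.ofFn fun i => x i ^ n) M = (n : ℤ) ^ k * chi (List.ofFn x) M) :
    Tendsto (fun n : ℕ => ((Module.length A (M ⧸ (Ideal.span (Set.range fun i => x i ^ n) •
        (⊤ : Submodule A M)))).toNat : ℝ) / (n : ℝ) ^ k) atTop (𝓝 ((chi (List.ofFn x) M : ℤ) : ℝ)) := by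
  obtain ⟨d, -, hd⟩ := exists_supportDim_le_nat (A := A) M k
  obtain ⟨c, hc⟩ := exists_bound_aux k (List.ofFn x) (List.length_ofFn ..) M (good_ofFn hfl) d hd
  have hbound : ∀ n : ℕ, 0 < n → |((Module.length A (M ⧸ (Ideal.span (Set.range fun i => x i ^ n) •
      (⊤ : Submodule A M)))).toNat : ℝ) - (n : ℝ) ^ k * ((chi (List.ofFn x) M : ℤ) : ℝ)| ≤
        (k + 1 : ℕ) * c * (n : ℝ) ^ (k - 1) := by
    intro n hn
    let l := List.ofFn fun i => x i ^ n
    have hl : (List.ofFn x).map (· ^ n) = l := by rw [List.map_ofFn]; rfl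
    have h0 : (Module.length A (M ⧸ (Ideal.span (Set.range fun i => x i ^ n) • (⊤ : Submodule A M)))).toNat =
        (hlen l M 0).toNat := by
      rw [hlen_zero_eq, ofList_ofFn]
    have h1 := chi_eq_sum l M (-(k : ℤ)) 0 (by simp [l]) le_rfl
    rw [← Finset.Ico_insert_right (show -(k : ℤ) ≤ 0 by omega), Finset.sum_insert (by simp),
      hmul n] at h1
    have h2 : |(((∑ q ∈ Finset.Ico (-(k : ℤ)) 0, sgn q * lenZ A ((KM l M).homology q) : ℤ)) : ℝ)| ≤
        (k + 1 : ℕ) * c * (n : ℝ) ^ (k - 1) := by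
      push_cast
      refine (Finset.abs_sum_le_sum_abs _ _).trans ?_
      refine (Finset.sum_le_card_nsmul _ _ ((c : ℝ) * (n : ℝ) ^ (k - 1)) fun q hq => ?_).trans ?_
      · rw [Finset.mem_Ico] at hq
        obtain ⟨i, rfl⟩ : ∃ i : ℕ, q = -(i : ℤ) := ⟨(-q).toNat, by omega⟩
        have hb := hc n hn i
        rw [hl] at hb
        have hb' := ENat.toNat_le_toNat hb (ENat.natCast_ne_top _)
        rw [ENat.toNat_natCast] at hb'
        rw [abs_mul, show |((sgn (-(i : ℤ)) : ℤ) : ℝ)| = 1 by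
          rcases Int.units_eq_one_or ((-(i : ℤ)).negOnePow) with h | h <;> simp [sgn, h], one_mul,
          abs_of_nonneg (by exact_mod_cast lenZ_nonneg (A := A) (M := ((KM l M).homology (-(i : ℤ)) : Type u)))]
        calc ((lenZ A ((KM l M).homology (-(i : ℤ))) : ℤ) : ℝ) = ((hlen l M (-(i : ℤ))).toNat : ℝ) := by
              simp [lenZ]
          _ ≤ ((c * n ^ min (k - i) d : ℕ) : ℝ) := Nat.cast_le.2 hb'
          _ ≤ ((c * n ^ (k - 1) : ℕ) : ℝ) := Nat.cast_le.2 (Nat.mul_le_mul le_rfl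
              (Nat.pow_le_pow_right hn (by omega)))
          _ = _ := by push_cast; ring
      · rw [nsmul_eq_mul, Int.card_Ico, show ((0 : ℤ) - -(k : ℤ)).toNat = k by omega]
        push_cast
        nlinarith [show (0 : ℝ) ≤ (c : ℝ) * (n : ℝ) ^ (k - 1) by positivity]
    have h3 : ((hlen l M 0).toNat : ℝ) - (n : ℝ) ^ k * ((chi (List.ofFn x) M : ℤ) : ℝ) =
        -(((∑ q ∈ Finset.Ico (-(k : ℤ)) 0, sgn q * lenZ A ((KM l M).homology q) : ℤ)) : ℝ) := by
      have := congrArg (fun z : ℤ => (z : ℝ)) h1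
      simp only [sgn, Int.negOnePow_zero, Units.val_one, one_mul, lenZ] at this
      push_cast at this ⊢
      simp only [lenZ, sgn] at *
      push_cast at *
      linarith
    rw [h0, h3, abs_neg]
    exact h2
  have hlim : Tendsto (fun n : ℕ => ((k + 1 : ℕ) : ℝ) * c * (1 / (n : ℝ))) atTop (𝓝 0) := by
    simpa using (tendsto_one_div_atTop_nhds_zero_nat (𝕜 := ℝ)).const_mul (((k + 1 : ℕ) : ℝ) * c)
  refine tendsto_iff_norm_sub_tendsto_zero.2 (squeeze_zero' (Eventually.of_forall fun _ => norm_nonneg _)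
    (eventually_atTop.2 ⟨1, fun n hn => ?_⟩) hlim)
  have hn0 : (0 : ℝ) < (n : ℝ) := by exact_mod_cast hn
  rw [Real.norm_eq_abs, div_sub' (pow_ne_zero _ hn0.ne'), abs_div, abs_of_pos (pow_pos hn0 k),
    div_le_iff₀ (pow_pos hn0 k)]
  refine (hbound n hn).trans (le_of_eq ?_)
  rw [show (n : ℝ) ^ k = (n : ℝ) * (n : ℝ) ^ (k - 1) by rw [← pow_succ']; congr 1; omega]
  field_simp

end Groth.Agent.LC17
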