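import Mathlib.RingTheory.Ideal.Height
import Mathlib.RingTheory.Ideal.KrullsHeightTheorem
import Mathlib.RingTheory.Ideal.Quotient.Operations

set_option autoImplicit false

universe u

namespace Groth.Agent.LC17

variable {R : Type u} [CommRing R]

/-- height of the image of `q` in `R/p` -/
noncomputable abbrev htq (p q : Ideal R) : ℕ∞ := (q.map (Ideal.Quotient.mk p)).height

lemma isPrime_map_mk {p q : Ideal R} [q.IsPrime] (h : p ≤ q) :
    (q.map (Ideal.Quotient.mk p)).IsPrime :=
  Ideal.map_isPrime_of_surjective Ideal.Quotient.mk_surjective (by rwa [Ideal.mk_ker])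

lemma comap_map_mk' {p q : Ideal R} (h : p ≤ q) :
    (q.map (Ideal.Quotient.mk p)).comap (Ideal.Quotient.mk p) = q := by
  rw [Ideal.comap_map_of_surjective _ Ideal.Quotient.mk_surjective, ← RingHom.ker_eq_comap_bot,
    Ideal.mk_ker, sup_eq_left.mpr h]

lemma map_mk_lt {p a b : Ideal R} (ha : p ≤ a) (hb : p ≤ b) (h : a < b) :
    a.map (Ideal.Quotient.mk p) < b.map (Ideal.Quotient.mk p) := by
  refine lt_of_le_of_ne (Ideal.map_mono h.le) fun e => h.ne ?_
  rw [← comap_map_mk' ha, e, comap_map_mk' hb]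

lemma comap_mk_lt {p : Ideal R} {a b : Ideal (R ⧸ p)} (h : a < b) :
    a.comap (Ideal.Quotient.mk p) < b.comap (Ideal.Quotient.mk p) := by
  refine lt_of_le_of_ne (Ideal.comap_mono h.le) fun e => h.ne ?_
  rw [← Ideal.map_comap_of_surjective _ Ideal.Quotient.mk_surjective a, e,
    Ideal.map_comap_of_surjective _ Ideal.Quotient.mk_surjective b]

lemma htq_mono {p a b : Ideal R} (h : a ≤ b) : htq p a ≤ htq p b :=
  Ideal.height_mono (Ideal.map_mono h)

lemma htq_add_one_le {p a b : Ideal R} [a.IsPrime] [b.IsPrime] (ha : p ≤ a) (h : a < b) :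
    htq p a + 1 ≤ htq p b := by
  haveI := isPrime_map_mk (q := a) ha
  haveI := isPrime_map_mk (q := b) (ha.trans h.le)
  exact Ideal.height_add_one_le_of_lt_of_isPrime (map_mk_lt ha (ha.trans h.le) h)

lemma one_le_htq {p q : Ideal R} [p.IsPrime] [q.IsPrime] (h : p < q) : 1 ≤ htq p q :=
  le_trans le_add_self (htq_add_one_le le_rfl h)

lemma exists_prime_below {p q : Ideal R} [q.IsPrime] (hpq : p ≤ q) {n : ℕ}
    (h : ((n + 1 : ℕ) : ℕ∞) ≤ htq p q) :
    ∃ t : Ideal R, t.IsPrime ∧ p ≤ t ∧ t < q ∧ (n : ℕ∞) ≤ htq p t := by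
  haveI := isPrime_map_mk (q := q) hpq
  let Q : PrimeSpectrum (R ⧸ p) := ⟨q.map (Ideal.Quotient.mk p), inferInstance⟩
  have h' : ((n + 1 : ℕ) : ℕ∞) ≤ Order.height Q := by
    rw [← PrimeSpectrum.height_eq_orderHeight]; exact h
  obtain ⟨s, hs, hl⟩ := Order.exists_series_of_le_height Q h'
  have hne : s.length ≠ 0 := by omega
  let T := s.eraseLast.last
  have hT : T < Q := hs ▸ s.eraseLast_last_rel_last hne
  have h1 : ((n : ℕ) : ℕ∞) ≤ Order.height T := by
    have := Order.length_le_height_last (p := s.eraseLast)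
    rwa [RelSeries.eraseLast_length, hl] at this
  refine ⟨T.asIdeal.comap (Ideal.Quotient.mk p), inferInstance, ?_, ?_, ?_⟩
  · intro x hx
    rw [Ideal.mem_comap, Ideal.Quotient.eq_zero_iff_mem.mpr hx]
    exact zero_mem _
  · have h2 := comap_mk_lt (show T.asIdeal < Q.asIdeal from hT)
    rwa [comap_map_mk' hpq] at h2
  · rw [htq, Ideal.map_comap_of_surjective _ Ideal.Quotient.mk_surjective,
      PrimeSpectrum.height_eq_orderHeight]
    exact h1

lemma htq_add_le {p t q : Ideal R} [t.IsPrime] [q.IsPrime] (hpt : p ≤ t) (htq' : t ≤ q) :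
    htq p t + htq t q ≤ htq p q := by
  suffices H : ∀ (n : ℕ) (q : Ideal R) [q.IsPrime], t ≤ q → (n : ℕ∞) ≤ htq t q →
      htq p t + n ≤ htq p q by
    cases h : htq t q with
    | top =>
      by_cases hq : htq p q = ⊤
      · rw [hq]; exact le_top
      · obtain ⟨m, hm⟩ := ENat.ne_top_iff_exists.mp hq
        have h3 := H (m + 1) q htq' (by rw [h]; exact le_top)
        rw [← hm] at h3
        have h4 : ((m + 1 : ℕ) : ℕ∞) ≤ (m : ℕ∞) := le_trans le_add_self h3
        exact absurd (Nat.cast_le.mp h4) (by omega)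
    | coe m => exact H m q htq' (by rw [h])
  intro n
  induction n with
  | zero => intro q _ h _; simpa using htq_mono h
  | succ n ih =>
    intro q _ hq h
    obtain ⟨t', ht', h1, h2, h3⟩ := exists_prime_below hq h
    calc htq p t + ((n + 1 : ℕ) : ℕ∞) = htq p t + n + 1 := by push_cast; rw [add_assoc]
      _ ≤ htq p t' + 1 := by gcongr; exact ih t' h1 h3
      _ ≤ htq p q := htq_add_one_le (hpt.trans h1) h2

lemma exists_prime_htq_eq {p J : Ideal R} (h : p ≤ J) {n : ℕ} (hn : htq p J = n) :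
    ∃ q : Ideal R, q.IsPrime ∧ J ≤ q ∧ htq p q = n := by
  obtain ⟨P, hP, hJP, hP'⟩ := Ideal.exists_isPrime_height_eq hn
  exact ⟨P.comap (Ideal.Quotient.mk p), inferInstance, Ideal.map_le_iff_le_comap.mp hJP,
    by rw [htq, Ideal.map_comap_of_surjective _ Ideal.Quotient.mk_surjective]; exact hP'⟩

lemma exists_htq_eq [IsNoetherianRing R] {p q : Ideal R} [q.IsPrime] (h : p ≤ q) :
    ∃ n : ℕ, htq p q = n := by
  haveI := isPrime_map_mk (q := q) h
  exact (ENat.ne_top_iff_exists.mp ((q.map (Ideal.Quotient.mk p)).height_ne_top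
    Ideal.IsPrime.ne_top')).imp fun _ e => e.symm

lemma eq_of_between {p q : Ideal R} [p.IsPrime] [q.IsPrime] (h : htq p q ≤ 1) {t : Ideal R}
    [t.IsPrime] (h1 : p < t) (h2 : t ≤ q) : t = q := by
  by_contra hne
  have h3 := le_trans (add_le_add (one_le_htq h1) (one_le_htq (lt_of_le_of_ne h2 hne)))
    ((htq_add_le h1.le h2).trans h)
  norm_num at h3

lemma lt_of_htq {p q : Ideal R} [p.IsPrime] (h : p ≤ q) (hq : 1 ≤ htq p q) : p < q := by
  refine lt_of_le_of_ne h fun e => ?_
  subst e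
  rw [htq, Ideal.map_quotient_self, Ideal.height_bot] at hq
  exact one_ne_zero (le_antisymm hq bot_le)

lemma exists_prime_between [IsNoetherianRing R] {s q : Ideal R} {a : R} [s.IsPrime] [q.IsPrime]
    (has : a ∉ s) (haq : a ∈ q) (hsq : s < q) (hht : 1 < htq s q) :
    ∃ t : Ideal R, t.IsPrime ∧ s < t ∧ t < q ∧ a ∉ t := by
  classical
  let J := s ⊔ Ideal.span {a}
  have hfin : (insert s J.minimalPrimes).Finite :=
    (Ideal.finite_minimalPrimes_of_isNoetherianRing R J).insert s
  obtain ⟨b, hbq, hb⟩ : ∃ b ∈ q, ∀ P ∈ insert s J.minimalPrimes, b ∉ P := by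
    by_contra! hcon
    have hsub : (q : Set R) ⊆ ⋃ P ∈ (hfin.toFinset : Set (Ideal R)), (P : Set R) := by
      intro x hx
      obtain ⟨P, hP, hxP⟩ := hcon x hx
      exact Set.mem_iUnion₂.mpr ⟨P, hfin.mem_toFinset.mpr hP, hxP⟩
    obtain ⟨P, hP, hqP⟩ := (Ideal.subset_union_prime ⊥ ⊥ (fun P hP _ _ => by
      rcases hfin.mem_toFinset.mp hP with rfl | h
      · assumption
      · exact h.isPrime)).mp hsub
    rcases hfin.mem_toFinset.mp hP with rfl | h
    · exact hsq.not_ge hqP
    · exact absurd (le_trans (Ideal.height_mono (Ideal.map_mono hqP))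
        (Ideal.map_height_le_one_of_mem_minimalPrimes h)) hht.not_ge
  have hJq : s ⊔ Ideal.span {b} ≤ q := sup_le hsq.le (by simpa [Ideal.span_le] using hbq)
  obtain ⟨t, ht, htq⟩ := Ideal.exists_minimalPrimes_le hJq
  haveI := ht.isPrime
  have hst : s ≤ t := le_sup_left.trans ht.le
  have hbt : b ∈ t := ht.le (Ideal.mem_sup_right (Ideal.mem_span_singleton_self b))
  have hslt : s < t := lt_of_le_of_ne hst fun e => hb s (Set.mem_insert _ _) (e ▸ hbt)
  have hth := Ideal.map_height_le_one_of_mem_minimalPrimes ht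
  refine ⟨t, inferInstance, hslt, lt_of_le_of_ne htq fun e => hht.not_ge (e ▸ hth), fun hat => ?_⟩
  have hJt : J ≤ t := sup_le hst (by simpa [Ideal.span_le] using hat)
  obtain ⟨P, hP, hPt⟩ := Ideal.exists_minimalPrimes_le hJt
  haveI := hP.isPrime
  have hsP : s < P := lt_of_le_of_ne (le_sup_left.trans hP.le)
    fun e => has (e ▸ hP.le (Ideal.mem_sup_right (Ideal.mem_span_singleton_self a)))
  have hPt' : P < t := lt_of_le_of_ne hPt fun e => hb P (Set.mem_insert_of_mem _ hP) (e ▸ hbt)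
  haveI : (P.map (Ideal.Quotient.mk s)).IsPrime :=
    Ideal.map_isPrime_of_surjective Ideal.Quotient.mk_surjective (by rw [Ideal.mk_ker]; exact hsP.le)
  haveI : (t.map (Ideal.Quotient.mk s)).IsPrime :=
    Ideal.map_isPrime_of_surjective Ideal.Quotient.mk_surjective (by rw [Ideal.mk_ker]; exact hst)
  have hlt : ∀ {A B : Ideal R}, s ≤ A → s ≤ B → A < B →
      A.map (Ideal.Quotient.mk s) < B.map (Ideal.Quotient.mk s) := by
    intro A B hA hB hAB
    refine lt_of_le_of_ne (Ideal.map_mono hAB.le) fun e => hAB.ne ?_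
    have := congrArg (Ideal.comap (Ideal.Quotient.mk s)) e
    simpa [Ideal.comap_map_of_surjective _ Ideal.Quotient.mk_surjective, ← RingHom.ker_eq_comap_bot,
      sup_eq_left.mpr hA, sup_eq_left.mpr hB] using this
  have h1 := Ideal.height_add_one_le_of_lt_of_isPrime (hlt hsP.le hst hPt')
  haveI : (s.map (Ideal.Quotient.mk s)).IsPrime :=
    Ideal.map_isPrime_of_surjective Ideal.Quotient.mk_surjective (by rw [Ideal.mk_ker])
  have h2 := Ideal.height_add_one_le_of_lt_of_isPrime (hlt le_rfl hsP.le hsP)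
  have h3 : (1 : ℕ∞) ≤ (P.map (Ideal.Quotient.mk s)).height := le_trans (by simp) h2
  have := le_trans (add_le_add_left h3 1) (h1.trans hth)
  norm_num at this

end Groth.Agent.LC17
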