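import Groth.Agent.LC17.DepthLoc
import Groth.Agent.LC17.Chain
import Groth.Prelude.Def_W4bk5brsh7111920

/-!
Adjacent primes `p < s` and vanishing of local cohomology after localizing at `s`.
-/

set_option autoImplicit false

universe u

open scoped Pointwise
open Groth.Agent.LC15

namespace Groth.Agent.LC17

variable {R : Type u} [CommRing R] [IsNoetherianRing R]

lemma exists_pow_mul_le {p s a : Ideal R} [p.IsPrime] [s.IsPrime]
    (hadj : ∀ t : Ideal R, t.IsPrime → p < t → t ≤ s → t = s) (has : a ≤ s)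
    {f : R} (hf : f ∉ p) :
    ∃ k : ℕ, ∃ u ∉ s, ∀ r ∈ a ^ k, u * r ∈ Ideal.span {f} ⊔ p := by
  classical
  set J := Ideal.span {f} ⊔ p with hJ
  let K : Ideal R :=
    { carrier := {r | ∃ u ∈ s.primeCompl, u * r ∈ J}
      zero_mem' := ⟨1, one_mem _, by simp⟩
      add_mem' := by
        rintro x y ⟨u, hu, hx⟩ ⟨v, hv, hy⟩
        refine ⟨u * v, mul_mem hu hv, ?_⟩
        rw [mul_add]
        exact add_mem (by rw [mul_comm u v, mul_assoc]; exact J.mul_mem_left v hx)
          (by rw [mul_assoc]; exact J.mul_mem_left u hy)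
      smul_mem' := by
        rintro c x ⟨u, hu, hx⟩
        exact ⟨u, hu, by rw [smul_eq_mul, mul_left_comm]; exact J.mul_mem_left c hx⟩ }
  have hrad : a ≤ K.radical := by
    intro r hr
    by_contra hnr
    have hdisj : Disjoint (J : Set R) ↑(s.primeCompl ⊔ Submonoid.powers r) := by
      rw [Set.disjoint_left]
      intro v hvJ hv
      obtain ⟨u, hu, _, ⟨k, rfl⟩, rfl⟩ := Submonoid.mem_sup.mp hv
      exact hnr ⟨k, u, hu, hvJ⟩
    obtain ⟨P, hP, hJP, hPd⟩ := Ideal.exists_le_prime_disjoint J _ hdisj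
    rw [Set.disjoint_left] at hPd
    have hPs : P ≤ s := fun x hx => by
      by_contra hxs
      exact hPd hx (SetLike.le_def.mp le_sup_left (show x ∈ s.primeCompl from hxs))
    have hpP : p < P := lt_of_le_of_ne (le_sup_right.trans hJP) fun e =>
      hf (e ▸ hJP (Ideal.mem_sup_left (Ideal.mem_span_singleton_self f)))
    exact hPd (hadj P hP hpP hPs ▸ has hr)
      (SetLike.le_def.mp le_sup_right (Submonoid.mem_powers r))
  obtain ⟨k, hk⟩ := Ideal.exists_pow_le_of_le_radical_of_fg hrad (IsNoetherian.noetherian a)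
  obtain ⟨t, ht⟩ := (IsNoetherian.noetherian (a ^ k) : Submodule.FG (a ^ k))
  have hK : ∀ r ∈ t, ∃ u ∈ s.primeCompl, u * r ∈ J := fun r hr => hk (ht ▸ Submodule.subset_span hr)
  choose! u hu hu' using hK
  refine ⟨k, ∏ r ∈ t, u r, prod_mem (S := s.primeCompl) hu, fun r hr => ?_⟩
  rw [← ht] at hr
  induction hr using Submodule.span_induction with
  | mem r hr => rw [← Finset.prod_erase_mul _ _ hr, mul_assoc]; exact J.mul_mem_left _ (hu' r hr)
  | zero => simp
  | add x y _ _ hx hy => rw [mul_add]; exact add_mem hx hy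
  | smul c x _ hx => rw [smul_eq_mul, mul_left_comm]; exact J.mul_mem_left c hx

variable {M : Type u} [AddCommGroup M] [Module R M]

/-- an element without killer in `S` lies under an associated prime missing `S` -/
lemma exists_associated_disjoint {S : Submonoid R} {y : M} (hy : ∀ u ∈ S, u • y ≠ 0) :
    ∃ q ∈ associatedPrimes R M, (∀ r : R, r • y = 0 → r ∈ q) ∧ Disjoint (q : Set R) S := by
  let ann : M → Ideal R := fun z => LinearMap.ker (LinearMap.toSpanSingleton R M z)
  have hmem : ∀ z r, r ∈ ann z ↔ r • z = 0 := fun z r => by simp [ann]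
  obtain ⟨P, ⟨r, hr, rfl⟩, hmax⟩ := set_has_maximal_iff_noetherian.mpr ‹IsNoetherianRing R›
    {P | ∃ r : R, (∀ u ∈ S, u • r • y ≠ 0) ∧ P = ann (r • y)}
    ⟨_, 1, by simpa using hy, rfl⟩
  set z := r • y with hz
  have heq : ∀ b : R, (∀ u ∈ S, u • b • z ≠ 0) → ann (b • z) = ann z := fun b hb => by
    refine (eq_of_le_of_not_lt (fun x hx => ?_) (hmax (ann (b • z))
      ⟨b * r, by simpa [mul_smul, hz] using hb, by rw [mul_smul]⟩)).symm
    rw [hmem] at hx ⊢
    rw [smul_comm, hx, smul_zero]
  have hdisj : Disjoint (ann z : Set R) S :=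
    Set.disjoint_left.mpr fun u hu huS => hr u huS ((hmem z u).mp hu)
  have hprime : (ann z).IsPrime := by
    refine ⟨(Ideal.ne_top_iff_one _).mpr (Set.disjoint_right.mp hdisj S.one_mem), fun {a b} hab => ?_⟩
    by_cases hb : ∀ u ∈ S, u • b • z ≠ 0
    · left
      rw [← heq b hb, hmem, smul_smul]
      exact (hmem _ _).mp hab
    · right
      push Not at hb
      obtain ⟨u, hu, hub⟩ := hb
      rw [← heq u fun v hv h => hr (v * u) (mul_mem hv hu) (by rw [mul_smul]; exact h), hmem,
        smul_comm]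
      exact hub
  refine ⟨ann z, ?_, fun c hc => (hmem _ _).mpr (by rw [hz, smul_comm, hc, smul_zero]), hdisj⟩
  refine isAssociatedPrime_iff.mpr ⟨hprime, z, ?_⟩
  ext c
  simp [hmem, Submodule.mem_colon_singleton]

/-- some power of `c` is zero after localizing at `S` -/
def KNex (S : Submonoid R) (c : R) (N : Type u) [AddCommGroup N] [Module R N] : Prop :=
  ∃ n : ℕ, KN S (c ^ n) N

omit [IsNoetherianRing R] in
lemma KNex.middle {S : Submonoid R} {c : R} {A B C : Type u} [AddCommGroup A] [Module R A]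
    [AddCommGroup B] [Module R B] [AddCommGroup C] [Module R C] {f : A →ₗ[R] B} {g : B →ₗ[R] C}
    (hfg : Function.Exact f g) (h1 : KNex S c A) (h2 : KNex S c C) : KNex S c B := by
  obtain ⟨n, hn⟩ := h1
  obtain ⟨m, hm⟩ := h2
  exact ⟨n + m, by rw [pow_add]; exact hn.middle hfg hm⟩

omit [IsNoetherianRing R] in
lemma KNex.of_killed {S : Submonoid R} {c u : R} {n : ℕ} (hu : u ∈ S) {A : Type u} [AddCommGroup A]
    [Module R A] (h : ∀ y : A, u • c ^ n • y = 0) (I : Ideal R) (i : ℕ) :
    KNex S c (LocCoh.H I i A) :=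
  ⟨n, fun y => ⟨u, hu, by
    rw [smul_smul]
    exact smul_H_eq_zero I i (fun m => by rw [mul_smul]; exact h m) y⟩⟩

variable {p s a : Ideal R} [p.IsPrime] [s.IsPrime] [Module.Finite R M]

lemma not_kn_H1_of_associated (hps : p < s)
    (hadj : ∀ t : Ideal R, t.IsPrime → p < t → t ≤ s → t = s) (has : a ≤ s) (hap : ¬ a ≤ p)
    (hp : p ∈ associatedPrimes R M) {c : R} (hc : c ∉ p) :
    ¬ KN s.primeCompl c (LocCoh.H a 1 M) := by
  intro hk
  obtain ⟨e, hea, hep⟩ := SetLike.not_le_iff_exists.mp hap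
  obtain ⟨m, hm⟩ := exists_annihilator_mem hp
  let φ : (R ⧸ p) →ₗ[R] M := Submodule.liftQ p (LinearMap.toSpanSingleton R M m)
    (fun r hr => by simpa using (hm r).mpr hr)
  have hφ : Function.Injective φ := by
    rw [← LinearMap.ker_eq_bot, Submodule.eq_bot_iff]
    intro x hx
    obtain ⟨r, rfl⟩ := Submodule.mkQ_surjective _ x
    exact (Submodule.Quotient.mk_eq_zero p).mpr ((hm r).mp hx)
  have hex : Function.Exact φ (LinearMap.range φ).mkQ := φ.exact_map_mkQ_range
  obtain ⟨N, hN⟩ : ∃ N : ℕ, ∀ y : gamma a (M ⧸ LinearMap.range φ), e ^ N • y = 0 := by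
    obtain ⟨v, ⟨N, rfl⟩, hv⟩ := exists_kill (S := Submonoid.powers e)
      (M := gamma a (M ⧸ LinearMap.range φ)) (fun y => by
        obtain ⟨k, hk⟩ := y.2
        exact ⟨e ^ k, ⟨k, rfl⟩, Subtype.ext (hk _ (Ideal.pow_mem_pow hea k))⟩)
    exact ⟨N, hv⟩
  have hk' : KN s.primeCompl (e ^ N * c) (LocCoh.H a 1 (R ⧸ p)) :=
    KN.middle (c := e ^ N) (H_exact₁ a 0 hφ hex (Submodule.mkQ_surjective _))
      (fun y => ⟨1, one_mem _, by
        rw [one_smul]
        exact (H0equiv a _).injective (by rw [map_smul, map_zero]; exact hN _)⟩) hk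
  set g := e ^ N * c with hg
  have hgp : g ∉ p := fun h => (Ideal.IsPrime.mem_or_mem ‹p.IsPrime› h).elim
    (fun h => hep (Ideal.IsPrime.mem_of_pow_mem ‹_› N h)) hc
  have hF : g * e ∉ p := fun h => (Ideal.IsPrime.mem_or_mem ‹p.IsPrime› h).elim hgp hep
  obtain ⟨k, u₁, hu₁, hu₁k⟩ := exists_pow_mul_le hadj has hF
  have hreg : ∀ {x : R}, x ∉ p → IsSMulRegular (R ⧸ p) x := fun {x} hx => by
    refine isSMulRegular_iff_right_eq_zero_of_smul.mpr fun z hz => ?_
    obtain ⟨r, rfl⟩ := Ideal.Quotient.mk_surjective z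
    rw [Algebra.smul_def, Ideal.Quotient.algebraMap_eq, ← map_mul,
      Ideal.Quotient.eq_zero_iff_mem] at hz
    exact Ideal.Quotient.eq_zero_iff_mem.mpr ((Ideal.IsPrime.mem_or_mem ‹_› hz).resolve_left hx)
  let μ := LinearMap.lsmul R (R ⧸ p) (g * e)
  have hμ : Function.Injective μ := hreg hF
  have hex' : Function.Exact μ (LinearMap.range μ).mkQ := μ.exact_map_mkQ_range
  have hw : (LinearMap.range μ).mkQ (Ideal.Quotient.mk p u₁) ∈ gamma a _ := by
    refine ⟨k, fun r hr => ?_⟩
    rw [← map_smul, Submodule.mkQ_apply, Submodule.Quotient.mk_eq_zero]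
    obtain ⟨x, hx, y, hy, hxy⟩ := Submodule.mem_sup.mp (hu₁k r hr)
    obtain ⟨z, rfl⟩ := Ideal.mem_span_singleton.mp hx
    refine ⟨Ideal.Quotient.mk p z, ?_⟩
    simp only [μ, LinearMap.lsmul_apply, Algebra.smul_def, Ideal.Quotient.algebraMap_eq, ← map_mul]
    rw [mul_comm r, ← hxy, map_add, Ideal.Quotient.eq_zero_iff_mem.mpr hy, add_zero]
  let w := (H0equiv a _).symm ⟨_, hw⟩
  obtain ⟨u, hu, huw⟩ := hk' (Hδ a 0 hμ hex' (Submodule.mkQ_surjective _) w)
  rw [← map_smul, ← map_smul] at huw
  obtain ⟨z, hz⟩ := (H_exact₃ a 0 hμ hex' (Submodule.mkQ_surjective _) _).mp huw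
  haveI : Subsingleton (LocCoh.H a 0 (R ⧸ p)) :=
    (subsingleton_H0_iff _ _).mpr (gamma_eq_bot_of_regular hea (hreg hep))
  rw [Subsingleton.elim z 0, map_zero] at hz
  have h0 : u • g • (LinearMap.range μ).mkQ (Ideal.Quotient.mk p u₁) = 0 := by
    have h1 := congrArg (fun t => ((H0equiv a _ t : gamma a _) : (R ⧸ p) ⧸ LinearMap.range μ)) hz.symm
    simpa [w] using h1
  rw [← map_smul, ← map_smul, Submodule.mkQ_apply, Submodule.Quotient.mk_eq_zero] at h0
  obtain ⟨d, hd⟩ := h0
  obtain ⟨d, rfl⟩ := Ideal.Quotient.mk_surjective d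
  simp only [μ, LinearMap.lsmul_apply, Algebra.smul_def, Ideal.Quotient.algebraMap_eq, ← map_mul,
    Ideal.Quotient.eq] at hd
  have h2 : g * (e * d - u * u₁) ∈ p := by convert hd using 1; ring
  have h3 : u * u₁ ∈ s := by
    have := hps.le ((Ideal.IsPrime.mem_or_mem ‹p.IsPrime› h2).resolve_left hgp)
    simpa using s.sub_mem (s.mul_mem_right d (has hea)) this
  exact (Ideal.IsPrime.mem_or_mem ‹s.IsPrime› h3).elim hu hu₁

lemma associated_of_not_nul_H0 (h : ¬ Nul p.primeCompl (LocCoh.H p 0 M)) :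
    p ∈ associatedPrimes R M := by
  rw [Nul] at h
  push Not at h
  obtain ⟨y, hy⟩ := h
  obtain ⟨q, hq, hyq, hdisj⟩ := exists_associated_disjoint (S := p.primeCompl)
    (y := (H0equiv p M y : M)) (fun u hu he => hy u hu ((H0equiv p M).injective (Subtype.ext (by
      rw [map_smul, map_zero]; exact he))))
  haveI := IsAssociatedPrime.isPrime hq
  have h1 : q = p := by
    refine le_antisymm (fun x hx => ?_) (fun x hx => ?_)
    · by_contra hxp
      exact Set.disjoint_left.mp hdisj hx hxp
    · obtain ⟨k, hk⟩ := (H0equiv p M y).2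
      exact Ideal.IsPrime.mem_of_pow_mem inferInstance k (hyq _ (hk _ (Ideal.pow_mem_pow hx k)))
  exact h1 ▸ hq

theorem not_forall_knex (hps : p < s)
    (hadj : ∀ t : Ideal R, t.IsPrime → p < t → t ≤ s → t = s) (has : a ≤ s) (hap : ¬ a ≤ p)
    {c : R} (hc : c ∉ p) : ∀ (t : ℕ) (M : Type u) [AddCommGroup M] [Module R M] [Module.Finite R M],
    ¬ (∀ i, i ≤ t → Nul p.primeCompl (LocCoh.H p i M)) →
    ¬ (∀ i, i ≤ t + 1 → KNex s.primeCompl c (LocCoh.H a i M)) := by
  intro t
  induction t with
  | zero =>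
    intro M _ _ _ hd hk
    obtain ⟨n, hn⟩ := hk 1 le_rfl
    refine not_kn_H1_of_associated hps hadj has hap (associated_of_not_nul_H0 fun h => hd fun i hi => ?_)
      (fun h => hc (Ideal.IsPrime.mem_of_pow_mem ‹_› n h)) hn
    rwa [Nat.le_zero.mp hi]
  | succ t ih =>
    intro M _ _ _ hd hk
    by_cases hp : p ∈ associatedPrimes R M
    · obtain ⟨n, hn⟩ := hk 1 (by omega)
      exact not_kn_H1_of_associated hps hadj has hap hp
        (fun h => hc (Ideal.IsPrime.mem_of_pow_mem ‹_› n h)) hn
    let S := s.primeCompl ⊔ Submonoid.powers c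
    let A : Set (Ideal R) := {q | q ∈ associatedPrimes R M ∧ Disjoint (q : Set R) S}
    have hA : A.Finite := (associatedPrimes.finite R M).subset fun q h => h.1
    have hno : ∀ q ∈ A, ¬ p ≤ q := by
      rintro q ⟨hq, hqd⟩ hpq
      haveI := IsAssociatedPrime.isPrime hq
      rw [Set.disjoint_left] at hqd
      have hqs : q ≤ s := fun x hx => by
        by_contra hxs
        exact hqd hx (SetLike.le_def.mp le_sup_left (show x ∈ s.primeCompl from hxs))
      rcases hpq.eq_or_lt with rfl | hlt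
      · exact hp hq
      · obtain rfl := hadj q inferInstance hlt hqs
        obtain ⟨n, hn⟩ := hk 0 (by omega)
        obtain ⟨m, hm⟩ := exists_annihilator_mem hq
        refine not_nul_H0_of_associated q has hm (hn.nul ?_)
        exact fun h => hqd h (SetLike.le_def.mp le_sup_right ⟨n, rfl⟩)
    obtain ⟨x, hxp, hx⟩ : ∃ x ∈ p, ∀ q ∈ A, x ∉ q := by
      by_contra! hcon
      have hsub : (p : Set R) ⊆ ⋃ q ∈ (hA.toFinset : Set (Ideal R)), (q : Set R) := fun x hx => by
        obtain ⟨q, hq, hxq⟩ := hcon x hx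
        exact Set.mem_iUnion₂.mpr ⟨q, hA.mem_toFinset.mpr hq, hxq⟩
      obtain ⟨q, hq, hle⟩ := (Ideal.subset_union_prime ⊥ ⊥ (fun q hq _ _ =>
        IsAssociatedPrime.isPrime (hA.mem_toFinset.mp hq).1)).mp hsub
      exact hno q (hA.mem_toFinset.mp hq) hle
    have hxS : RegAt S x M := by
      intro y
      by_contra! hy
      obtain ⟨q, hq, hyq, hdisj⟩ := exists_associated_disjoint (S := S) (y := y.1)
        (fun u hu he => hy u hu (Subtype.ext he))
      exact hx q ⟨hq, hdisj⟩ (hyq x y.2)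
    obtain ⟨v, hv, hvk⟩ := exists_kill hxS
    obtain ⟨u, hu, _, ⟨N, rfl⟩, rfl⟩ := Submonoid.mem_sup.mp hv
    have hxp' : RegAt p.primeCompl x M := fun y =>
      ⟨u * c ^ N, mul_mem (show u ∈ p.primeCompl from fun h => hu (hps.le h))
        (show c ^ N ∈ p.primeCompl from fun h => hc (Ideal.IsPrime.mem_of_pow_mem ‹_› N h)), hvk y⟩
    refine ih (QuotSMulTop x M) (fun h => hd fun i hi => ?_) fun i hi => ?_
    · match i with
      | 0 =>
        by_contra h0
        exact hp (associated_of_not_nul_H0 h0)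
      | j + 1 => exact nul_H_succ_of_quot p hxp' hxp j (h j (by omega))
    · set F := LinearMap.lsmul R M x
      have hex : Function.Exact (LinearMap.ker F).subtype F.rangeRestrict :=
        LinearMap.exact_iff.mpr (by rw [LinearMap.ker_rangeRestrict, Submodule.range_subtype])
      have hI : KNex s.primeCompl c (LocCoh.H a (i + 1) (LinearMap.range F)) :=
        KNex.middle (H_exact₃ a (i + 1) (Submodule.subtype_injective _) hex F.surjective_rangeRestrict)
          (hk (i + 1) (by omega))
          (KNex.of_killed hu (fun y => by rw [smul_smul]; exact hvk y) a (i + 1 + 1))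
      exact KNex.middle (H_exact₃ a i (Submodule.subtype_injective _) (exact_range_quot x)
        (Submodule.mkQ_surjective _)) (hk i (by omega)) hI

lemma natCast_succ_le_depth_loc_iff (t : ℕ) :
    ((t + 1 : ℕ) : ℕ∞) ≤ LocCoh.depth (Localization.AtPrime p) (LocalizedModule p.primeCompl M) ↔
      ∀ i, i ≤ t → Nul p.primeCompl (LocCoh.H p i M) := by
  rw [natCast_le_depth_loc_iff]
  exact ⟨fun h i hi => h i (by omega), fun h i hi => h i (by omega)⟩

theorem depth_loc_le_add_one (hps : p < s)
    (hadj : ∀ t : Ideal R, t.IsPrime → p < t → t ≤ s → t = s) :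
    LocCoh.depth (Localization.AtPrime s) (LocalizedModule s.primeCompl M) ≤
      LocCoh.depth (Localization.AtPrime p) (LocalizedModule p.primeCompl M) + 1 := by
  cases h : LocCoh.depth (Localization.AtPrime p) (LocalizedModule p.primeCompl M) with
  | top => simp
  | coe d =>
    by_contra! hlt
    have h2 : ((d + 1 + 1 : ℕ) : ℕ∞) ≤
        LocCoh.depth (Localization.AtPrime s) (LocalizedModule s.primeCompl M) := by
      have h4 := (ENat.add_one_le_iff (by simp)).mpr hlt
      exact_mod_cast h4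
    rw [natCast_succ_le_depth_loc_iff] at h2
    refine not_forall_knex hps hadj le_rfl hps.not_ge (c := 1)
      ((Ideal.ne_top_iff_one p).mp Ideal.IsPrime.ne_top') d M (fun hn => ?_)
      fun i hi => ⟨0, by rw [one_pow]; exact KN_one.mpr (h2 i hi)⟩
    rw [← natCast_succ_le_depth_loc_iff, h] at hn
    exact absurd (Nat.cast_le.mp hn) (by omega)

theorem depth_loc_le_add_height (hps : p ≤ s) :
    LocCoh.depth (Localization.AtPrime s) (LocalizedModule s.primeCompl M) ≤
      LocCoh.depth (Localization.AtPrime p) (LocalizedModule p.primeCompl M) + htq p s := by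
  obtain ⟨n, hn⟩ := exists_htq_eq (q := s) hps
  suffices H : ∀ (n : ℕ) (q : Ideal R) [q.IsPrime], p ≤ q → htq p q = n →
      LocCoh.depth (Localization.AtPrime q) (LocalizedModule q.primeCompl M) ≤
      LocCoh.depth (Localization.AtPrime p) (LocalizedModule p.primeCompl M) + n by
    rw [hn]; exact H n s hps hn
  clear hn n hps
  intro n
  induction n with
  | zero =>
    intro q _ hpq hq
    rcases hpq.eq_or_lt with rfl | hlt
    · simp
    · exact absurd (one_le_htq hlt) (by rw [hq]; simp)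
  | succ n ih =>
    intro q _ hpq hq
    obtain ⟨t, ht, h1, h2, h3⟩ := exists_prime_below hpq hq.ge
    have h4 : htq p t = n := by
      refine le_antisymm ?_ h3
      have h5 := htq_add_one_le (b := q) h1 h2
      rw [hq, Nat.cast_add, Nat.cast_one] at h5
      exact (ENat.add_le_add_iff_right (by simp)).mp h5
    have hadj : ∀ t' : Ideal R, t'.IsPrime → t < t' → t' ≤ q → t' = q := by
      intro t' _ h5 h6
      by_contra hne
      have h7 := htq_add_one_le (p := p) h1 h5
      have h8 := htq_add_one_le (p := p) (h1.trans h5.le) (lt_of_le_of_ne h6 hne)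
      rw [h4] at h7
      rw [hq, Nat.cast_add, Nat.cast_one] at h8
      have h9 := ((ENat.add_le_add_iff_right (by simp)).mp h8)
      have h10 : ((n + 1 : ℕ) : ℕ∞) ≤ (n : ℕ∞) := by rw [Nat.cast_add, Nat.cast_one]; exact h7.trans h9
      exact absurd (Nat.cast_le.mp h10) (by omega)
    calc _ ≤ _ + 1 := depth_loc_le_add_one h2 hadj
      _ ≤ LocCoh.depth (Localization.AtPrime p) (LocalizedModule p.primeCompl M) + n + 1 := by
        gcongr; exact ih t h1 h4
      _ = _ := by rw [Nat.cast_add, Nat.cast_one, add_assoc]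

omit [p.IsPrime] [s.IsPrime] [Module.Finite R M] in
lemma adj_of_htq (p s : Ideal R) [p.IsPrime] [s.IsPrime] (h : htq p s ≤ 1) :
    ∀ t : Ideal R, t.IsPrime → p < t → t ≤ s → t = s :=
  fun _ _ h1 h2 => eq_of_between h h1 h2

omit [p.IsPrime] [s.IsPrime] in
theorem finDimRel_le_adjDepth (a b : Ideal R) : ∀ (h : ℕ) (p : PrimeSpectrum R), ¬ b ≤ p.asIdeal →
    htq p.asIdeal (a ⊔ p.asIdeal) = h →
    LocCoh.finDimRel a b M ≤
      LocCoh.depth (Localization.AtPrime p.asIdeal) (LocalizedModule p.asIdeal.primeCompl M) + h := by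
  intro h
  induction h using Nat.strong_induction_on with
  | _ h ih =>
    intro p hbp hh
    cases hd : LocCoh.depth (Localization.AtPrime p.asIdeal)
        (LocalizedModule p.asIdeal.primeCompl M) with
    | top => simp
    | coe t =>
      obtain ⟨c, hcb, hcp⟩ := SetLike.not_le_iff_exists.mp hbp
      have hnot : ¬ ∀ i, i ≤ t → Nul p.asIdeal.primeCompl (LocCoh.H p.asIdeal i M) := fun hn => by
        rw [← natCast_succ_le_depth_loc_iff, hd] at hn
        exact absurd (Nat.cast_le.mp hn) (by omega)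
      have hfin : ∀ (i : ℕ) (S : Submonoid R), ¬ KNex S c (LocCoh.H a i M) →
          LocCoh.finDimRel a b M ≤ i := fun i S hi => iInf₂_le i fun hle => by
        obtain ⟨n, hn⟩ := hle hcb
        exact hi ⟨n, fun y => ⟨1, one_mem _, by rw [one_smul]; exact Module.mem_annihilator.mp hn y⟩⟩
      obtain ⟨q, hq, hle, hpq⟩ := exists_prime_htq_eq le_sup_right hh
      have hap : ∀ (_ : 1 ≤ h), ¬ a ≤ p.asIdeal := fun h1 hle' => by
        rw [sup_eq_right.mpr hle', htq, Ideal.map_quotient_self, Ideal.height_bot] at hh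
        exact absurd (Nat.cast_eq_zero.mp hh.symm) (by omega)
      match h with
      | 0 =>
        have hap0 : a ≤ p.asIdeal := by
          rcases (le_sup_right.trans hle).eq_or_lt with e | hlt
          · exact (le_sup_left.trans hle).trans e.ge
          · exact absurd (one_le_htq hlt) (by rw [hpq]; simp)
        simp only [Nat.cast_zero, add_zero]
        by_contra! hlt
        refine hnot ?_
        rw [← natCast_succ_le_depth_loc_iff]
        refine le_trans ((natCast_le_idealDepth_loc_iff p.asIdeal.primeCompl a (t + 1) M).mpr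
          fun i hi => ?_) (idealDepth_mono ((Ideal.map_mono hap0).trans
            Localization.AtPrime.map_eq_maximalIdeal.le))
        by_contra hN
        refine (lt_irrefl (t : ℕ∞)) (lt_of_lt_of_le hlt ((hfin i p.asIdeal.primeCompl ?_).trans
          (Nat.cast_le.mpr (by omega))))
        rintro ⟨n, hn⟩
        exact hN (hn.nul (fun hm => hcp (Ideal.IsPrime.mem_of_pow_mem inferInstance n hm)))
      | 1 =>
        have hlt : p.asIdeal < q := lt_of_htq (le_sup_right.trans hle) (by rw [hpq]; simp)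
        haveI := hq
        have hk := not_forall_knex hlt (adj_of_htq p.asIdeal q (by rw [hpq]; simp))
          (le_sup_left.trans hle) (hap le_rfl) hcp t M hnot
        push Not at hk
        obtain ⟨i, hi, hik⟩ := hk
        exact (hfin i _ hik).trans (by exact_mod_cast hi)
      | m + 2 =>
        haveI := hq
        have hpq' : p.asIdeal ≤ q := le_sup_right.trans hle
        obtain ⟨s, hs, hps, hsq, hcs⟩ : ∃ s : Ideal R, s.IsPrime ∧ p.asIdeal < s ∧ s < q ∧ c ∉ s := by
          by_cases hcq : c ∈ q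
          · exact exists_prime_between hcp hcq (lt_of_htq hpq' (by rw [hpq]; norm_cast; omega))
              (by rw [hpq]; norm_cast; omega)
          · obtain ⟨s, hs, h1, h2, h3⟩ := exists_prime_below (n := m + 1) hpq' hpq.ge
            exact ⟨s, hs, lt_of_htq h1 (le_trans (by norm_cast; omega) h3), h2, fun h => hcq (h2.le h)⟩
        have h5 : htq p.asIdeal s + htq s q ≤ ((m + 2 : ℕ) : ℕ∞) := hpq ▸ htq_add_le hps.le hsq.le
        have h6 : htq s (a ⊔ s) ≤ htq s q := htq_mono (sup_le (le_sup_left.trans hle) hsq.le)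
        obtain ⟨k, hk⟩ : ∃ k : ℕ, htq s (a ⊔ s) = k :=
          (ENat.ne_top_iff_exists.mp (ne_top_of_le_ne_top (ENat.natCast_ne_top _)
            (h6.trans (le_add_self.trans h5)))).imp fun _ e => e.symm
        have h7 : 1 + (k : ℕ∞) ≤ ((m + 2 : ℕ) : ℕ∞) :=
          le_trans (add_le_add (one_le_htq hps) (hk ▸ h6)) h5
        have hkm : k < m + 2 := by
          have : ((1 + k : ℕ) : ℕ∞) ≤ ((m + 2 : ℕ) : ℕ∞) := by exact_mod_cast h7
          have := Nat.cast_le.mp this
          omega
        calc LocCoh.finDimRel a b M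
            ≤ LocCoh.depth (Localization.AtPrime s) (LocalizedModule s.primeCompl M) + k :=
              ih k hkm ⟨s, hs⟩ (fun hbs => hcs (hbs hcb)) hk
          _ ≤ (LocCoh.depth (Localization.AtPrime p.asIdeal)
                (LocalizedModule p.asIdeal.primeCompl M) + htq p.asIdeal s) + htq s q := by
              gcongr
              · exact depth_loc_le_add_height hps.le
              · exact hk ▸ h6
          _ ≤ _ := by rw [hd, add_assoc]; gcongr

end Groth.Agent.LC17
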