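import Groth.Agent.LC17.Adjacent
import Mathlib.RingTheory.Finiteness.Basic

/-!
Depth after localization under change of rings.
-/

set_option autoImplicit false

universe u

open scoped Pointwise
open Groth.Agent.LC15

namespace Groth.Agent.LC17

variable {A : Type u} [CommRing A] {S : Submonoid A}
variable {M : Type u} [AddCommGroup M] [Module A M]

lemma nul_H0_iff (a : Ideal A) :
    Nul S (LocCoh.H a 0 M) ↔ ∀ m ∈ gamma a M, ∃ u ∈ S, u • m = 0 := by
  refine ⟨fun h m hm => ?_, fun h y => ?_⟩
  · obtain ⟨u, hu, huy⟩ := h ((H0equiv a M).symm ⟨m, hm⟩)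
    rw [← map_smul, LinearEquiv.map_eq_zero_iff] at huy
    exact ⟨u, hu, congrArg Subtype.val huy⟩
  · obtain ⟨u, hu, huy⟩ := h (H0equiv a M y : M) (H0equiv a M y).2
    exact ⟨u, hu, (H0equiv a M).injective (Subtype.ext (by rw [map_smul, map_zero]; exact huy))⟩

lemma nul_H0_of_regAt {a : Ideal A} {x : A} (hxa : x ∈ a) (hx : RegAt S x M) :
    Nul S (LocCoh.H a 0 M) := by
  suffices H : ∀ (k : ℕ) (m : M), x ^ k • m = 0 → ∃ u ∈ S, u • m = 0 from
    (nul_H0_iff a).mpr fun m ⟨k, hk⟩ => H k m (hk _ (Ideal.pow_mem_pow hxa k))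
  intro k
  induction k with
  | zero => intro m hm; exact ⟨1, S.one_mem, by simpa using hm⟩
  | succ k ih =>
    intro m hm
    rw [pow_succ', mul_smul] at hm
    obtain ⟨u, hu, huy⟩ := hx ⟨x ^ k • m, hm⟩
    obtain ⟨v, hv, hvm⟩ := ih (u • m) (by rw [smul_comm]; exact congrArg Subtype.val huy)
    exact ⟨v * u, S.mul_mem hv hu, by rw [mul_smul, hvm]⟩

section

variable [IsNoetherianRing A] [Module.Finite A M]

lemma exists_regAt (a : Ideal A) (h : Nul S (LocCoh.H a 0 M)) : ∃ x ∈ a, RegAt S x M := by
  let T : Set (Ideal A) := {q | q ∈ associatedPrimes A M ∧ Disjoint (q : Set A) S}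
  have hT : T.Finite := (associatedPrimes.finite A M).subset fun q hq => hq.1
  obtain ⟨x, hxa, hx⟩ : ∃ x ∈ a, ∀ q ∈ T, x ∉ q := by
    by_contra! hcon
    have hsub : (a : Set A) ⊆ ⋃ q ∈ (hT.toFinset : Set (Ideal A)), (q : Set A) := fun x hx => by
      obtain ⟨q, hq, hxq⟩ := hcon x hx
      exact Set.mem_iUnion₂.mpr ⟨q, hT.mem_toFinset.mpr hq, hxq⟩
    obtain ⟨q, hq, hle⟩ := (Ideal.subset_union_prime ⊥ ⊥ (fun q hq _ _ =>
      IsAssociatedPrime.isPrime (hT.mem_toFinset.mp hq).1)).mp hsub
    obtain ⟨hq, hdisj⟩ := hT.mem_toFinset.mp hq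
    obtain ⟨m, hm⟩ := exists_annihilator_mem hq
    obtain ⟨u, hu, hum⟩ := (nul_H0_iff a).mp h m
      ⟨1, fun r hr => (hm r).mpr (hle (by simpa using hr))⟩
    exact Set.disjoint_left.mp hdisj ((hm u).mp hum) hu
  refine ⟨x, hxa, fun y => ?_⟩
  by_contra! hy
  obtain ⟨q, hq, hyq, hdisj⟩ := exists_associated_disjoint (S := S) (y := y.1)
    (fun u hu he => hy u hu (Subtype.ext he))
  exact hx q ⟨hq, hdisj⟩ (hyq x y.2)

lemma nul_step (a : Ideal A) {x : A} (hxa : x ∈ a) (hx : RegAt S x M) (n : ℕ) :
    (∀ i, i < n + 1 → Nul S (LocCoh.H a i M)) ↔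
      ∀ i, i < n → Nul S (LocCoh.H a i (QuotSMulTop x M)) := by
  refine ⟨fun h i hi => nul_H_quot_of a hx i (h i (by omega)) (h (i + 1) (by omega)),
    fun h i hi => ?_⟩
  match i with
  | 0 => exact nul_H0_of_regAt hxa hx
  | j + 1 => exact nul_H_succ_of_quot a hx hxa j (h j (by omega))

end

lemma nul_H_congr {N : Type u} [AddCommGroup N] [Module A N] (a : Ideal A) (i : ℕ)
    (e : M ≃ₗ[A] N) : Nul S (LocCoh.H a i M) ↔ Nul S (LocCoh.H a i N) :=
  ⟨fun h => h.of_injective (Hequiv a i e).symm.injective,
    fun h => h.of_injective (Hequiv a i e).injective⟩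

variable {B : Type u} [CommRing B] [Algebra A B]

lemma mem_gamma_map_iff [Module B M] [IsScalarTower A B M] (a : Ideal A) (m : M) :
    m ∈ gamma (a.map (algebraMap A B)) M ↔ m ∈ gamma a M := by
  refine exists_congr fun k => ⟨fun h r hr => ?_, fun h b hb => ?_⟩
  · rw [← algebraMap_smul B]
    exact h _ (by rw [← Ideal.map_pow]; exact Ideal.mem_map_of_mem _ hr)
  · rw [← Ideal.map_pow, Ideal.map] at hb
    induction hb using Submodule.span_induction with
    | mem b hb =>
      obtain ⟨r, hr, rfl⟩ := hb
      rw [algebraMap_smul, h r hr]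
    | zero => simp
    | add b c _ _ hb hc => rw [add_smul, hb, hc, add_zero]
    | smul c b _ hb => rw [smul_assoc, hb, smul_zero]

/-- `M / x M` does not depend on the ring -/
noncomputable def quotSMulTopAlg [Module B M] [IsScalarTower A B M] (x : A) :
    QuotSMulTop x M ≃ₗ[A] QuotSMulTop (algebraMap A B x) M :=
  (Submodule.quotEquivOfEq _ ((algebraMap A B x • (⊤ : Submodule B M)).restrictScalars A) (by
      ext m
      simp [Submodule.mem_smul_pointwise_iff_exists, algebraMap_smul])).trans
    (Submodule.Quotient.restrictScalarsEquiv A _)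

theorem nul_map_iff [IsNoetherianRing A] [IsNoetherianRing B] (S : Submonoid A) (a : Ideal A) :
    ∀ (n : ℕ) (M : Type u) [AddCommGroup M] [Module A M] [Module B M] [IsScalarTower A B M]
    [Module.Finite A M] [Module.Finite B M],
    (∀ i, i < n → Nul S (LocCoh.H a i M)) ↔
      ∀ i, i < n → Nul (Algebra.algebraMapSubmonoid B S) (LocCoh.H (a.map (algebraMap A B)) i M)
  | 0, M, _, _, _, _, _, _ => by simp
  | n + 1, M, _, _, _, _, _, _ => by
    have key : ∀ x ∈ a, RegAt S x M → ((∀ i, i < n + 1 → Nul S (LocCoh.H a i M)) ↔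
      ∀ i, i < n + 1 →
        Nul (Algebra.algebraMapSubmonoid B S) (LocCoh.H (a.map (algebraMap A B)) i M)) := by
      intro x hxa hx
      haveI : Module.Finite A (QuotSMulTop (algebraMap A B x) M) :=
        Module.Finite.equiv (quotSMulTopAlg x)
      have hx' : RegAt (Algebra.algebraMapSubmonoid B S) (algebraMap A B x) M := by
        rintro ⟨m, hm⟩
        obtain ⟨u, hu, hum⟩ := hx ⟨m, show x • m = 0 by rw [← algebraMap_smul B x m]; exact hm⟩
        exact ⟨algebraMap A B u, ⟨u, hu, rfl⟩, Subtype.ext (by
          show algebraMap A B u • m = 0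
          rw [algebraMap_smul]
          exact congrArg Subtype.val hum)⟩
      rw [nul_step a hxa hx, nul_step _ (Ideal.mem_map_of_mem _ hxa) hx',
        ← nul_map_iff S a n (QuotSMulTop (algebraMap A B x) M)]
      exact forall₂_congr fun i _ => nul_H_congr a i (quotSMulTopAlg x)
    constructor
    · intro h
      obtain ⟨x, hxa, hx⟩ := exists_regAt a (h 0 n.succ_pos)
      exact (key x hxa hx).mp h
    · intro h
      obtain ⟨x, hxa, hx⟩ := exists_regAt (M := M) (S := S) a ((nul_H0_iff a).mpr fun m hm => by
        obtain ⟨_, ⟨u, hu, rfl⟩, hum⟩ :=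
          (nul_H0_iff _).mp (h 0 n.succ_pos) m ((mem_gamma_map_iff a m).mpr hm)
        exact ⟨u, hu, by rwa [algebraMap_smul] at hum⟩)
      exact (key x hxa hx).mpr h

lemma nul_bot_iff : Nul (⊥ : Submonoid A) M ↔ Subsingleton M := by
  refine ⟨fun h => subsingleton_of_forall_eq 0 fun y => ?_, fun _ => nul_of_subsingleton⟩
  obtain ⟨u, hu, huy⟩ := h y
  obtain rfl := Submonoid.mem_bot.mp hu
  simpa using huy

theorem idealDepth_map_algebra [IsNoetherianRing A] [IsNoetherianRing B] (a : Ideal A)
    [Module B M] [IsScalarTower A B M] [Module.Finite A M] [Module.Finite B M] :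
    LocCoh.idealDepth a M = LocCoh.idealDepth (a.map (algebraMap A B)) M := by
  have h : ∀ n : ℕ, ((n : ℕ∞) ≤ LocCoh.idealDepth a M ↔
      (n : ℕ∞) ≤ LocCoh.idealDepth (a.map (algebraMap A B)) M) := fun n => by
    have h1 := nul_map_iff (B := B) (⊥ : Submonoid A) a n M
    rw [show Algebra.algebraMapSubmonoid B (⊥ : Submonoid A) = ⊥ from Submonoid.map_bot _] at h1
    simp only [nul_bot_iff] at h1
    rw [natCast_le_idealDepth_iff, natCast_le_idealDepth_iff]
    exact h1
  exact le_antisymm (eNat_le_of_forall fun n => (h n).mp) (eNat_le_of_forall fun n => (h n).mpr)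

theorem depth_loc_map_surjective [IsNoetherianRing A] [IsNoetherianRing B]
    [Module B M] [IsScalarTower A B M] [Module.Finite A M] [Module.Finite B M]
    (hf : Function.Surjective (algebraMap A B)) (P : Ideal B) [P.IsPrime] :
    LocCoh.depth (Localization.AtPrime (P.comap (algebraMap A B)))
      (LocalizedModule (P.comap (algebraMap A B)).primeCompl M) =
    LocCoh.depth (Localization.AtPrime P) (LocalizedModule P.primeCompl M) := by
  have h : ∀ n : ℕ, _ ↔ _ := fun n =>
    nul_map_iff (B := B) (P.comap (algebraMap A B)).primeCompl (P.comap (algebraMap A B)) n M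
  rw [show Algebra.algebraMapSubmonoid B (P.comap (algebraMap A B)).primeCompl = P.primeCompl by
      ext b
      obtain ⟨r, rfl⟩ := hf b
      refine ⟨?_, fun hb => ⟨r, hb, rfl⟩⟩
      rintro ⟨s, hs, he⟩
      exact he ▸ hs,
    Ideal.map_comap_of_surjective _ hf] at h
  exact le_antisymm
    (eNat_le_of_forall fun n hn =>
      (natCast_le_depth_loc_iff P n).mpr ((h n).mp ((natCast_le_depth_loc_iff _ n).mp hn)))
    (eNat_le_of_forall fun n hn =>
      (natCast_le_depth_loc_iff _ n).mpr ((h n).mpr ((natCast_le_depth_loc_iff P n).mp hn)))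

lemma depth_loc_eq_top_of_nul [IsNoetherianRing A] [Module.Finite A M] (p : Ideal A) [p.IsPrime]
    (h : Nul p.primeCompl M) :
    LocCoh.depth (Localization.AtPrime p) (LocalizedModule p.primeCompl M) = ⊤ :=
  top_le_iff.mp (eNat_le_of_forall fun n _ => (natCast_le_depth_loc_iff p n).mpr
    fun i _ => nul_H_of_nul p i h)

section Localization

variable [IsNoetherianRing A]

theorem nul_localization (S : Submonoid A) (P : Ideal (Localization S)) [P.IsPrime] :
    ∀ (n : ℕ) (M : Type u) [AddCommGroup M] [Module A M] [Module.Finite A M],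
    (∀ i, i < n → Nul (P.comap (algebraMap A (Localization S))).primeCompl
      (LocCoh.H (P.comap (algebraMap A (Localization S))) i M)) →
    ∀ i, i < n → Nul P.primeCompl (LocCoh.H P i (LocalizedModule S M))
  | 0, M, _, _, _, _ => by simp
  | n + 1, M, _, _, _, h => by
    haveI : IsNoetherianRing (Localization S) :=
      IsLocalization.isNoetherianRing S (Localization S) inferInstance
    haveI : Module.Finite (Localization S) (LocalizedModule S M) :=
      Module.Finite.of_isLocalizedModule S (LocalizedModule.mkLinearMap S M)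
    set p := P.comap (algebraMap A (Localization S))
    obtain ⟨x, hxp, hx⟩ := exists_regAt p (h 0 n.succ_pos)
    have hx' : RegAt P.primeCompl (algebraMap A (Localization S) x) (LocalizedModule S M) := by
      rintro ⟨z, hz⟩
      induction z using LocalizedModule.induction_on with
      | _ m s =>
        replace hz : algebraMap A (Localization S) x • LocalizedModule.mk m s = 0 := hz
        rw [algebraMap_smul, LocalizedModule.smul'_mk, ← LocalizedModule.zero_mk (1 : S),
          LocalizedModule.mk_eq] at hz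
        obtain ⟨u, hu⟩ := hz
        simp only [one_smul, smul_zero, Submonoid.smul_def] at hu
        obtain ⟨v, hv, hvm⟩ := hx ⟨(u : A) • m, by
          show x • (u : A) • m = 0
          rw [smul_comm, hu]⟩
        refine ⟨algebraMap A _ v, hv, Subtype.ext ?_⟩
        show algebraMap A (Localization S) v • LocalizedModule.mk m s = 0
        rw [algebraMap_smul, LocalizedModule.smul'_mk, ← LocalizedModule.zero_mk (1 : S),
          LocalizedModule.mk_eq]
        refine ⟨u, ?_⟩
        have hvm' : v • (u : A) • m = 0 := congrArg Subtype.val hvm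
        simp only [one_smul, smul_zero, Submonoid.smul_def]
        rw [smul_comm]
        exact hvm'
    rw [nul_step P (show algebraMap A (Localization S) x ∈ P from hxp) hx']
    intro i hi
    rw [← nul_H_congr P i (quotLocEquiv S x)]
    exact nul_localization S P n _ ((nul_step p hxp hx n).mp h) i hi

theorem depth_loc_le_localization [Module.Finite A M] (S : Submonoid A) (P : Ideal (Localization S))
    [P.IsPrime] :
    LocCoh.depth (Localization.AtPrime (P.comap (algebraMap A (Localization S))))
      (LocalizedModule (P.comap (algebraMap A (Localization S))).primeCompl M) ≤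
    LocCoh.depth (Localization.AtPrime P) (LocalizedModule P.primeCompl (LocalizedModule S M)) := by
  haveI : IsNoetherianRing (Localization S) :=
    IsLocalization.isNoetherianRing S (Localization S) inferInstance
  haveI : Module.Finite (Localization S) (LocalizedModule S M) :=
    Module.Finite.of_isLocalizedModule S (LocalizedModule.mkLinearMap S M)
  exact eNat_le_of_forall fun n hn =>
    (natCast_le_depth_loc_iff P n).mpr (nul_localization S P n M ((natCast_le_depth_loc_iff _ n).mp hn))

lemma htq_le_localization (S : Submonoid A) (P Q : Ideal (Localization S)) [P.IsPrime] [Q.IsPrime]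
    (hPQ : P ≤ Q) :
    htq (P.comap (algebraMap A (Localization S))) (Q.comap (algebraMap A (Localization S))) ≤
      htq P Q := by
  refine eNat_le_of_forall fun n => ?_
  induction n generalizing Q with
  | zero => intro _; exact bot_le
  | succ n ih =>
    intro hn
    obtain ⟨t, ht, h1, h2, h3⟩ := exists_prime_below (Ideal.comap_mono hPQ) hn
    have hd : Disjoint (S : Set A) t := by
      rw [Set.disjoint_left]
      intro s hs hst
      exact Ideal.IsPrime.ne_top (inferInstance : Q.IsPrime) (Q.eq_top_of_isUnit_mem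
        (show algebraMap A _ s ∈ Q from h2.le hst) (IsLocalization.map_units _ ⟨s, hs⟩))
    haveI := IsLocalization.isPrime_of_isPrime_disjoint S (Localization S) t ht hd
    have hc := IsLocalization.comap_map_of_isPrime_disjoint S (Localization S) ht hd
    have hPT : P ≤ t.map (algebraMap A (Localization S)) := by
      rw [← IsLocalization.map_comap S (Localization S) P]
      exact Ideal.map_mono h1
    have hTQ : t.map (algebraMap A (Localization S)) < Q := by
      refine lt_of_le_of_ne (Ideal.map_le_iff_le_comap.mpr h2.le) fun e => h2.ne ?_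
      rw [← hc, e]
    have h4 := ih (t.map (algebraMap A (Localization S))) hPT (le_of_le_of_eq h3 (congrArg (htq _) hc.symm))
    calc ((n + 1 : ℕ) : ℕ∞) = (n : ℕ∞) + 1 := by push_cast; rfl
      _ ≤ _ := le_trans (by gcongr) (htq_add_one_le hPT hTQ)

end Localization

end Groth.Agent.LC17
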