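import Groth.Agent.LC17.LocVanish
import Groth.Agent.LC15.Cd
import Groth.Agent.InjHull18.Local
import Groth.Prelude.Def_DualLC
import Mathlib.Algebra.Module.LocalizedModule.Exact

/-!
The comparison maps `H^i_{I'} → H^i_I` for `I ≤ I'` and the sequence
`H^i_{a + (x)}(M) → H^i_a(M) → H^i_a(M_x)`.
-/

set_option autoImplicit false

universe u

open CategoryTheory CategoryTheory.Limits Opposite
open Groth.Agent.LC15

namespace Groth.Agent.LC17

variable {R : Type u} [CommRing R] {I I' : Ideal R} (h : I ≤ I')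

/-- `R/I^n → R/I'^n` -/
noncomputable def qle (n : ℕ) : quotPow I n ⟶ quotPow I' n :=
  ModuleCat.ofHom (Submodule.mapQ (I ^ n) (I' ^ n) LinearMap.id
    (by simpa using Ideal.pow_right_mono h n))

lemma qle_mk (n : ℕ) (r : R) :
    qle h n (Submodule.Quotient.mk r) = Submodule.Quotient.mk r := rfl

lemma qmap_qle {n m : ℕ} (hnm : n ≤ m) : qmap I hnm ≫ qle h n = qle h m ≫ qmap I' hnm :=
  ModuleCat.hom_ext <| LinearMap.ext fun z => by
    obtain ⟨r, rfl⟩ := Submodule.Quotient.mk_surjective _ z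
    rfl

variable (i : ℕ) (M : Type u) [AddCommGroup M] [Module R M]

/-- precomposition with `R/I^n → R/I'^n` -/
noncomputable def preLE (n : ℕ) :
    Abelian.Ext (quotPow I' n) (ModuleCat.of R M) i →ₗ[R]
      Abelian.Ext (quotPow I n) (ModuleCat.of R M) i where
  toFun x := (Abelian.Ext.mk₀ (qle h n)).comp x (zero_add i)
  map_add' x y := Abelian.Ext.comp_add _ x y _
  map_smul' r x := Abelian.Ext.comp_smul _ x _ r

/-- The comparison map `H^i_{I'}(M) → H^i_I(M)`. -/
noncomputable def Hle : LocCoh.H I' i M →ₗ[R] LocCoh.H I i M :=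
  descH I' i M (fun n => (toH I i M n).comp (preLE h i M n)) fun n m hnm x => by
    rw [LinearMap.comp_apply, LinearMap.comp_apply, ← toH_precomp I i M hnm (preLE h i M n x)]
    refine congrArg _ ?_
    simp only [preLE, LinearMap.coe_mk, AddHom.coe_mk, Abelian.Ext.mk₀_comp_mk₀_assoc, qmap_qle h hnm]

lemma Hle_toH (n : ℕ) (x : Abelian.Ext (quotPow I' n) (ModuleCat.of R M) i) :
    Hle h i M (toH I' i M n x) = toH I i M n ((Abelian.Ext.mk₀ (qle h n)).comp x (zero_add i)) :=
  descH_toH I' i M _ _ n x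

lemma HmapOfLE_app :
    ((Dual2.HmapOfLE h i).app (ModuleCat.of R M)).hom = Hle h i M := by
  refine H_ext I' i M fun n x => ?_
  obtain ⟨z, rfl⟩ := (extEquiv (quotPow I' n) (ModuleCat.of R M) i).surjective x
  rw [Hle_toH, ← extEquiv_naturality_left, ← hCocone_ι_apply, ← hCocone_ι_apply]
  exact ConcreteCategory.congr_hom (NatTrans.congr_app (ι_colimMap (Functor.whiskerRight
    (NatTrans.op (Dual2.quotMapOfLE h)) (Ext R (ModuleCat.{u} R) i)) (op (op n)))
    (ModuleCat.of R M)) z

variable {i M}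

lemma Hle_Hmap {N : Type u} [AddCommGroup N] [Module R N] (f : M →ₗ[R] N) (y : LocCoh.H I' i M) :
    Hle h i N (Hmap I' i f y) = Hmap I i f (Hle h i M y) := by
  obtain ⟨n, x, rfl⟩ := toH_surj I' i M y
  rw [Hmap_toH, Hle_toH, Hle_toH, Hmap_toH, Abelian.Ext.comp_assoc_of_third_deg_zero]

lemma h0_Hle (y : LocCoh.H I' 0 M) : h0 I M (Hle h 0 M y) = h0 I' M y := by
  obtain ⟨n, x, rfl⟩ := toH_surj I' 0 M y
  obtain ⟨g, rfl⟩ := (Abelian.Ext.mk₀_bijective _ _).2 x
  rw [Hle_toH, Abelian.Ext.mk₀_comp_mk₀, h0_toH, h0_toH]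
  exact congrArg _ (qle_mk h n 1)

lemma Hle_zero_injective : Function.Injective (Hle h 0 M) := fun a b e =>
  h0_injective I' M (by rw [← h0_Hle h, ← h0_Hle h, e])

lemma Hle_Hδ {N L : Type u} [AddCommGroup N] [Module R N] [AddCommGroup L] [Module R L]
    {f : M →ₗ[R] N} {g : N →ₗ[R] L} (hf : Function.Injective f) (hfg : Function.Exact f g)
    (hg : Function.Surjective g) (y : LocCoh.H I' i L) :
    Hle h (i + 1) M (Hδ I' i hf hfg hg y) = Hδ I i hf hfg hg (Hle h i L y) := by
  obtain ⟨n, x, rfl⟩ := toH_surj I' i L y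
  rw [Hδ_toH, Hle_toH, Hle_toH, Hδ_toH]
  refine congrArg _ ?_
  exact (Abelian.Ext.comp_assoc (Abelian.Ext.mk₀ (qle h n)) x _ (zero_add i) rfl (by omega)).symm

lemma Hmap_Hδ_naturality {N L M' N' L' : Type u} [AddCommGroup N] [Module R N] [AddCommGroup L]
    [Module R L] [AddCommGroup M'] [Module R M'] [AddCommGroup N'] [Module R N'] [AddCommGroup L']
    [Module R L'] {f : M →ₗ[R] N} {g : N →ₗ[R] L} (hf : Function.Injective f)
    (hfg : Function.Exact f g) (hg : Function.Surjective g)
    {f' : M' →ₗ[R] N'} {g' : N' →ₗ[R] L'} (hf' : Function.Injective f')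
    (hfg' : Function.Exact f' g') (hg' : Function.Surjective g')
    (α : M →ₗ[R] M') (β : N →ₗ[R] N') (γ : L →ₗ[R] L')
    (h₁ : f'.comp α = β.comp f) (h₂ : g'.comp β = γ.comp g) (y : LocCoh.H I i L) :
    Hmap I (i + 1) α (Hδ I i hf hfg hg y) = Hδ I i hf' hfg' hg' (Hmap I i γ y) := by
  obtain ⟨n, x, rfl⟩ := toH_surj I i L y
  rw [Hδ_toH, Hmap_toH, Hmap_toH, Hδ_toH]
  refine congrArg _ ?_
  let φ : seqSC hfg ⟶ seqSC hfg' :=
    { τ₁ := ModuleCat.ofHom α
      τ₂ := ModuleCat.ofHom β
      τ₃ := ModuleCat.ofHom γ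
      comm₁₂ := ModuleCat.hom_ext h₁
      comm₂₃ := ModuleCat.hom_ext h₂ }
  rw [Abelian.Ext.comp_assoc x _ _ rfl (add_zero 1) (by omega),
    show (seqSC_shortExact hf hfg hg).extClass.comp (Abelian.Ext.mk₀ (ModuleCat.ofHom α))
      (add_zero 1) = (Abelian.Ext.mk₀ (ModuleCat.ofHom γ)).comp
        (seqSC_shortExact hf' hfg' hg').extClass (zero_add 1) from
      ShortComplex.ShortExact.extClass_naturality (seqSC_shortExact hf hfg hg)
        (seqSC_shortExact hf' hfg' hg') φ,
    ← Abelian.Ext.comp_assoc x _ _ (add_zero i) (zero_add 1) (by omega)]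

section Localization

variable [IsNoetherianRing R] (a : Ideal R) (x : R)

set_option quotPrecheck false in
local notation "a'" => a ⊔ Ideal.span (Singleton.singleton x)
local notation "Sx" => Submonoid.powers x

/-- the map `H^i_a(M) → H^i_a(M_x)` -/
noncomputable abbrev muX (i : ℕ) (M : Type u) [AddCommGroup M] [Module R M] :
    LocCoh.H a i M →ₗ[R] LocCoh.H a i (LocalizedModule Sx M) :=
  Hmap a i (LocalizedModule.mkLinearMap Sx M)

omit [IsNoetherianRing R] in
lemma ker_mk_eq_gamma :
    LinearMap.ker (LocalizedModule.mkLinearMap Sx M) = gamma (Ideal.span {x}) M := by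
  ext m
  rw [LinearMap.mem_ker, LocalizedModule.mkLinearMap_apply, ← LocalizedModule.zero_mk (1 : Sx),
    LocalizedModule.mk_eq, mem_gamma]
  constructor
  · rintro ⟨⟨_, k, rfl⟩, hk⟩
    refine ⟨k, fun r hr => ?_⟩
    rw [Ideal.span_singleton_pow, Ideal.mem_span_singleton'] at hr
    obtain ⟨c, rfl⟩ := hr
    simp only [one_smul, smul_zero, Submonoid.smul_def] at hk
    rw [mul_smul, hk, smul_zero]
  · rintro ⟨k, hk⟩
    refine ⟨⟨x ^ k, k, rfl⟩, ?_⟩
    simp only [one_smul, smul_zero, Submonoid.smul_def]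
    exact hk _ (Ideal.pow_mem_pow (Ideal.mem_span_singleton_self x) k)

omit [IsNoetherianRing R] in
lemma smul_mk_bijective : Function.Bijective
    (LinearMap.lsmul R (LocalizedModule Sx M) x) := by
  have hu : IsUnit (algebraMap R (Module.End R (LocalizedModule Sx M)) x) :=
    IsLocalizedModule.map_units (LocalizedModule.mkLinearMap Sx M) ⟨x, Submonoid.mem_powers x⟩
  exact (Module.End.isUnit_iff _).1 hu

lemma subsingleton_H_localized_injective (E : Type u) [AddCommGroup E] [Module R E]
    [Module.Injective R E] (i : ℕ) :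
    Subsingleton (LocCoh.H a (i + 1) (LocalizedModule Sx E)) := by
  set m := LocalizedModule.mkLinearMap Sx E
  haveI : Module.Injective R (LinearMap.ker m) := by
    rw [ker_mk_eq_gamma]
    exact injective_gamma _ E
  exact subsingleton_H_right a (i + 1) (Submodule.subtype_injective _)
    (LinearMap.exact_subtype_ker_map m)
    (InjHull18.mkLinearMap_surjective_of_injective Sx ‹Module.Injective R E›)
    (subsingleton_H_succ_of_injective a i) (subsingleton_H_succ_of_injective a (i + 1))

lemma gamma_surjective_localized (E : Type u) [AddCommGroup E] [Module R E] [Module.Injective R E] :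
    Function.Surjective (muX a x 0 E) := by
  set m := LocalizedModule.mkLinearMap Sx E
  haveI : Module.Injective R (LinearMap.ker m) := by
    rw [ker_mk_eq_gamma]
    exact injective_gamma _ E
  exact fun w => (H_exact₃ a 0 (Submodule.subtype_injective _) (LinearMap.exact_subtype_ker_map m)
    (InjHull18.mkLinearMap_surjective_of_injective Sx ‹Module.Injective R E›) w).1
    (@Subsingleton.elim _ (subsingleton_H_succ_of_injective a 0) _ _)

omit [IsNoetherianRing R] in
lemma exists_loc_seq {N L : Type u} [AddCommGroup N] [Module R N] [AddCommGroup L] [Module R L]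
    {f : M →ₗ[R] N} {g : N →ₗ[R] L} (hf : Function.Injective f) (hfg : Function.Exact f g)
    (hg : Function.Surjective g) :
    Function.Injective ((LocalizedModule.map Sx f).restrictScalars R) ∧
      Function.Exact ((LocalizedModule.map Sx f).restrictScalars R)
        ((LocalizedModule.map Sx g).restrictScalars R) ∧
      Function.Surjective ((LocalizedModule.map Sx g).restrictScalars R) :=
  ⟨LocalizedModule.map_injective _ _ hf, LocalizedModule.map_exact _ _ _ hfg,
    LocalizedModule.map_surjective _ _ hg⟩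

omit [IsNoetherianRing R] in
lemma map_mk_comm {N : Type u} [AddCommGroup N] [Module R N] (f : M →ₗ[R] N) :
    ((LocalizedModule.map Sx f).restrictScalars R).comp (LocalizedModule.mkLinearMap Sx M) =
      (LocalizedModule.mkLinearMap Sx N).comp f := by
  ext m
  simp

theorem exact_Hle_muX : ∀ (i : ℕ) (M : Type u) [AddCommGroup M] [Module R M],
    Function.Exact (Hle (le_sup_left : a ≤ a') i M) (muX a x i M) := by
  intro i M _ _ y
  constructor
  swap
  · rintro ⟨z, rfl⟩
    rw [← Hle_Hmap]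
    haveI := subsingleton_H_of_smul_bijective a' (M := LocalizedModule Sx M)
      (Ideal.mem_sup_right (Ideal.mem_span_singleton_self x)) (smul_mk_bijective x) i
    rw [Subsingleton.elim (Hmap a' i _ z) 0, map_zero]
  induction i generalizing M with
  | zero =>
    intro hy
    have h1 : LocalizedModule.mkLinearMap Sx M (h0 a M y) = 0 := by
      rw [← h0_Hmap, show Hmap a 0 (LocalizedModule.mkLinearMap Sx M) y = 0 from hy, map_zero]
    have h2 : h0 a M y ∈ gamma a' M := (mem_gamma_sup a _).2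
      ⟨range_h0 a M ▸ LinearMap.mem_range_self _ y, ker_mk_eq_gamma (M := M) x ▸ h1⟩
    obtain ⟨z, hz⟩ := (range_h0 a' M).symm ▸ h2
    exact ⟨z, h0_injective a M (by rw [h0_Hle, hz])⟩
  | succ i ih =>
    intro hy
    obtain ⟨E, _, _, f, hf, _⟩ := exists_injective_embedding (R := R) M
    have hfg := LinearMap.exact_map_mkQ_range f
    have hg := Submodule.mkQ_surjective (LinearMap.range f)
    obtain ⟨hf', hfg', hg'⟩ := exists_loc_seq x hf hfg hg
    obtain ⟨z, rfl⟩ := Hδ_surjective a i hf hfg hg (subsingleton_H_succ_of_injective a i) y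
    have h1 : Hδ a i hf' hfg' hg' (muX a x i _ z) = 0 := by
      rw [← Hmap_Hδ_naturality hf hfg hg hf' hfg' hg' _ (LocalizedModule.mkLinearMap Sx E) _
        (map_mk_comm x f) (map_mk_comm x _)]
      exact hy
    obtain ⟨w, hw⟩ := (H_exact₃ a i hf' hfg' hg' _).1 h1
    obtain ⟨w₀, hw₀⟩ : ∃ w₀, muX a x i E w₀ = w := by
      cases i with
      | zero => exact gamma_surjective_localized a x E w
      | succ j => exact ⟨0, @Subsingleton.elim _ (subsingleton_H_localized_injective a x E j) _ _⟩
    have h2 : muX a x i _ (z - Hmap a i (LinearMap.range f).mkQ w₀) = 0 := by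
      rw [map_sub, ← hw, ← hw₀]
      simp only [muX, ← LinearMap.comp_apply, ← Hmap_comp, map_mk_comm, sub_self]
    obtain ⟨z', hz'⟩ := ih _ _ h2
    refine ⟨Hδ a' i hf hfg hg z', ?_⟩
    rw [Hle_Hδ, hz', map_sub]
    have h3 : Hδ a i hf hfg hg (Hmap a i (LinearMap.range f).mkQ w₀) = 0 :=
      (H_exact₃ a i hf hfg hg _).2 ⟨w₀, rfl⟩
    rw [h3, sub_zero]

omit [IsNoetherianRing R] in
lemma smul_muX_eq_zero_iff {i : ℕ} (z : LocCoh.H a i (LocalizedModule Sx M)) :
    x • z = 0 ↔ z = 0 := by
  refine ⟨fun hz => ?_, fun hz => by rw [hz, smul_zero]⟩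
  let e := LinearEquiv.ofBijective _ (smul_mk_bijective (M := M) x)
  rw [← Hmap_lsmul a i x z] at hz
  refine (LinearEquiv.map_eq_zero_iff (Hequiv a i e)).1 ?_
  exact hz

theorem mem_range_Hle_iff (i : ℕ) (M : Type u) [AddCommGroup M] [Module R M] (y : LocCoh.H a i M) :
    y ∈ LinearMap.range (Hle (le_sup_left : a ≤ a') i M) ↔ ∃ n : ℕ, x ^ n • y = 0 := by
  constructor
  · rintro ⟨z, rfl⟩
    obtain ⟨n, hn⟩ := isPowerTorsion_H a' i z
    exact ⟨n, by rw [← map_smul, hn _ (Ideal.pow_mem_pow
      (Ideal.mem_sup_right (Ideal.mem_span_singleton_self x)) n), map_zero]⟩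
  · rintro ⟨n, hn⟩
    refine (exact_Hle_muX a x i M y).1 ?_
    suffices H : ∀ (k : ℕ) (z : LocCoh.H a i (LocalizedModule Sx M)), x ^ k • z = 0 → z = 0 from
      H n _ (by rw [← map_smul, hn, map_zero])
    intro k
    induction k with
    | zero => intro z hz; simpa using hz
    | succ k ih =>
      intro z hz
      rw [pow_succ', mul_smul, smul_muX_eq_zero_iff] at hz
      exact ih z hz

end Localization

end Groth.Agent.LC17
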