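import Groth.Agent.LC17.RegularPD
import Groth.Agent.LC17.CompareLE
import Groth.Agent.S14424

/-!
Faltings' annihilator theorem over a regular ring.
-/

set_option autoImplicit false

universe u

open CategoryTheory
open Groth.Agent.LC15

namespace Groth.Agent.LC17

variable {R : Type u} [CommRing R]

lemma exists_mul_mem_of_forall_prime {J Q : Ideal R} [Q.IsPrime] {c : R} (hJ : J.IsRadical)
    (h : ∀ p : Ideal R, p.IsPrime → J ≤ p → p ≤ Q → c ∈ p) : ∃ x, x ∉ Q ∧ x * c ∈ J := by
  by_contra! hcon
  have hdisj : Disjoint (J : Set R) ↑(Q.primeCompl ⊔ Submonoid.powers c) := by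
    rw [Set.disjoint_left]
    intro v hvJ hv
    obtain ⟨u, hu, _, ⟨k, rfl⟩, rfl⟩ := Submonoid.mem_sup.mp hv
    refine hcon u hu (hJ ⟨k + 1, ?_⟩)
    have he : (u * c) ^ (k + 1) = (u ^ k * c) * (u * c ^ k) := by ring
    rw [he]
    exact J.mul_mem_left _ hvJ
  obtain ⟨P, hP, hJP, hPd⟩ := Ideal.exists_le_prime_disjoint J _ hdisj
  rw [Set.disjoint_left] at hPd
  have hPQ : P ≤ Q := fun x hx => by
    by_contra hxQ
    exact hPd hx (SetLike.le_def.mp le_sup_left (show x ∈ Q.primeCompl from hxQ))
  exact hPd (h P hP hJP hPQ) (SetLike.le_def.mp le_sup_right (Submonoid.mem_powers c))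

lemma not_hasPD_of_badIdeal_le [IsNoetherianRing R] (M : Type u) [AddCommGroup M] [Module R M]
    [Module.Finite R M] (t : ℕ) (p : PrimeSpectrum R) (hp : badIdeal M t ≤ p.asIdeal) :
    ¬ HasProjectiveDimensionLE (ModuleCat.of (Localization.AtPrime p.asIdeal)
      (LocalizedModule p.asIdeal.primeCompl M)) t := by
  intro hgood
  have hopen := EGA4H10.isOpen_pd_le R M t
  simp only [projectiveDimension_le_iff] at hopen
  obtain ⟨_, ⟨f, rfl⟩, hpf, hsub⟩ :=
    PrimeSpectrum.isTopologicalBasis_basic_opens.exists_subset_of_mem_open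
      (show p ∈ {q : PrimeSpectrum R | HasProjectiveDimensionLE
        (ModuleCat.of (Localization.AtPrime q.asIdeal) (LocalizedModule q.asIdeal.primeCompl M)) t}
        from hgood) hopen
  refine hpf (hp ((PrimeSpectrum.mem_vanishingIdeal _ _).mpr fun q hq => ?_))
  by_contra hfq
  exact hq (hsub hfq)

lemma adjDepth_mono {a a' : Ideal R} (h : a ≤ a') (M : Type u) [AddCommGroup M] [Module R M]
    (p : PrimeSpectrum R) : LocCoh.adjDepth a M p ≤ LocCoh.adjDepth a' M p :=
  add_le_add le_rfl (Ideal.height_mono (Ideal.map_mono (sup_le_sup_right h _)))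

lemma isCohenMacaulayRing_of_isRegularRing [IsRegularRing R] : LocCoh.IsCohenMacaulayRing R := by
  refine { isCohenMacaulayLocalRing_localization := fun p hp => ?_ }
  refine { supportDim_eq_depth := ?_ }
  obtain ⟨d, hd⟩ := ENat.ne_top_iff_exists.mp (p.height_ne_top hp.ne_top)
  have hdim : ringKrullDim (Localization.AtPrime p) = d := by
    rw [IsLocalization.AtPrime.ringKrullDim_eq_height p (Localization.AtPrime p), ← hd]; rfl
  rw [Module.supportDim_self_eq_ringKrullDim, hdim, CAlg1.depth_regular _ hdim]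
  rfl

theorem le_radical_annihilator_of_lt_minAdjDepth [IsRegularRing R] (b : Ideal R) (M : Type u)
    [AddCommGroup M] [Module R M] [Module.Finite R M] (i : ℕ) (a : Ideal R)
    (h : (i : ℕ∞) < LocCoh.minAdjDepth a b M) :
    b ≤ (Module.annihilator R (LocCoh.H a i M)).radical := by
  induction a using IsNoetherian.induction with
  | hgt a ih =>
    intro c hc
    by_cases hatop : a = ⊤
    · haveI := subsingleton_H_of_smul_top (M := M) a (by rw [hatop, Submodule.top_smul]) i
      exact ⟨1, Module.mem_annihilator.mpr fun y => Subsingleton.elim _ _⟩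
    obtain ⟨n, hn⟩ := ENat.ne_top_iff_exists.mp (Ideal.height_ne_top (I := a) hatop)
    obtain ⟨Q, hQ, haQ, hQn⟩ := Ideal.exists_isPrime_height_eq hn.symm
    haveI := hQ
    -- facts at a prime below `Q` avoiding `c`
    have key : ∀ p : PrimeSpectrum R, p.asIdeal ≤ Q → c ∉ p.asIdeal →
        ∃ k : ℕ, htq p.asIdeal Q = k ∧ p.asIdeal.height + k ≤ (n : ℕ∞) ∧
          ((i + 1 : ℕ) : ℕ∞) ≤ LocCoh.depth (Localization.AtPrime p.asIdeal)
            (LocalizedModule p.asIdeal.primeCompl M) + k := by
      intro p hpQ hcp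
      obtain ⟨k, hk⟩ := exists_htq_eq (q := Q) hpQ
      refine ⟨k, hk, hQn ▸ hk ▸ height_add_htq_le hpQ, ?_⟩
      rw [Nat.cast_add, Nat.cast_one, ENat.add_one_le_iff (ENat.natCast_ne_top i), ← hk]
      exact lt_of_lt_of_le (h.trans_le (iInf₂_le p fun hb => hcp (hb hc)))
        (add_le_add le_rfl (htq_mono (sup_le haQ hpQ)))
    obtain ⟨x, hxQ, N, hN⟩ : ∃ x, x ∉ Q ∧ ∃ N : ℕ, ∀ y : LocCoh.H a i M, (x * c) ^ N • y = 0 := by
      by_cases hin : i < n
      · obtain ⟨x, hxQ, hxc⟩ := exists_mul_mem_of_forall_prime (Q := Q) (c := c)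
          (PrimeSpectrum.isRadical_vanishingIdeal _ : (badIdeal M (n - (i + 1))).IsRadical)
          fun p hp hJp hpQ => by
            by_contra hcp
            obtain ⟨k, -, hk1, hk2⟩ := key ⟨p, hp⟩ hpQ hcp
            refine not_hasPD_of_badIdeal_le M _ ⟨p, hp⟩ hJp (hasPD_le_of_height_le p M _ ?_)
            refine (ENat.add_le_add_iff_right (ENat.natCast_ne_top k)).mp (hk1.trans ?_)
            rw [add_assoc]
            calc (n : ℕ∞) = ((n - (i + 1) : ℕ) : ℕ∞) + ((i + 1 : ℕ) : ℕ∞) := by
                  rw [← Nat.cast_add, Nat.sub_add_cancel hin]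
              _ ≤ _ := add_le_add le_rfl hk2
        obtain ⟨N, hN⟩ := exists_pow_badIdeal_le (R := R) M (n - (i + 1))
        refine ⟨x, hxQ, N, fun y => Module.mem_annihilator.mp (hN a i ?_ (Ideal.pow_mem_pow hxc N)) y⟩
        rw [(Groth.Agent.S14424.result R).mp isCohenMacaulayRing_of_isRegularRing a hatop, ← hn]
        exact Nat.cast_lt.mpr (by omega)
      · obtain ⟨x, hxQ, N, hN⟩ := exists_mul_mem_of_forall_prime (Q := Q) (c := c)
          (Ideal.radical_isRadical (Module.annihilator R M))
          fun p hp hJp hpQ => by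
            by_contra hcp
            haveI := hp
            haveI : Module.Finite (Localization.AtPrime p) (LocalizedModule p.primeCompl M) :=
              Module.Finite.of_isLocalizedModule p.primeCompl
                (LocalizedModule.mkLinearMap p.primeCompl M)
            have hsupp : (⟨p, hp⟩ : PrimeSpectrum R) ∈ Module.support R M := by
              rw [Module.mem_support_iff_of_finite]
              exact Ideal.le_radical.trans hJp
            haveI : Nontrivial (LocalizedModule p.primeCompl M) := Module.mem_support_iff.mp hsupp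
            obtain ⟨k, -, hk1, hk2⟩ := key ⟨p, hp⟩ hpQ hcp
            have hd : LocCoh.depth (Localization.AtPrime p) (LocalizedModule p.primeCompl M) ≤ p.height := by
              refine WithBot.coe_le_coe.mp ((EGA4Alg4.depth_le_supportDim).trans
                ((Module.supportDim_le_ringKrullDim _ _).trans ?_))
              rw [IsLocalization.AtPrime.ringKrullDim_eq_height p (Localization.AtPrime p)]
            have h5 : ((i + 1 : ℕ) : ℕ∞) ≤ (n : ℕ∞) :=
              hk2.trans ((add_le_add hd le_rfl).trans hk1)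
            exact hin (Nat.lt_of_succ_le (Nat.cast_le.mp h5))
        exact ⟨x, hxQ, N, smul_H_eq_zero a i (Module.mem_annihilator.mp hN)⟩
    have hlt : a < a ⊔ Ideal.span {x} := lt_of_le_of_ne le_sup_left fun e =>
      hxQ (haQ (e ▸ Ideal.mem_sup_right (Ideal.mem_span_singleton_self x)))
    obtain ⟨m, hm⟩ := ih _ hlt (h.trans_le (le_iInf₂ fun p hp =>
      (iInf₂_le p hp).trans (adjDepth_mono hlt.le M p))) hc
    refine ⟨m + N, Module.mem_annihilator.mpr fun y => ?_⟩
    obtain ⟨z, hz⟩ := (mem_range_Hle_iff a x i M (c ^ N • y)).mpr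
      ⟨N, by rw [smul_smul, ← mul_pow]; exact hN y⟩
    rw [pow_add, mul_smul, ← hz, ← map_smul, Module.mem_annihilator.mp hm, map_zero]

variable {S : Type u} [CommRing S] [Algebra S R]

theorem adjDepth_comap_surjective [IsNoetherianRing R] [IsNoetherianRing S] {M : Type u}
    [AddCommGroup M] [Module R M] [Module S M] [IsScalarTower S R M] [Module.Finite S M]
    [Module.Finite R M] (hf : Function.Surjective (algebraMap S R)) (a : Ideal S)
    (P : PrimeSpectrum R) :
    LocCoh.adjDepth a M (PrimeSpectrum.comap (algebraMap S R) P) =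
      LocCoh.adjDepth (a.map (algebraMap S R)) M P := by
  refine congrArg₂ (· + ·) (depth_loc_map_surjective hf P.asIdeal) ?_
  set p := P.asIdeal.comap (algebraMap S R) with hp
  have hmap : p.map (algebraMap S R) = P.asIdeal := Ideal.map_comap_of_surjective _ hf _
  have hker : RingHom.ker ((Ideal.Quotient.mk P.asIdeal).comp (algebraMap S R)) = p := by
    rw [← RingHom.comap_ker, Ideal.mk_ker]
  let e : S ⧸ p ≃+* R ⧸ P.asIdeal :=
    (Ideal.quotEquivOfEq hker.symm).trans (RingHom.quotientKerEquivOfSurjective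
      (Ideal.Quotient.mk_surjective.comp hf))
  have he : (e : S ⧸ p →+* _).comp (Ideal.Quotient.mk p) =
      (Ideal.Quotient.mk P.asIdeal).comp (algebraMap S R) := RingHom.ext fun r => rfl
  have h1 : ((a ⊔ p).map (Ideal.Quotient.mk p)).map (e : S ⧸ p →+* _) =
      (a.map (algebraMap S R) ⊔ P.asIdeal).map (Ideal.Quotient.mk P.asIdeal) := by
    rw [Ideal.map_map, he, ← Ideal.map_map, Ideal.map_sup (f := algebraMap S R), hmap]
  rw [← h1]
  exact (RingEquiv.height_map e _).symm

theorem minAdjDepth_le_comap [IsNoetherianRing R] [IsNoetherianRing S] {M : Type u}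
    [AddCommGroup M] [Module R M] [Module S M] [IsScalarTower S R M] [Module.Finite S M]
    [Module.Finite R M] (hf : Function.Surjective (algebraMap S R)) (a b : Ideal R) :
    LocCoh.minAdjDepth a b M ≤
      LocCoh.minAdjDepth (a.comap (algebraMap S R)) (b.comap (algebraMap S R)) M := by
  refine le_iInf₂ fun p hp => ?_
  by_cases hcp : RingHom.ker (algebraMap S R) ≤ p.asIdeal
  · haveI : (p.asIdeal.map (algebraMap S R)).IsPrime := Ideal.map_isPrime_of_surjective hf hcp
    have hPp : (p.asIdeal.map (algebraMap S R)).comap (algebraMap S R) = p.asIdeal := by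
      rw [Ideal.comap_map_of_surjective _ hf, ← RingHom.ker_eq_comap_bot, sup_eq_left.mpr hcp]
    let P : PrimeSpectrum R := ⟨p.asIdeal.map (algebraMap S R), inferInstance⟩
    rw [← show PrimeSpectrum.comap (algebraMap S R) P = p from PrimeSpectrum.ext hPp,
      adjDepth_comap_surjective hf, Ideal.map_comap_of_surjective _ hf]
    refine iInf₂_le P fun hb => hp ?_
    rw [← hPp]
    exact Ideal.comap_mono hb
  · obtain ⟨e, he, hep⟩ := SetLike.not_le_iff_exists.mp hcp
    rw [LocCoh.adjDepth, depth_loc_eq_top_of_nul p.asIdeal fun y =>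
      ⟨e, hep, by rw [← algebraMap_smul R e y, RingHom.mem_ker.mp he, zero_smul]⟩, top_add]
    exact le_top

end Groth.Agent.LC17
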