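import Groth.Agent.LC17.HLVT
import Mathlib.RingTheory.Spectrum.Prime.Topology
import Mathlib.RingTheory.Spectrum.Prime.Noetherian

/-!
# Connectedness dimension of spectra
-/

set_option autoImplicit false

universe u

open IsLocalRing TopologicalSpace

namespace Groth.Agent.LC17

variable {R : Type u} [CommRing R]

theorem mem_irreducibleComponents_of_minimal {p : Ideal R} (hp : p ∈ minimalPrimes R) :
    PrimeSpectrum.zeroLocus (p : Set R) ∈ irreducibleComponents (PrimeSpectrum R) :=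
  (PrimeSpectrum.zeroLocus_minimalPrimes R).le ⟨p, hp, rfl⟩

theorem exists_minimal_of_mem_irreducibleComponents {C : Set (PrimeSpectrum R)}
    (hC : C ∈ irreducibleComponents (PrimeSpectrum R)) :
    ∃ p ∈ minimalPrimes R, PrimeSpectrum.zeroLocus ((p : Ideal R) : Set R) = C := by
  rw [← PrimeSpectrum.zeroLocus_minimalPrimes R] at hC
  exact hC

theorem subdim_le {p : Ideal R} (hp : p ∈ minimalPrimes R) :
    LocCoh.subdim (PrimeSpectrum R) ≤ ringKrullDim (R ⧸ p) :=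
  (iInf₂_le _ (mem_irreducibleComponents_of_minimal hp)).trans (dim_zeroLocus p).le

theorem le_subdim {x : WithBot ℕ∞} (h : ∀ p ∈ minimalPrimes R, x ≤ ringKrullDim (R ⧸ p)) :
    x ≤ LocCoh.subdim (PrimeSpectrum R) := le_iInf₂ fun C hC => by
  obtain ⟨p, hp, rfl⟩ := exists_minimal_of_mem_irreducibleComponents hC
  rw [dim_zeroLocus]
  exact h p hp

theorem sUnion_zeroLocus (A : Finset (Ideal R)) :
    ⋃₀ ((fun p : Ideal R => PrimeSpectrum.zeroLocus (p : Set R)) '' (A : Set (Ideal R))) =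
      PrimeSpectrum.zeroLocus ((A.inf id : Ideal R) : Set R) := by
  ext x
  simp only [Set.mem_sUnion, Set.mem_image, PrimeSpectrum.mem_zeroLocus, SetLike.coe_subset_coe]
  constructor
  · rintro ⟨_, ⟨p, hp, rfl⟩, hx⟩
    exact (Finset.inf_le (f := id) hp).trans hx
  · intro hx
    obtain ⟨p, hp, hpx⟩ := (x.isPrime.inf_le').1 hx
    exact ⟨_, ⟨p, hp, rfl⟩, hpx⟩

variable [IsNoetherianRing R]

theorem connDim_le_quot (A B : Finset (Ideal R)) (hA : A.Nonempty) (hB : B.Nonempty)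
    (hAm : ∀ p ∈ A, p ∈ minimalPrimes R) (hBm : ∀ p ∈ B, p ∈ minimalPrimes R)
    (hAB : ∀ p ∈ minimalPrimes R, p ∈ A ∨ p ∈ B) :
    LocCoh.connDim (PrimeSpectrum R) ≤ ringKrullDim (R ⧸ (A.inf id ⊔ B.inf id)) := by
  let f := fun p : Ideal R => PrimeSpectrum.zeroLocus (p : Set R)
  have hsub : ∀ C : Finset (Ideal R), (∀ p ∈ C, p ∈ minimalPrimes R) →
      f '' (C : Set (Ideal R)) ⊆ irreducibleComponents (PrimeSpectrum R) := by
    rintro C hC _ ⟨p, hp, rfl⟩
    exact mem_irreducibleComponents_of_minimal (hC p hp)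
  refine (connDim_le_inter (hsub A hAm) (hsub B hBm) ((Finset.coe_nonempty.2 hA).image f)
    ((Finset.coe_nonempty.2 hB).image f) ?_).trans ?_
  · refine le_antisymm (Set.union_subset (hsub A hAm) (hsub B hBm)) fun C hC => ?_
    obtain ⟨p, hp, rfl⟩ := exists_minimal_of_mem_irreducibleComponents hC
    rcases hAB p hp with h | h
    · exact Or.inl ⟨p, h, rfl⟩
    · exact Or.inr ⟨p, h, rfl⟩
  · rw [sUnion_zeroLocus, sUnion_zeroLocus, ← PrimeSpectrum.zeroLocus_sup, dim_zeroLocus]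

theorem exists_connDim_attained [Nontrivial R] :
    ∃ A B : Finset (Ideal R), (A.Nonempty ∧ B.Nonempty ∧ (∀ p ∈ A, p ∈ minimalPrimes R) ∧
      (∀ p ∈ B, p ∈ minimalPrimes R) ∧ ∀ p ∈ minimalPrimes R, p ∈ A ∨ p ∈ B) ∧
      ringKrullDim (R ⧸ (A.inf id ⊔ B.inf id)) ≤ LocCoh.connDim (PrimeSpectrum R) := by
  classical
  let S := {Z : Set (PrimeSpectrum R) // IsClosed Z ∧ ¬ _root_.IsConnected Zᶜ}
  haveI : Nonempty S := ⟨⟨Set.univ, isClosed_univ, fun h => by simpa using h.nonempty⟩⟩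
  obtain ⟨⟨Z, hZ, hZc⟩, hZd⟩ : ∃ Z : S, topologicalKrullDim ↥Z.1 ≤ LocCoh.connDim (PrimeSpectrum R) := by
    obtain ⟨m, ⟨Z, rfl⟩, hm⟩ := (wellFounded_lt (α := WithBot ℕ∞)).has_min
      (Set.range fun Z : S => topologicalKrullDim ↥Z.1) (Set.range_nonempty _)
    exact ⟨Z, le_iInf₂ fun Y hY => not_lt.1 (hm _ ⟨⟨Y, hY⟩, rfl⟩)⟩
  obtain ⟨A, B, ⟨hA, hB, hAn, hBn, hAB⟩, hsub⟩ := exists_inter_le hZ hZc
  let f := fun p : Ideal R => PrimeSpectrum.zeroLocus (p : Set R)
  have hfin : (minimalPrimes R).Finite := minimalPrimes.finite_of_isNoetherianRing R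
  have key : ∀ C : Set (Set (PrimeSpectrum R)), C ⊆ irreducibleComponents (PrimeSpectrum R) →
      f '' ((hfin.toFinset.filter fun p => f p ∈ C : Finset (Ideal R)) : Set (Ideal R)) = C := by
    intro C hC
    refine le_antisymm (by rintro _ ⟨p, hp, rfl⟩; exact (Finset.mem_filter.1 hp).2) fun Y hY => ?_
    obtain ⟨p, hp, rfl⟩ := exists_minimal_of_mem_irreducibleComponents (hC hY)
    exact ⟨p, Finset.mem_filter.2 ⟨hfin.mem_toFinset.2 hp, hY⟩, rfl⟩
  refine ⟨hfin.toFinset.filter fun p => f p ∈ A, hfin.toFinset.filter fun p => f p ∈ B,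
    ⟨?_, ?_, fun p hp => hfin.mem_toFinset.1 (Finset.mem_filter.1 hp).1,
      fun p hp => hfin.mem_toFinset.1 (Finset.mem_filter.1 hp).1, fun p hp => ?_⟩, ?_⟩
  · rw [← key A hA] at hAn; exact Finset.coe_nonempty.1 (Set.image_nonempty.1 hAn)
  · rw [← key B hB] at hBn; exact Finset.coe_nonempty.1 (Set.image_nonempty.1 hBn)
  · have := mem_irreducibleComponents_of_minimal hp
    rw [← hAB] at this
    rcases this with h | h
    · exact Or.inl (Finset.mem_filter.2 ⟨hfin.mem_toFinset.2 hp, h⟩)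
    · exact Or.inr (Finset.mem_filter.2 ⟨hfin.mem_toFinset.2 hp, h⟩)
  · refine le_trans ?_ hZd
    rw [← key A hA, ← key B hB, sUnion_zeroLocus, sUnion_zeroLocus, ← PrimeSpectrum.zeroLocus_sup] at hsub
    rw [← dim_zeroLocus]
    exact dim_mono hsub

variable [IsLocalRing R]

theorem finset_inf_le_maximalIdeal {A : Finset (Ideal R)} (hA : A.Nonempty)
    (h : ∀ p ∈ A, p ≠ ⊤) : A.inf id ≤ maximalIdeal R := by
  obtain ⟨p, hp⟩ := hA
  exact (Finset.inf_le (f := id) hp).trans (le_maximalIdeal (h p hp))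

theorem exists_connDim_eq : ∃ c : ℕ, LocCoh.connDim (PrimeSpectrum R) = (c : WithBot ℕ∞) := by
  obtain ⟨A, B, ⟨hA, hB, hAm, hBm, hAB⟩, hle⟩ := exists_connDim_attained (R := R)
  have h := connDim_le_quot A B hA hB hAm hBm hAB
  obtain ⟨c, hc⟩ := exists_ringKrullDim_quotient_eq (I := A.inf id ⊔ B.inf id) fun e =>
    (maximalIdeal.isMaximal R).ne_top (top_le_iff.1 (e ▸ sup_le
      (finset_inf_le_maximalIdeal hA fun p hp => (hAm p hp).1.1.ne_top)
      (finset_inf_le_maximalIdeal hB fun p hp => (hBm p hp).1.1.ne_top)))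
  exact ⟨c, le_antisymm (h.trans hc.le) (hc.ge.trans hle)⟩

variable [IsAdicComplete (maximalIdeal R) R]

/-- bound for two ideals -/
theorem min_connDim_subdim_le_of_disconnect (a b : Ideal R) (ha : a ≤ maximalIdeal R)
    (hb : b ≤ maximalIdeal R) (δ k : ℕ) (hk : LocCoh.CdLE R (a ⊓ b) k)
    (h : ringKrullDim (R ⧸ (a ⊔ b)) ≤ (δ : WithBot ℕ∞))
    (ha' : (δ : WithBot ℕ∞) < ringKrullDim (R ⧸ a)) (hb' : (δ : WithBot ℕ∞) < ringKrullDim (R ⧸ b)) :
    min (LocCoh.connDim (PrimeSpectrum R) + 1) (LocCoh.subdim (PrimeSpectrum R)) ≤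
      ((k + δ + 1 : ℕ) : WithBot ℕ∞) := by
  classical
  by_cases hex : ∃ p ∈ minimalPrimes R, (δ : WithBot ℕ∞) < ringKrullDim (R ⧸ (a ⊔ p)) ∧
      (δ : WithBot ℕ∞) < ringKrullDim (R ⧸ (b ⊔ p))
  · obtain ⟨p, hp, h1, h2⟩ := hex
    haveI := hp.1.1
    exact (min_le_right _ _).trans ((subdim_le hp).trans (dim_le_of_disconnect_prime hlDomain p δ a b ha hb k hk
      ((ringKrullDim_quotient_anti le_sup_left).trans h) h1 h2))
  push Not at hex
  have hfin : (minimalPrimes R).Finite := minimalPrimes.finite_of_isNoetherianRing R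
  let U := hfin.toFinset.filter fun p => ringKrullDim (R ⧸ (a ⊔ p)) ≤ (δ : WithBot ℕ∞)
  let V := hfin.toFinset.filter fun p => ¬ ringKrullDim (R ⧸ (a ⊔ p)) ≤ (δ : WithBot ℕ∞)
  have hVb : ∀ p ∈ V, ringKrullDim (R ⧸ (b ⊔ p)) ≤ (δ : WithBot ℕ∞) := fun p hp =>
    hex p (hfin.mem_toFinset.1 (Finset.mem_filter.1 hp).1) (not_le.1 (Finset.mem_filter.1 hp).2)
  have hcover : ∀ c : Ideal R, (∀ p ∈ minimalPrimes R, ringKrullDim (R ⧸ (c ⊔ p)) ≤ (δ : WithBot ℕ∞)) →
      ringKrullDim (R ⧸ c) ≤ (δ : WithBot ℕ∞) := fun c hc =>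
    ringKrullDim_quotient_le_iff.2 fun Q hQ hle => by
      obtain ⟨p, hp, hpQ⟩ := Ideal.exists_minimalPrimes_le (show (⊥ : Ideal R) ≤ Q from bot_le)
      exact ringKrullDim_quotient_le_iff.1 (hc p hp) Q hQ (sup_le hle hpQ)
  have hUn : U.Nonempty := by
    by_contra hU
    refine hb'.not_ge (hcover b fun p hp => hVb p (Finset.mem_filter.2 ⟨hfin.mem_toFinset.2 hp, fun h' =>
      hU ⟨p, Finset.mem_filter.2 ⟨hfin.mem_toFinset.2 hp, h'⟩⟩⟩))
  have hVn : V.Nonempty := by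
    by_contra hV
    refine ha'.not_ge (hcover a fun p hp => by
      by_contra h'
      exact hV ⟨p, Finset.mem_filter.2 ⟨hfin.mem_toFinset.2 hp, h'⟩⟩)
  have hc := connDim_le_quot U V hUn hVn (fun p hp => hfin.mem_toFinset.1 (Finset.mem_filter.1 hp).1)
    (fun p hp => hfin.mem_toFinset.1 (Finset.mem_filter.1 hp).1) fun p hp => by
      by_cases h' : ringKrullDim (R ⧸ (a ⊔ p)) ≤ (δ : WithBot ℕ∞)
      · exact Or.inl (Finset.mem_filter.2 ⟨hfin.mem_toFinset.2 hp, h'⟩)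
      · exact Or.inr (Finset.mem_filter.2 ⟨hfin.mem_toFinset.2 hp, h'⟩)
  have hq : ringKrullDim (R ⧸ (U.inf id ⊔ V.inf id)) ≤ ((k + δ : ℕ) : WithBot ℕ∞) := by
    refine ringKrullDim_quotient_le_iff.2 fun q hq hle => ?_
    haveI := hq
    obtain ⟨u, hu, huq⟩ := (hq.inf_le').1 (le_sup_left.trans hle)
    obtain ⟨v, hv, hvq⟩ := (hq.inf_le').1 (le_sup_right.trans hle)
    refine dim_le_cd_add q δ (a ⊓ b) (inf_le_left.trans ha) k hk
      (ringKrullDim_quotient_le_iff.2 fun Q hQ hQle => ?_)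
    rcases hQ.inf_le.1 (le_sup_left.trans hQle) with h1 | h1
    · exact ringKrullDim_quotient_le_iff.1 (Finset.mem_filter.1 hu).2 Q hQ
        (sup_le h1 (huq.trans (le_sup_right.trans hQle)))
    · exact ringKrullDim_quotient_le_iff.1 (hVb v hv) Q hQ
        (sup_le h1 (hvq.trans (le_sup_right.trans hQle)))
  refine (min_le_left _ _).trans ?_
  rw [Nat.cast_add _ 1, Nat.cast_one]
  exact add_le_add_left (hc.trans hq) 1

/-- bound for arithmetic rank -/
theorem min_connDim_subdim_le_quot (a : Ideal R) (ha : a ≠ ⊤) (s : Finset R)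
    (hs : (Ideal.span (s : Set R)).radical = a.radical) :
    min (LocCoh.connDim (PrimeSpectrum R) + 1) (LocCoh.subdim (PrimeSpectrum R)) ≤
      LocCoh.connDim (PrimeSpectrum (R ⧸ a)) + (s.card : WithBot ℕ∞) + 1 := by
  classical
  haveI : Nontrivial (R ⧸ a) := Ideal.Quotient.nontrivial_iff.2 ha
  haveI : IsLocalRing (R ⧸ a) :=
    IsLocalRing.of_surjective' (Ideal.Quotient.mk a) Ideal.Quotient.mk_surjective
  obtain ⟨c, hc⟩ := exists_connDim_eq (R := R ⧸ a)
  obtain ⟨A, B, ⟨hA, hB, hAm, hBm, hAB⟩, hle⟩ := exists_connDim_attained (R := R ⧸ a)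
  let π := Ideal.Quotient.mk a
  have hπ : Function.Surjective π := Ideal.Quotient.mk_surjective
  set a1 := (A.inf id).comap π
  set b1 := (B.inf id).comap π
  have ha0 : a ≤ a1 ⊓ b1 := by
    intro z hz
    have h0 : π z = 0 := Ideal.Quotient.eq_zero_iff_mem.2 hz
    exact ⟨by simp [a1, Ideal.mem_comap, h0], by simp [b1, Ideal.mem_comap, h0]⟩
  have hrad : a1 ⊓ b1 ≤ a.radical := by
    intro z hz
    have : π z ∈ nilradical (R ⧸ a) := by
      rw [nilradical_eq_sInf, Submodule.mem_sInf]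
      intro Q hQ
      haveI : Ideal.IsPrime Q := hQ
      obtain ⟨p, hp, hpQ⟩ := Ideal.exists_minimalPrimes_le (J := Q) (show (⊥ : Ideal (R ⧸ a)) ≤ Q from bot_le)
      rcases hAB p hp with h | h
      · exact hpQ ((Finset.inf_le (f := id) h) hz.1)
      · exact hpQ ((Finset.inf_le (f := id) h) hz.2)
    obtain ⟨n, hn⟩ := this
    exact ⟨n, Ideal.Quotient.eq_zero_iff_mem.1 (by rw [map_pow]; exact hn)⟩
  have hδ : ringKrullDim (R ⧸ (a1 ⊔ b1)) ≤ (c : WithBot ℕ∞) := by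
    rw [← hc]
    refine le_trans (le_of_eq ?_) hle
    have e : (a1 ⊔ b1).map π = A.inf id ⊔ B.inf id := by
      rw [Ideal.map_sup, Ideal.map_comap_of_surjective _ hπ, Ideal.map_comap_of_surjective _ hπ]
    rw [← e, ringKrullDim_map_mk, sup_eq_left.2 ((ha0.trans inf_le_left).trans le_sup_left)]
  have hsm : Ideal.span (s : Set R) ≤ a.radical := hs ▸ Ideal.le_radical
  have hcd : LocCoh.CdLE R (a1 ⊓ b1) s.card := by
    have h1 : LocCoh.CdLE R a.radical s.card :=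
      cdLE_of_radical_eq hsm (hs.symm.le) (LC15.cdLE_span_finset s)
    intro M _ _ i hi
    haveI := h1 M i hi
    exact (Equiv.ofBijective _ (LC15.HofLE_bijective_radical hrad i (M := M)
      (Ideal.radical_mono ha0))).symm.subsingleton
  have hmax : ∀ (C : Finset (Ideal (R ⧸ a))), C.Nonempty → (∀ p ∈ C, p ∈ minimalPrimes (R ⧸ a)) →
      (C.inf id).comap π ≤ maximalIdeal R := fun C hC hCm => le_maximalIdeal fun e => by
    have h1 := congrArg (Ideal.map π) e
    rw [Ideal.map_comap_of_surjective _ hπ, Ideal.map_top] at h1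
    exact (maximalIdeal.isMaximal (R ⧸ a)).ne_top (top_le_iff.1 (h1 ▸
      finset_inf_le_maximalIdeal hC fun p hp => (hCm p hp).1.1.ne_top))
  rw [hc, show ((c : WithBot ℕ∞) + (s.card : WithBot ℕ∞) + 1) = ((s.card + c + 1 : ℕ) : WithBot ℕ∞) by
    push_cast; rw [add_comm (s.card : WithBot ℕ∞)]]
  by_cases hab : (c : WithBot ℕ∞) < ringKrullDim (R ⧸ a1) ∧ (c : WithBot ℕ∞) < ringKrullDim (R ⧸ b1)
  · exact min_connDim_subdim_le_of_disconnect a1 b1 (hmax A hA hAm) (hmax B hB hBm) c s.card hcd hδ hab.1 hab.2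
  · obtain ⟨C, hC, hCm, hCd⟩ : ∃ C : Finset (Ideal (R ⧸ a)), C.Nonempty ∧ (∀ p ∈ C, p ∈ minimalPrimes (R ⧸ a)) ∧
        ringKrullDim (R ⧸ (C.inf id).comap π) ≤ (c : WithBot ℕ∞) := by
      rw [not_and_or, not_lt, not_lt] at hab
      exact hab.elim (fun h => ⟨A, hA, hAm, h⟩) (fun h => ⟨B, hB, hBm, h⟩)
    obtain ⟨p', hp'⟩ := hC
    have hp : p'.comap π ∈ a.minimalPrimes := by
      have h1 : p'.comap π ∈ ((⊥ : Ideal (R ⧸ a)).comap π).minimalPrimes := by
        rw [Ideal.comap_minimalPrimes_eq_of_surjective hπ]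
        exact ⟨p', hCm p' hp', rfl⟩
      rwa [← RingHom.ker_eq_comap_bot, Ideal.mk_ker] at h1
    have hpd : ringKrullDim (R ⧸ p'.comap π) ≤ (c : WithBot ℕ∞) :=
      (ringKrullDim_quotient_anti (Ideal.comap_mono (Finset.inf_le (f := id) hp'))).trans hCd
    have hp2 : p'.comap π ∈ (Ideal.span (s : Set R)).minimalPrimes := by
      rwa [← Ideal.radical_minimalPrimes, hs, Ideal.radical_minimalPrimes]
    haveI := hp.1.1
    obtain ⟨p0, hp0, hp0p⟩ := Ideal.exists_minimalPrimes_le (show (⊥ : Ideal R) ≤ p'.comap π from bot_le)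
    haveI := hp0.1.1
    refine (min_le_right _ _).trans ((subdim_le hp0).trans ((dim_le_of_minimal hlDomain p0 _ _ hp2 hp0p
      s.card (LC15.cdLE_span_finset s) c hpd).trans ?_))
    exact_mod_cast Nat.le_succ _

theorem connDim_le_subdim : LocCoh.connDim (PrimeSpectrum R) ≤ LocCoh.subdim (PrimeSpectrum R) :=
  le_iInf₂ fun _ hC => connDim_le_dim_component hC

theorem connDim_add_one_le_subdim (h : (minimalPrimes R).Nontrivial) :
    LocCoh.connDim (PrimeSpectrum R) + 1 ≤ LocCoh.subdim (PrimeSpectrum R) := by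
  classical
  refine le_subdim fun p hp => ?_
  have hfin : (minimalPrimes R).Finite := minimalPrimes.finite_of_isNoetherianRing R
  let B := hfin.toFinset.erase p
  have hBn : B.Nonempty := by
    obtain ⟨q, hq, hqp⟩ := h.exists_ne p
    exact ⟨q, Finset.mem_erase.2 ⟨hqp, hfin.mem_toFinset.2 hq⟩⟩
  have hle := connDim_le_quot {p} B (Finset.singleton_nonempty p) hBn (by simpa using hp)
    (fun q hq => hfin.mem_toFinset.1 (Finset.mem_of_mem_erase hq)) fun q hq => by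
      rcases eq_or_ne q p with rfl | hne
      · exact Or.inl (Finset.mem_singleton_self q)
      · exact Or.inr (Finset.mem_erase.2 ⟨hne, hfin.mem_toFinset.2 hq⟩)
  rw [Finset.inf_singleton, id] at hle
  have hne : p ⊔ B.inf id ≠ ⊤ := fun e =>
    (maximalIdeal.isMaximal R).ne_top (top_le_iff.1 (e ▸ sup_le (le_maximalIdeal hp.1.1.ne_top)
      (finset_inf_le_maximalIdeal hBn fun q hq => (hfin.mem_toFinset.1 (Finset.mem_of_mem_erase hq)).1.1.ne_top)))
  obtain ⟨e, he⟩ := exists_ringKrullDim_quotient_eq hne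
  obtain ⟨Q, hQ, hQle, hQe⟩ := exists_prime_ge_of_series (I := p ⊔ B.inf id) (k := e) he.ge
  haveI := hQ
  haveI := hp.1.1
  have hlt : p < Q := lt_of_le_of_ne (le_sup_left.trans hQle) fun e' => by
    obtain ⟨q, hq, hqQ⟩ := (hQ.inf_le').1 (le_sup_right.trans hQle)
    have hqm := hfin.mem_toFinset.1 (Finset.mem_of_mem_erase hq)
    have hqp : q ≤ p := e' ▸ hqQ
    exact Finset.ne_of_mem_erase hq (le_antisymm hqp (hp.2 hqm.1 hqp))
  exact ((add_le_add_left hle 1).trans_eq (by rw [he])).trans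
    ((add_le_add_left hQe 1).trans (ringKrullDim_quotient_add_one_le hlt))

end Groth.Agent.LC17
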