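import Groth.Agent.EGAProj74.GrT.TildeSections

/-!
# The kernel of the map to the twisted sections
-/

universe u

open CategoryTheory AlgebraicGeometry TopologicalSpace Opposite GrMod

noncomputable section

namespace Groth.Agent.LC17.GrAlpha

open Groth.Agent.EGAProj74.GrT

variable {A σ : Type u} [CommRing A] [SetLike σ A] [AddSubgroupClass σ A] {𝒜 : ℕ → σ} [GradedRing 𝒜]

theorem irrelevant_le_of_forall {I : Ideal A}
    (h : ∀ (d : ℕ) (f : A), 0 < d → f ∈ 𝒜 d → f ∈ I) : (HomogeneousIdeal.irrelevant 𝒜).toIdeal ≤ I := by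
  classical
  intro a ha
  rw [← DirectSum.sum_support_decompose 𝒜 a]
  refine sum_mem fun i _ => ?_
  rcases Nat.eq_zero_or_pos i with rfl | hi
  · have h0 := (HomogeneousIdeal.mem_irrelevant_iff 𝒜 a).mp ha
    rw [GradedRing.proj_apply] at h0
    rw [h0]
    exact zero_mem _
  · exact h i _ hi (SetLike.coe_mem _)

variable {M τ : Type u} [AddCommGroup M] [Module A M] [SetLike τ M] [AddSubgroupClass τ M] {ℳ : ℕ → τ}
  [SetLike.GradedSMul 𝒜 ℳ] [DirectSum.Decomposition ℳ]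

theorem alpha_eq_zero_iff [IsNoetherianRing A] {i : ℕ} (m : ℳ i) :
    GrMod.alpha 𝒜 ℳ i m = 0 ↔
      ∃ k : ℕ, ∀ r : A, r ∈ (HomogeneousIdeal.irrelevant 𝒜).toIdeal ^ k → r • (m : M) = 0 := by
  constructor
  · intro h
    have hz : ∀ x : ProjectiveSpectrum 𝒜, ∃ a : A, a ∉ x.asHomogeneousIdeal ∧ a • (m : M) = 0 := fun x =>
      frac_eq_zero_iff.mp (congrArg (fun s : sect 𝒜 ℳ (i : ℤ) (op ⊤) => (s.1 ⟨x, trivial⟩).1) h :
        frac x (m : M) 1 (one_nin x) = 0)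
    let I : Ideal A := LinearMap.ker (LinearMap.toSpanSingleton A M (m : M))
    obtain ⟨k, hk⟩ := Ideal.exists_pow_le_of_le_radical_of_fg
      (irrelevant_le_of_forall (𝒜 := 𝒜) (I := I.radical) fun d f hd hf => by
        obtain ⟨N, hN⟩ := exists_pow_smul_eq_zero 𝒜 ℳ hd hf m.2 fun x _ => hz x
        exact ⟨N, hN⟩) (IsNoetherian.noetherian _)
    exact ⟨k, fun r hr => hk hr⟩
  · rintro ⟨k, hk⟩
    refine sect_ext fun x => ?_
    obtain ⟨d, f, hd, hf, hfx⟩ := exists_pos_notMem 𝒜 x.1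
    show frac x.1 (m : M) 1 (one_nin x.1) = 0
    exact frac_eq_zero_iff.mpr ⟨f ^ k, pow_notMem hfx k,
      hk _ (Ideal.pow_mem_pow (HomogeneousIdeal.mem_irrelevant_of_mem 𝒜 hd hf) k)⟩

end Groth.Agent.LC17.GrAlpha

end
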