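import Groth.Agent.LC17.ComplTri
import Groth.Agent.LC16.CechRgamma
import Groth.Agent.LC16.RgammaVanish

/-!
`H⁰` of the derived completion of derived torsion.
-/

set_option autoImplicit false
set_option linter.style.haveILetI false
set_option maxHeartbeats 800000

noncomputable section

universe u

open CategoryTheory CategoryTheory.Limits CategoryTheory.Pretriangulated
open scoped TensorProduct
attribute [local instance] HasDerivedCategory.standard

namespace Groth.Agent.LC17.ComplH0

open Groth.Agent.DR39 Groth.Agent.DR40 Groth.Agent.LC16.CechRgamma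

variable {A : Type u} [CommRing A]

/-- iterated localisation of complexes -/
def Lo : List A → (DRing.Cx A ⥤ DRing.Cx A)
  | [] => 𝟭 _
  | h :: hs => DerCA.locCx (Submonoid.powers h) ⋙ Lo hs

/-- iterated localisation of modules -/
def Lm : List A → (ModuleCat.{u} A ⥤ ModuleCat.{u} A)
  | [] => 𝟭 _
  | h :: hs => DerCA.locFunctor (Submonoid.powers h) ⋙ Lm hs

theorem Lo_additive : ∀ hs : List A, (Lo hs).Additive
  | [] => inferInstanceAs (𝟭 (DRing.Cx A)).Additive
  | h :: hs => by
    haveI := Lo_additive hs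
    exact inferInstanceAs (DerCA.locCx (Submonoid.powers h) ⋙ Lo hs).Additive

theorem Lo_zero (hs : List A) (S : ShortComplex (DRing.Cx A)) :
    (Lo hs).map S.f ≫ (Lo hs).map S.g = 0 := by
  haveI := Lo_additive hs
  rw [← Functor.map_comp, S.zero, Functor.map_zero]

theorem Lo_shortExact : ∀ (hs : List A) {S : ShortComplex (DRing.Cx A)}, S.ShortExact →
    (ShortComplex.mk ((Lo hs).map S.f) ((Lo hs).map S.g) (Lo_zero hs S)).ShortExact
  | [], _, hS => hS
  | h :: hs, S, hS => by
    let S₁ : ShortComplex (DRing.Cx A) := S.map (DerCA.locCx (Submonoid.powers h))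
    have hS₁ : S₁.ShortExact := HomologicalComplex.shortExact_of_degreewise_shortExact _ fun i =>
      (hS.map_of_exact (HomologicalComplex.eval (ModuleCat.{u} A) (ComplexShape.up ℤ) i)).map_of_exact
        (DerCA.locFunctor (Submonoid.powers h))
    exact Lo_shortExact hs hS₁

theorem Lo_quasiIso : ∀ (hs : List A) {K L : DRing.Cx A} (φ : K ⟶ L), QuasiIso φ →
    QuasiIso ((Lo hs).map φ)
  | [], _, _, φ, h => h
  | h :: hs, _, _, φ, hq => Lo_quasiIso hs ((DerCA.locCx (Submonoid.powers h)).map φ)
      (inferInstanceAs (QuasiIso (((DerCA.locFunctor (R := A) (Submonoid.powers h)).mapHomologicalComplex _).map φ)))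

theorem nonempty_Lo_single : ∀ (hs : List A) (N : ModuleCat.{u} A),
    Nonempty ((Lo hs).obj ((HomologicalComplex.single _ (ComplexShape.up ℤ) 0).obj N) ≅
      (HomologicalComplex.single _ (ComplexShape.up ℤ) 0).obj ((Lm hs).obj N))
  | [], N => ⟨Iso.refl _⟩
  | h :: hs, N => by
    obtain ⟨e⟩ := nonempty_Lo_single hs ((DerCA.locFunctor (Submonoid.powers h)).obj N)
    exact ⟨(Lo hs).mapIso ((HomologicalComplex.singleMapHomologicalComplex
      (DerCA.locFunctor (Submonoid.powers h)) (ComplexShape.up ℤ) 0).app N) ≪≫ e⟩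

theorem exists_flat_factor : ∀ (hs : List A) (M : Type u) [AddCommGroup M] [Module A M] (F : Type u)
    [AddCommGroup F] [Module A F] [Module.Flat A F] (N : ModuleCat.{u} A), (N ≃ₗ[A] M ⊗[A] F) →
    ∃ (F' : Type u) (_ : AddCommGroup F') (_ : Module A F') (_ : Module.Flat A F'),
      Nonempty ((Lm hs).obj N ≃ₗ[A] M ⊗[A] F')
  | [], M, _, _, F, _, _, _, N, e => ⟨F, inferInstance, inferInstance, inferInstance, ⟨e⟩⟩
  | h :: hs, M, _, _, F, _, _, _, N, e => by
    let S := Submonoid.powers h
    refine exists_flat_factor hs M (Localization S ⊗[A] F) ((DerCA.locFunctor S).obj N) ?_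
    exact ((LocalizedModule.equivTensorProduct S N).restrictScalars A) ≪≫ₗ
      TensorProduct.congr (LinearEquiv.refl A (Localization S)) e ≪≫ₗ
      TensorProduct.leftComm A (Localization S) M F

/-- iterated ideal -/
def Jl : List A → Ideal A
  | [] => ⊥
  | f :: gs => Ideal.span {f} ⊔ Jl gs

theorem Jl_eq : ∀ gs : List A, Jl gs = Ideal.span {x | x ∈ gs}
  | [] => by simp [Jl]
  | f :: gs => by
    rw [Jl, Jl_eq gs, show ({x : A | x ∈ f :: gs}) = insert f {x | x ∈ gs} from by ext; simp, Ideal.span_insert]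

/-- torsion subcomplex inclusion -/
def incE (J : Ideal A) (E : DRing.Cx A) : (gCx J).obj E ⟶ E where
  f i := ModuleCat.ofHom (X := DRing.torsionSub J (E.X i)) (DRing.torsionSub J (E.X i)).subtype
  comm' i j _ := rfl

variable (I : Ideal A) [DRing.HasDerivedCompletion I] [IsNoetherianRing A]
  (M : Type u) [AddCommGroup M] [Module A M] [Module.Finite A M]
  (E : DRing.Cx A) (hE : ∀ i, Module.Injective A (E.X i))
  (r : (HomologicalComplex.single _ (ComplexShape.up ℤ) 0).obj (ModuleCat.of A M) ⟶ E) [QuasiIso r]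

include r in
theorem isZero_base (hs : List A) (i : ℤ) (hi : i < 0) :
    IsZero ((HF A i).obj ((Cp I).obj ((QA A).obj ((Lo hs).obj E)))) := by
  obtain ⟨e⟩ := nonempty_Lo_single hs (ModuleCat.of A M)
  obtain ⟨F, _, _, _, ⟨l⟩⟩ := exists_flat_factor hs M A (ModuleCat.of A M) (TensorProduct.rid A M).symm
  have : QuasiIso ((Lo hs).map r) := Lo_quasiIso hs r inferInstance
  have hiso : IsIso ((QA A).map ((Lo hs).map r)) :=
    (DerivedCategory.isIso_Q_map_iff_quasiIso (ModuleCat.{u} A) _).2 this
  refine (isZero_neg I M F _ l i hi).of_iso ?_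
  exact (HF A i).mapIso ((Cp I).mapIso ((@asIso _ _ _ _ _ hiso).symm ≪≫ (QA A).mapIso e ≪≫
    ((DerivedCategory.singleFunctorIsoCompQ (ModuleCat.{u} A) 0).app _).symm))

include hE r in
theorem main : ∀ (gs hs : List A),
    (∀ i < 0, IsZero ((HF A i).obj ((Cp I).obj ((QA A).obj ((Lo hs).obj ((gCx (Jl gs)).obj E)))))) ∧
      Function.Injective
        ((HF A 0).map ((Cp I).map ((QA A).map ((Lo hs).map (incE (Jl gs) E))))).hom
  | [], hs => by
    have : IsIso (incE (Jl []) E) := inferInstanceAs (IsIso (gBotIso E).hom)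
    refine ⟨fun i hi => ?_, ?_⟩
    · exact (isZero_base I M E r hs i hi).of_iso ((HF A i).mapIso ((Cp I).mapIso ((QA A).mapIso
        ((Lo hs).mapIso (gBotIso E)))))
    · exact ((DR39.isIso_iff_bijective _).1 inferInstance).1
  | f :: gs, hs => by
    obtain ⟨hz₂, hi₂⟩ := main gs hs
    obtain ⟨hz₃, -⟩ := main gs (f :: hs)
    have hT := DerivedCategory.triangleOfSES_distinguished (Lo_shortExact hs (seq_shortExact (Jl gs) f E hE))
    refine ⟨fun i hi => isZero_of_triangle I hT i (hz₃ _ (by omega)) (hz₂ i hi), ?_⟩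
    let a : (gCx (Jl (f :: gs))).obj E ⟶ (gCx (Jl gs)).obj E := (seq (Jl gs) f E).f
    have hinj : Function.Injective ((HF A 0).map ((Cp I).map ((QA A).map ((Lo hs).map a)))).hom :=
      map_injective I hT 0 (hz₃ _ (by omega))
    have hfac : incE (Jl (f :: gs)) E = a ≫ incE (Jl gs) E := HomologicalComplex.hom_ext _ _ fun i => rfl
    rw [hfac, Functor.map_comp, Functor.map_comp, Functor.map_comp, Functor.map_comp]
    exact hi₂.comp hinj

include hE r in
theorem range_incE : ∀ (gs : List A),
    Set.range ((HF A 0).map ((Cp I).map ((QA A).map (incE (Jl gs) E)))).hom =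
      {y | ∀ f ∈ gs, ((HF A 0).map ((Cp I).map ((QA A).map
        (DerCA.locCxUnit (Submonoid.powers f) E)))).hom y = 0}
  | [] => by
    have : IsIso (incE (Jl []) E) := inferInstanceAs (IsIso (gBotIso E).hom)
    refine Eq.trans (Function.Surjective.range_eq ((DR39.isIso_iff_bijective _).1 inferInstance).2) ?_
    simp
  | f :: gs => by
    have ih := range_incE gs
    have hi₂ := (main I M E hE r gs []).2
    have hi₃ := (main I M E hE r gs [f]).2
    have hT := DerivedCategory.triangleOfSES_distinguished (seq_shortExact (Jl gs) f E hE)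
    let a : (gCx (Jl (f :: gs))).obj E ⟶ (gCx (Jl gs)).obj E := (seq (Jl gs) f E).f
    let b : (gCx (Jl gs)).obj E ⟶ (DerCA.locCx (Submonoid.powers f)).obj ((gCx (Jl gs)).obj E) :=
      (seq (Jl gs) f E).g
    have hex : Function.Exact ((HF A 0).map ((Cp I).map ((QA A).map a))).hom
        ((HF A 0).map ((Cp I).map ((QA A).map b))).hom := exact_map I hT 0
    have hfac : incE (Jl (f :: gs)) E = a ≫ incE (Jl gs) E :=
      HomologicalComplex.hom_ext _ _ fun i => rfl
    have hsq : b ≫ (DerCA.locCx (Submonoid.powers f)).map (incE (Jl gs) E) =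
        incE (Jl gs) E ≫ DerCA.locCxUnit (Submonoid.powers f) E :=
      ((LC16.RgammaVanish.unitNat (Submonoid.powers f)).naturality (incE (Jl gs) E)).symm
    have hf : ∀ x, ((HF A 0).map ((Cp I).map ((QA A).map b))).hom x = 0 ↔
        ((HF A 0).map ((Cp I).map ((QA A).map (DerCA.locCxUnit (Submonoid.powers f) E)))).hom
          (((HF A 0).map ((Cp I).map ((QA A).map (incE (Jl gs) E)))).hom x) = 0 := by
      intro x
      have h1 := congrArg (fun φ => ((HF A 0).map ((Cp I).map ((QA A).map φ))).hom x) hsq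
      simp only [Functor.map_comp, ModuleCat.hom_comp, LinearMap.comp_apply] at h1
      rw [← h1]
      exact (map_eq_zero_iff _ hi₃).symm
    ext y
    rw [hfac]
    simp only [Functor.map_comp, ModuleCat.hom_comp, LinearMap.coe_comp, Set.mem_range, Function.comp_apply,
      Set.mem_ofPred_eq, List.forall_mem_cons]
    constructor
    · rintro ⟨z, rfl⟩
      refine ⟨(hf _).1 ((hex _).2 ⟨z, rfl⟩), fun g hg => ?_⟩
      exact (ih.le ⟨_, rfl⟩) g hg
    · rintro ⟨h0, hy⟩
      obtain ⟨x, rfl⟩ := ih.ge hy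
      obtain ⟨z, rfl⟩ := (hex x).1 ((hf x).2 h0)
      exact ⟨z, rfl⟩

end Groth.Agent.LC17.ComplH0
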