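import Groth.Agent.LC17.TopLC
import Groth.Agent.LC15.OfLE
import Groth.Agent.LC15.Cd
import Mathlib.Algebra.Category.ModuleCat.ChangeOfRings
import Mathlib.CategoryTheory.Yoneda

/-!
# Representability of `Hom(H^d_J(-), F)`
-/

set_option autoImplicit false

universe u

open CategoryTheory Groth.Agent.LC15

namespace Groth.Agent.LC17

theorem cdLE_of_le_radical_span {S : Type u} [CommRing S] [IsNoetherianRing S] {J : Ideal S} {d : ℕ}
    (u : Fin d → S) (hu : ∀ i, u i ∈ J) (hJ : J ≤ (Ideal.span (Set.range u)).radical) :
    LocCoh.CdLE S J d := by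
  classical
  intro M _ _ i hi
  have hle : Ideal.span (Set.range u) ≤ J := Ideal.span_le.2 (Set.range_subset_iff.2 hu)
  have h1 : LocCoh.CdLE S (Ideal.span (Set.range u)) d := by
    have h := cdLE_span_finset (Finset.univ.image u)
    rw [Finset.coe_image, Finset.coe_univ, Set.image_univ] at h
    exact cdLE_mono (Finset.card_image_le.trans (by simp)) h
  haveI := h1 M i hi
  exact (Equiv.ofBijective _ (HofLE_bijective_radical hle i (M := M) hJ)).subsingleton

theorem isRepresentable_hom_H {R S : Type u} [CommRing R] [CommRing S] [IsNoetherianRing S]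
    [Algebra R S] {J : Ideal S} {d : ℕ} (hcd : LocCoh.CdLE S J d) (F : ModuleCat.{u} R) :
    ((localCohomology J d ⋙ ModuleCat.restrictScalars (algebraMap R S)).op ⋙
      yoneda.obj F).IsRepresentable := by
  let Q : ModuleCat.{u} S := (ModuleCat.coextendScalars (algebraMap R S)).obj F
  let adj := ModuleCat.restrictCoextendScalarsAdj.{u} (algebraMap R S)
  let e : ∀ E : ModuleCat.{u} S, TensorProduct S (LocCoh.H J d S) E ≃ₗ[S] LocCoh.H J d E :=
    fun E => LinearEquiv.ofBijective (tensorToH J d E) (tensorToH_bijective hcd E)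
  let β : ∀ E : ModuleCat.{u} S, ((localCohomology J d).obj E ⟶ Q) ≃
      (E ⟶ ModuleCat.of S (LocCoh.H J d S →ₗ[S] Q)) := fun E =>
    { toFun := fun φ => ModuleCat.ofHom (TensorProduct.curry (φ.hom.comp (tensorToH J d E))).flip
      invFun := fun g => ModuleCat.ofHom ((TensorProduct.lift g.hom.flip).comp (e E).symm.toLinearMap)
      left_inv := fun φ => by
        refine ModuleCat.hom_ext (LinearMap.ext fun y => ?_)
        obtain ⟨v, rfl⟩ := (e E).surjective y
        have key : TensorProduct.lift (TensorProduct.curry (φ.hom.comp (tensorToH J d E))).flip.flip =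
            φ.hom.comp (tensorToH J d E) := TensorProduct.ext' fun t m => rfl
        exact (congrArg _ ((e E).symm_apply_apply v)).trans (DFunLike.congr_fun key v)
      right_inv := fun g => by
        refine ModuleCat.hom_ext (LinearMap.ext fun m => LinearMap.ext fun t => ?_)
        show TensorProduct.lift g.hom.flip ((e E).symm (e E (TensorProduct.tmul S t m))) = _
        rw [LinearEquiv.symm_apply_apply, TensorProduct.lift.tmul, LinearMap.flip_apply] }
  refine Functor.RepresentableBy.isRepresentable (Y := ModuleCat.of S (LocCoh.H J d S →ₗ[S] Q))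
    { homEquiv := fun {E} => (β E).symm.trans (adj.homEquiv _ _).symm
      homEquiv_comp := fun {E E'} f g => ?_ }
  show (adj.homEquiv _ _).symm ((β E).symm (f ≫ g)) =
    (ModuleCat.restrictScalars (algebraMap R S)).map ((localCohomology J d).map f) ≫
      (adj.homEquiv _ _).symm ((β E').symm g)
  rw [← Adjunction.homEquiv_naturality_left_symm]
  congr 1
  rw [Equiv.symm_apply_eq]
  obtain ⟨φ, rfl⟩ := (β E').surjective g
  rw [Equiv.symm_apply_apply]
  refine ModuleCat.hom_ext (LinearMap.ext fun m => LinearMap.ext fun t => ?_)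
  show φ.hom (tensorToH J d E' (f.hom.lTensor _ (TensorProduct.tmul S t m))) = _
  rw [tensorToH_nat]
  rfl

end Groth.Agent.LC17
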