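import Groth.Agent.LC17.LocalDepth
import Groth.Agent.EGA4H10.ProjDim
import Mathlib.Algebra.Module.FinitePresentation
import Mathlib.RingTheory.LocalRing.Module

/-!
Uniform annihilators of local cohomology below the grade (Faltings' lemmas).
-/

set_option autoImplicit false

universe u

open CategoryTheory
open Groth.Agent.LC15

namespace Groth.Agent.LC17

variable {R : Type u} [CommRing R]

lemma subsingleton_H_pi (b : Ideal R) (i n : ℕ) (h : Subsingleton (LocCoh.H b i R)) :
    Subsingleton (LocCoh.H b i (Fin n → R)) := by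
  classical
  refine subsingleton_of_forall_eq 0 fun y => ?_
  let P : Fin n → (Fin n → R) →ₗ[R] Fin n → R := fun j =>
    LinearMap.single R (fun _ => R) j ∘ₗ LinearMap.proj j
  have h1 : ∀ (s : Finset (Fin n)), Hmap b i (∑ j ∈ s, P j) y = 0 := by
    intro s
    induction s using Finset.induction with
    | empty => rw [Finset.sum_empty, Hmap_zero, LinearMap.zero_apply]
    | insert j s hj ih =>
      rw [Finset.sum_insert hj, Hmap_add, LinearMap.add_apply, ih, add_zero, Hmap_comp,
        LinearMap.comp_apply, Subsingleton.elim (Hmap b i (LinearMap.proj j) y) 0, map_zero]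
  have h2 : (∑ j, P j) = LinearMap.id := by
    refine LinearMap.ext fun v => ?_
    rw [LinearMap.sum_apply]
    exact Finset.univ_sum_single v
  have h3 := h1 Finset.univ
  rwa [h2, Hmap_id, LinearMap.id_apply] at h3

variable [IsNoetherianRing R]

lemma subsingleton_H_self_of_lt {b : Ideal R} {i : ℕ} (h : (i : ℕ∞) < LocCoh.idealDepth b R) :
    Subsingleton (LocCoh.H b i R) :=
  nul_bot_iff.mp (nul_of_lt_idealDepth b ⊥ h)

lemma exists_factor_of_free (M : Type u) [AddCommGroup M] [Module R M] [Module.Finite R M]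
    (S : Submonoid R) [Nontrivial (Localization S)]
    [Module.Free (Localization S) (LocalizedModule S M)] :
    ∃ (n : ℕ) (f : (Fin n → R) →ₗ[R] M) (g : M →ₗ[R] (Fin n → R)) (u : R),
      u ∈ S ∧ ∀ m : M, f (g m) = u • m := by
  classical
  haveI : Module.Finite (Localization S) (LocalizedModule S M) :=
    Module.Finite.of_isLocalizedModule S (LocalizedModule.mkLinearMap S M)
  haveI := Module.finitePresentation_of_finite R M
  set L := Localization S
  set MS := LocalizedModule S M
  let e := (Module.finBasis L MS).equivFun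
  set n := Module.finrank L MS
  set ι := LocalizedModule.mkLinearMap S M
  let F : (Fin n → R) →ₗ[R] (Fin n → L) := LinearMap.pi fun i => (Algebra.linearMap R L).comp (LinearMap.proj i)
  haveI : IsLocalizedModule S F := IsLocalizedModule.pi S fun _ : Fin n => Algebra.linearMap R L
  obtain ⟨g, s, hg⟩ := Module.FinitePresentation.exists_lift_of_isLocalizedModule S F
    ((e.toLinearMap.restrictScalars R).comp ι)
  obtain ⟨t, ht⟩ := IsLocalizedModule.exist_integer_multiples_of_finset S ι
    (Finset.univ.image fun j : Fin n => e.symm (Pi.single j 1))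
  have hm : ∀ j : Fin n, ∃ m : M, ι m = (t : R) • e.symm (Pi.single j 1) := fun j => by
    obtain ⟨m, hm⟩ := ht _ (Finset.mem_image.mpr ⟨j, Finset.mem_univ _, rfl⟩)
    exact ⟨m, hm⟩
  choose m hm using hm
  let f := Fintype.linearCombination R m
  have hf : ∀ v : Fin n → R, ι (f v) = (t : R) • e.symm (F v) := by
    intro v
    have hv : F v = ∑ j, v j • (Pi.single j 1 : Fin n → L) := by
      funext k
      simp [F, Finset.sum_apply, Pi.single_apply, Algebra.smul_def]
    rw [Fintype.linearCombination_apply, map_sum, hv, map_sum, Finset.smul_sum]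
    refine Finset.sum_congr rfl fun j _ => ?_
    rw [map_smul, hm, ← algebraMap_smul L (v j) (Pi.single j 1 : Fin n → L), map_smul,
      algebraMap_smul, smul_comm]
  have hD : Nul S (LinearMap.range (f ∘ₗ g - ((t : R) * (s : R)) • LinearMap.id)) := by
    rintro ⟨_, x, rfl⟩
    have h1 : ι ((f ∘ₗ g - ((t : R) * (s : R)) • LinearMap.id : M →ₗ[R] M) x) = 0 := by
      have hgx : F (g x) = (s : R) • e (ι x) := congr($hg x)
      rw [LinearMap.sub_apply, map_sub, LinearMap.smul_apply, LinearMap.id_apply, map_smul,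
        LinearMap.comp_apply, hf, hgx, sub_eq_zero]
      rw [← algebraMap_smul L (s : R) (e (ι x)), map_smul, e.symm_apply_apply, algebraMap_smul,
        smul_smul]
    obtain ⟨u, hu⟩ := LocalizedModule.mem_ker_mkLinearMap_iff.mp (LinearMap.mem_ker.mpr h1)
    exact ⟨u, hu.1, Subtype.ext hu.2⟩
  obtain ⟨v, hv, hvk⟩ := exists_kill hD
  refine ⟨n, v • f, g, v * ((t : R) * (s : R)), mul_mem hv (mul_mem t.2 s.2), fun x => ?_⟩
  have h2 : v • (f (g x) - ((t : R) * (s : R)) • x) = 0 :=
    congrArg Subtype.val (hvk ⟨_, x, rfl⟩)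
  rw [smul_sub, sub_eq_zero] at h2
  rw [LinearMap.smul_apply, h2, smul_smul]

lemma exists_smul_H_eq_zero_of_free (M : Type u) [AddCommGroup M] [Module R M] [Module.Finite R M]
    (p : Ideal R) [p.IsPrime] [Module.Free (Localization.AtPrime p) (LocalizedModule p.primeCompl M)] :
    ∃ u : R, u ∉ p ∧ ∀ (b : Ideal R) (i : ℕ), (i : ℕ∞) < LocCoh.idealDepth b R →
      ∀ y : LocCoh.H b i M, u • y = 0 := by
  obtain ⟨n, f, g, u, hu, hfg⟩ := exists_factor_of_free M p.primeCompl
  refine ⟨u, hu, fun b i hi y => ?_⟩
  haveI := subsingleton_H_pi b i n (subsingleton_H_self_of_lt hi)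
  rw [← Hmap_lsmul b i u y, show LinearMap.lsmul R M u = f ∘ₗ g from LinearMap.ext fun m => (hfg m).symm,
    Hmap_comp, LinearMap.comp_apply, Subsingleton.elim (Hmap b i g y) 0, map_zero]

theorem exists_smul_H_eq_zero_of_pd (p : Ideal R) [p.IsPrime] : ∀ (h : ℕ) (M : Type u)
    [AddCommGroup M] [Module R M] [Module.Finite R M],
    HasProjectiveDimensionLE (ModuleCat.of (Localization.AtPrime p) (LocalizedModule p.primeCompl M)) h →
    ∃ u : R, u ∉ p ∧ ∀ (b : Ideal R) (i : ℕ), ((i + h : ℕ) : ℕ∞) < LocCoh.idealDepth b R →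
      ∀ y : LocCoh.H b i M, u • y = 0
  | 0, M, _, _, _, hpd => by
    rw [EGA4H10.hasPD_zero_iff] at hpd
    haveI : Module.Finite (Localization.AtPrime p) (LocalizedModule p.primeCompl M) :=
      Module.Finite.of_isLocalizedModule p.primeCompl (LocalizedModule.mkLinearMap p.primeCompl M)
    haveI : Module.Free (Localization.AtPrime p) (LocalizedModule p.primeCompl M) :=
      Module.free_of_flat_of_isLocalRing
    exact exists_smul_H_eq_zero_of_free M p
  | h + 1, M, _, _, _, hpd => by
    obtain ⟨n, π, hπ⟩ := Module.Finite.exists_fin' R M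
    have hex : Function.Exact (LinearMap.ker π).subtype π := LinearMap.exact_subtype_ker_map π
    have hex' : Function.Exact (LocalizedModule.map p.primeCompl (LinearMap.ker π).subtype)
        (LocalizedModule.map p.primeCompl π) := LocalizedModule.map_exact p.primeCompl _ _ hex
    have hK : HasProjectiveDimensionLE (ModuleCat.of (Localization.AtPrime p)
        (LocalizedModule p.primeCompl (LinearMap.ker π))) h :=
      (EGA4H10.hasPD_succ_iff (R := Localization.AtPrime p)
        (K := LocalizedModule p.primeCompl (LinearMap.ker π))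
        (P := LocalizedModule p.primeCompl (Fin n → R))
        (M := LocalizedModule p.primeCompl M)
        (LocalizedModule.map p.primeCompl (LinearMap.ker π).subtype)
        (LocalizedModule.map p.primeCompl π)
        (LocalizedModule.map_injective _ _ (Submodule.subtype_injective _))
        hex' (LocalizedModule.map_surjective _ _ hπ) h).mp hpd
    obtain ⟨u, hu, hk⟩ := exists_smul_H_eq_zero_of_pd p h _ hK
    refine ⟨u, hu, fun b i hi y => ?_⟩
    haveI := subsingleton_H_pi b i n (subsingleton_H_self_of_lt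
      (lt_of_le_of_lt (Nat.cast_le.mpr (Nat.le_add_right i (h + 1))) hi))
    have h1 : Hδ b i (Submodule.subtype_injective _) hex hπ (u • y) = 0 := by
      rw [map_smul]
      exact hk b (i + 1) (by rwa [show i + 1 + h = i + (h + 1) by omega]) _
    obtain ⟨z, hz⟩ := (H_exact₃ b i (Submodule.subtype_injective _) hex hπ _).mp h1
    rw [← hz, Subsingleton.elim z 0, map_zero]

/-- the bad locus ideal `c_t(M)` -/
noncomputable abbrev badIdeal (M : Type u) [AddCommGroup M] [Module R M] (t : ℕ) : Ideal R :=
  PrimeSpectrum.vanishingIdeal {p : PrimeSpectrum R | ¬ HasProjectiveDimensionLE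
    (ModuleCat.of (Localization.AtPrime p.asIdeal) (LocalizedModule p.asIdeal.primeCompl M)) t}

theorem exists_pow_badIdeal_le (M : Type u) [AddCommGroup M] [Module R M] [Module.Finite R M] (t : ℕ) :
    ∃ n : ℕ, ∀ (d : Ideal R) (i : ℕ), ((i + t : ℕ) : ℕ∞) < LocCoh.idealDepth d R →
      badIdeal M t ^ n ≤ Module.annihilator R (LocCoh.H d i M) := by
  let J : Ideal R := ⨅ (d : Ideal R) (i : ℕ) (_ : ((i + t : ℕ) : ℕ∞) < LocCoh.idealDepth d R),
    Module.annihilator R (LocCoh.H d i M)
  have hrad : badIdeal M t ≤ J.radical := by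
    rw [Ideal.radical_eq_sInf]
    refine le_sInf fun P ⟨hJP, hP⟩ => ?_
    haveI := hP
    intro r hr
    refine (PrimeSpectrum.mem_vanishingIdeal _ _).mp hr ⟨P, hP⟩ fun hgood => ?_
    obtain ⟨u, hu, hk⟩ := exists_smul_H_eq_zero_of_pd P t M hgood
    refine hu (hJP ?_)
    simp only [J, Submodule.mem_iInf]
    exact fun d i hi => Module.mem_annihilator.mpr (hk d i hi)
  obtain ⟨n, hn⟩ := Ideal.exists_pow_le_of_le_radical_of_fg hrad (IsNoetherian.noetherian _)
  exact ⟨n, fun d i hi => hn.trans (iInf_le_of_le d (iInf_le_of_le i (iInf_le _ hi)))⟩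

end Groth.Agent.LC17
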