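import Groth.Agent.CAlg9.BlowReg.ExcSmooth
import Groth.Agent.Grass54.CMQuot
import Groth.Agent.FiltBl13.Pure
import Groth.Agent.RegImm10.BlowModel
import Groth.Agent.FlatMor66.CMBaseChange
import Groth.Prelude.Def_RegImm

/-!
The blow-up of a regular ideal in a Cohen-Macaulay scheme is Cohen-Macaulay.
-/

set_option autoImplicit false
set_option backward.isDefEq.respectTransparency.types false
universe u

open MvPolynomial IsLocalRing RingTheory.Sequence
open CategoryTheory AlgebraicGeometry

namespace Groth.Agent.LC17.BlowCM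

theorem cm_quotient_ofList : ∀ (l : List.{u} PUnit) (A : Type u) [CommRing A] [LocCoh.IsCohenMacaulayRing A]
    (rs : List A), rs.length = l.length → IsWeaklyRegular A rs → LocCoh.IsCohenMacaulayRing (A ⧸ Ideal.ofList rs) := by
  intro l
  induction l with
  | nil =>
    intro A _ _ rs hl _
    obtain rfl := List.length_eq_zero_iff.1 hl
    exact CAlg1.cmRing_of_ringEquiv
      ((RingEquiv.quotientBot A).symm.trans (Ideal.quotEquivOfEq (Ideal.ofList_nil).symm)) inferInstance
  | cons _ l ih =>
    intro A _ _ rs hl hreg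
    obtain ⟨x, rs, rfl⟩ := List.exists_cons_of_length_eq_add_one hl
    rw [isWeaklyRegular_cons_iff] at hreg
    haveI := Grass54.cm_quotient_of_regular x hreg.1
    let e : QuotSMulTop x A ≃ₗ[A] (A ⧸ Ideal.span {x}) := Submodule.quotEquivOfEq _ _ (by
      rw [← Submodule.ideal_span_singleton_smul, smul_eq_mul, Ideal.mul_top])
    have h2 := (isWeaklyRegular_map_algebraMap_iff (A ⧸ Ideal.span {x}) (A ⧸ Ideal.span {x}) rs).2
      ((e.isWeaklyRegular_congr rs).1 hreg.2)
    have h3 := ih (A ⧸ Ideal.span {x}) (rs.map (algebraMap A (A ⧸ Ideal.span {x}))) (by simpa using hl) h2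
    refine CAlg1.cmRing_of_ringEquiv ?_ h3
    exact (Ideal.quotEquivOfEq (Ideal.map_ofList (algebraMap A (A ⧸ Ideal.span {x})) rs).symm).trans
      ((DoubleQuot.quotQuotEquivQuotSup (Ideal.span {x}) (Ideal.ofList rs)).trans
        (Ideal.quotEquivOfEq (Ideal.ofList_cons x rs).symm))

theorem nonempty_locEquiv (R L : Type u) [CommRing R] [CommRing L] [Algebra R L] (M : Submonoid R)
    [IsLocalization M L] (Q : Ideal L) [Q.IsPrime] :
    Nonempty (Localization.AtPrime (Q.under R) ≃+* Localization.AtPrime Q) := by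
  have : IsLocalization.AtPrime (Localization.AtPrime Q) (Q.under R) :=
    IsLocalization.isLocalization_isLocalization_atPrime_isLocalization M (Localization.AtPrime Q) Q
  exact ⟨(IsLocalization.algEquiv (Q.under R).primeCompl (Localization.AtPrime (Q.under R))
    (Localization.AtPrime Q)).toRingEquiv⟩

section chart

variable {A : Type u} [CommRing A] {r : ℕ} (f : Fin r → A) (i : Fin r)

theorem cm_chart_quotient [LocCoh.IsCohenMacaulayRing A] (h : IsWeaklyRegular A (List.ofFn f)) :
    LocCoh.IsCohenMacaulayRing (↥(BlowUp.affineAlgebra A (Ideal.span (Set.range f)) (f i)) ⧸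
      Ideal.span {algebraMap A ↥(BlowUp.affineAlgebra A (Ideal.span (Set.range f)) (f i)) (f i)}) := by
  let I : Ideal A := Ideal.span (Set.range f)
  have hIl : Ideal.ofList (List.ofFn f) = I := by
    rw [Ideal.ofList]
    congr 1
    exact Set.ext fun x => List.mem_ofFn' f x
  haveI : LocCoh.IsCohenMacaulayRing (A ⧸ I) :=
    CAlg1.cmRing_of_ringEquiv (Ideal.quotEquivOfEq hIl)
      (cm_quotient_ofList (List.replicate r PUnit.unit) A (List.ofFn f) (by simp) h)
  have hq : CAlgX.IsQuasiRegular f := EGA4Alg4.isQuasiRegular_of_isWeaklyRegular _ f h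
  let B := ↥(BlowUp.affineAlgebra A I (f i))
  let K : Ideal B := Ideal.span {algebraMap A B (f i)}
  let g : MvPolynomial {j : Fin r // j ≠ i} A →+* B ⧸ K :=
    (Ideal.Quotient.mk K).comp (aeval (R := A) (CAlg9.BlowReg.coord f i)).toRingHom
  have hg : Function.Surjective g :=
    Ideal.Quotient.mk_surjective.comp (CAlg9.BlowReg.aeval_coord_surjective f i)
  have hI : ∀ a ∈ I, algebraMap A B a ∈ K := fun a ha => by
    obtain ⟨c, hc⟩ := FBlow13.affineAlgebra_div (a := f i) ha
    exact Ideal.mem_span_singleton'.2 ⟨c, hc.symm⟩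
  let π : MvPolynomial {j : Fin r // j ≠ i} A →+* MvPolynomial {j : Fin r // j ≠ i} (A ⧸ I) :=
    MvPolynomial.map (Ideal.Quotient.mk I)
  have hπ : Function.Surjective π := MvPolynomial.map_surjective _ Ideal.Quotient.mk_surjective
  have hker : RingHom.ker π = RingHom.ker g := by
    ext P
    rw [RingHom.mem_ker, RingHom.mem_ker]
    constructor
    · intro hP
      show Ideal.Quotient.mk K (aeval (CAlg9.BlowReg.coord f i) P) = 0
      rw [Ideal.Quotient.eq_zero_iff_mem, P.as_sum, map_sum]
      refine Ideal.sum_mem _ fun d _ => ?_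
      rw [aeval_monomial]
      refine Ideal.mul_mem_right _ _ (hI _ ?_)
      rw [← Ideal.Quotient.eq_zero_iff_mem, ← coeff_map]
      exact (congrArg (coeff d) hP).trans (coeff_zero d)
    · intro hP
      refine MvPolynomial.ext _ _ fun d => ?_
      rw [coeff_map, coeff_zero, Ideal.Quotient.eq_zero_iff_mem]
      exact CAlg9.BlowReg.coeff_mem_of_dvd f i hq P
        (Ideal.mem_span_singleton.1 (Ideal.Quotient.eq_zero_iff_mem.1 hP)) d
  refine CAlg1.cmRing_of_ringEquiv
    ((renameEquiv (A ⧸ I) (Fintype.equivFin {j : Fin r // j ≠ i})).symm.toRingEquiv.trans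
      ((RingHom.quotientKerEquivOfSurjective hπ).symm.trans
        ((Ideal.quotEquivOfEq hker).trans (RingHom.quotientKerEquivOfSurjective hg))))
    (CAlg1.cm_mvPolynomial _)

theorem cm_chart [LocCoh.IsCohenMacaulayRing A] (h : IsWeaklyRegular A (List.ofFn f))
    (P : Ideal ↥(BlowUp.affineAlgebra A (Ideal.span (Set.range f)) (f i))) [P.IsPrime] :
    LocCoh.IsCohenMacaulayLocalRing (Localization.AtPrime P) := by
  let B := ↥(BlowUp.affineAlgebra A (Ideal.span (Set.range f)) (f i))
  let x : B := algebraMap A B (f i)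
  haveI : IsNoetherianRing B := by
    haveI : IsNoetherianRing A := (inferInstance : LocCoh.IsCohenMacaulayRing A).toIsNoetherian
    haveI := FBlow13.affineAlgebra_finiteType (𝔞 := Ideal.span (Set.range f)) (f i) (IsNoetherian.noetherian _)
    exact Algebra.FiniteType.isNoetherianRing A B
  haveI : IsNoetherianRing (Localization.AtPrime P) :=
    IsLocalization.isNoetherianRing P.primeCompl _ inferInstance
  by_cases hx : x ∈ P
  · refine FiltBl13.cm_of_quotient_span (x := algebraMap B (Localization.AtPrime P) x) ?_ ?_ ?_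
    · exact (IsLocalization.AtPrime.to_map_mem_maximal_iff (Localization.AtPrime P) P x).2 hx
    · exact IsLocalization.map_nonZeroDivisors_le P.primeCompl _
        ⟨x, FBlow13.affineAlgebra_nzd (f i), rfl⟩
    · haveI := cm_chart_quotient f i h
      have hle : Ideal.span {x} ≤ P := Ideal.span_le.2 (Set.singleton_subset_iff.2 hx)
      haveI : (P.map (Ideal.Quotient.mk (Ideal.span {x}))).IsPrime :=
        Ideal.map_isPrime_of_surjective Ideal.Quotient.mk_surjective (by rwa [Ideal.mk_ker])
      obtain ⟨e⟩ := Grass54.nonempty_quotientLocEquiv B P (Ideal.span {x}) _ rfl hle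
      refine CAlg1.cm_of_ringEquiv ((Ideal.quotEquivOfEq ?_).trans e).symm
        (LocCoh.IsCohenMacaulayRing.isCohenMacaulayLocalRing_localization _)
      rw [Ideal.map_span, Set.image_singleton]
  · let L := Localization.Away (f i)
    letI : Algebra B L := (BlowUp.affineAlgebra A (Ideal.span (Set.range f)) (f i)).val.toRingHom.toAlgebra
    haveI : IsScalarTower A B L := IsScalarTower.of_algebraMap_eq fun a => rfl
    haveI : IsLocalization.Away x L := by
      constructor
      refine ⟨?_, ?_, ?_⟩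
      · rintro ⟨_, n, rfl⟩
        rw [map_pow]
        exact (IsLocalization.Away.algebraMap_isUnit (S := L) (f i)).pow n
      · intro z
        obtain ⟨⟨a, ⟨_, n, rfl⟩⟩, ha⟩ := IsLocalization.surj (Submonoid.powers (f i)) z
        refine ⟨⟨algebraMap A B a, ⟨x ^ n, n, rfl⟩⟩, ?_⟩
        simpa [x, ← IsScalarTower.algebraMap_apply] using ha
      · intro y y' hy
        exact ⟨1, by rw [Subtype.ext hy]⟩
    obtain ⟨Q, hQ, hQP⟩ : ∃ Q : Ideal L, Q.IsPrime ∧ Q.under B = P := by
      refine ⟨P.map (algebraMap B L), ?_, ?_⟩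
      · exact IsLocalization.isPrime_of_isPrime_disjoint (Submonoid.powers x) L P inferInstance
          ((Ideal.disjoint_powers_iff_notMem x (Ideal.IsPrime.isRadical inferInstance)).2 hx)
      · exact IsLocalization.under_map_of_isPrime_disjoint (Submonoid.powers x) L inferInstance
          ((Ideal.disjoint_powers_iff_notMem x (Ideal.IsPrime.isRadical inferInstance)).2 hx)
    subst hQP
    haveI := hQ
    obtain ⟨e1⟩ := nonempty_locEquiv B L (Submonoid.powers x) Q
    obtain ⟨e2⟩ := nonempty_locEquiv A L (Submonoid.powers (f i)) Q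
    exact CAlg1.cm_of_ringEquiv (e2.trans e1.symm)
      (LocCoh.IsCohenMacaulayRing.isCohenMacaulayLocalRing_localization _)

theorem cmRing_chart [LocCoh.IsCohenMacaulayRing A] (h : IsWeaklyRegular A (List.ofFn f)) :
    LocCoh.IsCohenMacaulayRing ↥(BlowUp.affineAlgebra A (Ideal.span (Set.range f)) (f i)) :=
  haveI : IsNoetherianRing A := (inferInstance : LocCoh.IsCohenMacaulayRing A).toIsNoetherian
  haveI := FBlow13.affineAlgebra_finiteType (𝔞 := Ideal.span (Set.range f)) (f i) (IsNoetherian.noetherian _)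
  haveI : IsNoetherianRing ↥(BlowUp.affineAlgebra A (Ideal.span (Set.range f)) (f i)) :=
    Algebra.FiniteType.isNoetherianRing A _
  ⟨fun P _ => cm_chart f i h P⟩

end chart

/-- The sections of a Cohen-Macaulay scheme on an affine open form a Cohen-Macaulay ring. -/
theorem cmRing_sections {W : Scheme.{u}} [IsLocallyNoetherian W]
    (hcm : ∀ w : W, LocCoh.IsCohenMacaulayLocalRing (W.presheaf.stalk w)) (U : W.affineOpens) :
    LocCoh.IsCohenMacaulayRing Γ(W, U.1) := by
  haveI : IsNoetherianRing Γ(W, U.1) := IsLocallyNoetherian.component_noetherian U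
  refine ⟨fun p _ => ?_⟩
  obtain ⟨x, hx, rfl⟩ := Div89.exists_point U p
  letI : Algebra Γ(W, U.1) (W.presheaf.stalk x) := TopCat.Presheaf.algebra_section_stalk W.presheaf ⟨x, hx⟩
  haveI : IsLocalization.AtPrime (W.presheaf.stalk x) (Div89.primeAt U x hx) := U.2.isLocalization_stalk ⟨x, hx⟩
  exact CAlg1.cm_of_ringEquiv (IsLocalization.algEquiv (Div89.primeAt U x hx).primeCompl (W.presheaf.stalk x)
    (Localization.AtPrime (Div89.primeAt U x hx))).toRingEquiv (hcm x)

theorem cm_stalk_blowUp {W T : Scheme.{u}} [IsLocallyNoetherian W]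
    (hcm : ∀ w : W, LocCoh.IsCohenMacaulayLocalRing (W.presheaf.stalk w))
    (I : W.IdealSheafData) (hI : RegImm.IsRegularIdeal RegImm.Kind.regular I)
    (π : T ⟶ W) (hπ : BlowUp.IsBlowUp π I) (t : T) :
    LocCoh.IsCohenMacaulayLocalRing (T.presheaf.stalk t) := by
  obtain ⟨U, htU, rs, hrs, hIU⟩ : ∃ U : W.affineOpens, π t ∈ U.1 ∧
      ∃ rs : List Γ(W, U.1), IsWeaklyRegular Γ(W, U.1) rs ∧ I.ideal U = Ideal.ofList rs := by
    by_cases hs : π t ∈ I.support
    · obtain ⟨U, hU, rs, hrs, he⟩ := hI _ hs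
      exact ⟨U, hU, rs, hrs.toIsWeaklyRegular, he⟩
    · obtain ⟨U, hU, htU, hsub⟩ := exists_isAffineOpen_mem_and_subset (x := π t)
        (U := ⟨(I.support : Set W)ᶜ, I.support.2.isOpen_compl⟩) hs
      refine ⟨⟨U, hU⟩, htU, [1], (isWeaklyRegular_singleton_iff _ _).2 (fun a b hab => by simpa using hab), ?_⟩
      rw [Ideal.ofList_singleton, Ideal.span_singleton_one]
      by_contra hne
      obtain ⟨p, hp, hle⟩ := Ideal.exists_le_maximal _ hne
      haveI := hp.isPrime
      obtain ⟨z, hz, rfl⟩ := Div89.exists_point ⟨U, hU⟩ p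
      exact hsub hz ((Div89.mem_support_iff_le I ⟨U, hU⟩ z hz).2 hle)
  haveI := cmRing_sections hcm U
  let f : Fin rs.length → Γ(W, U.1) := rs.get
  have hf : List.ofFn f = rs := List.ofFn_get rs
  have hspan : I.ideal U = Ideal.span (Set.range f) := by
    rw [hIU, Ideal.ofList]
    congr 1
    exact (Set.range_list_get rs).symm
  have hb := RegImm10.BlowModel.isBlowUp_affine hπ (U := U.1) U.2
  rw [show I.ideal ⟨U.1, U.2⟩ = Ideal.span (Set.range f) from hspan] at hb
  set b := (π ∣_ U.1) ≫ U.2.isoSpec.hom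
  obtain ⟨i, hi⟩ := CAlg9.BlowReg.exists_mem_chartOpen_gen f b hb.1 ⟨t, htU⟩
  obtain ⟨e, -⟩ := FBlow13.exists_iso_chartOpen b hb (Ideal.subset_span (Set.mem_range_self i))
  let j := e.hom ≫ (FBlow13.chartOpen b (Ideal.span (Set.range f)) (f i)).ι ≫ (π ⁻¹ᵁ U.1).ι
  have hj : j (e.inv ⟨_, hi⟩) = t := by
    simp only [j, Scheme.Hom.comp_apply]
    rw [← Scheme.Hom.comp_apply e.inv e.hom, e.inv_hom_id]
    rfl
  have h1 := FlatMor66.cm_stalk_spec (R := CommRingCat.of ↥(BlowUp.affineAlgebra Γ(W, U.1)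
    (Ideal.span (Set.range f)) (f i))) (cmRing_chart f i (by rw [hf]; exact hrs)) (e.inv ⟨_, hi⟩)
  rw [← hj]
  exact CAlg1.cm_of_ringEquiv (asIso (j.stalkMap (e.inv ⟨_, hi⟩))).commRingCatIsoToRingEquiv.symm h1

end Groth.Agent.LC17.BlowCM
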