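import Groth.Agent.Cohen12.HilbertSamuel
import Groth.Agent.LA18.FrobLength
import Groth.Agent.LC17.HKBound
import Mathlib.Analysis.SpecificLimits.Basic
import Mathlib.Analysis.SpecificLimits.Normed
import Mathlib.RingTheory.Ideal.Operations

/-!
# Samuel polynomials of bounded degree
-/

set_option autoImplicit false

universe u

open IsLocalRing Filter Topology Polynomial

namespace Groth.Agent.LC17

/-- colength of a power of an ideal on a module -/
noncomputable def samuel {A : Type u} [CommRing A] (J : Ideal A) (M : Type u) [AddCommGroup M]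
    [Module A M] (n : ℕ) : ℕ :=
  (Module.length A (M ⧸ (J ^ n • (⊤ : Submodule A M)))).toNat

theorem tendsto_eval_div_pow {P : ℚ[X]} {d : ℕ} (hd : P.natDegree ≤ d) :
    Tendsto (fun n : ℕ => ((P.eval (n : ℚ) : ℚ) : ℝ) / (n : ℝ) ^ d) atTop (𝓝 ((P.coeff d : ℚ) : ℝ)) := by
  have hterm : ∀ i ∈ Finset.range (d + 1), Tendsto (fun n : ℕ => ((P.coeff i : ℚ) : ℝ) * (n : ℝ) ^ i / (n : ℝ) ^ d)
      atTop (𝓝 (if i = d then ((P.coeff i : ℚ) : ℝ) else 0)) := by
    intro i hi
    rw [Finset.mem_range] at hi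
    rcases eq_or_lt_of_le (Nat.le_of_lt_succ hi) with rfl | hlt
    · rw [if_pos rfl]
      refine tendsto_const_nhds.congr' (eventually_atTop.2 ⟨1, fun n hn => ?_⟩)
      show _ = _ * _ / _
      rw [mul_div_assoc, div_self (pow_ne_zero _ (by exact_mod_cast (by omega : n ≠ 0))), mul_one]
    · rw [if_neg hlt.ne]
      have h := ((tendsto_one_div_atTop_nhds_zero_nat (𝕜 := ℝ)).pow (d - i)).const_mul ((P.coeff i : ℚ) : ℝ)
      rw [zero_pow (by omega), mul_zero] at h
      refine h.congr' (eventually_atTop.2 ⟨1, fun n hn => ?_⟩)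
      have hn0 : (n : ℝ) ≠ 0 := by exact_mod_cast (by omega : n ≠ 0)
      show _ = _ * _ / (n : ℝ) ^ d
      rw [div_pow, one_pow, show (n : ℝ) ^ d = (n : ℝ) ^ i * (n : ℝ) ^ (d - i) by
        rw [← pow_add]; congr 1; omega]
      field_simp
  have h := tendsto_finsetSum _ hterm
  rw [Finset.sum_ite_eq' _ d, if_pos (by simp)] at h
  refine h.congr fun n => ?_
  rw [Polynomial.eval_eq_sum_range' (Nat.lt_succ_of_le hd), Rat.cast_sum, Finset.sum_div]
  exact Finset.sum_congr rfl fun i _ => by push_cast; ring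

variable {A : Type u} [CommRing A] [IsNoetherianRing A]

theorem samuel_length (J : Ideal A) (M : Type u) [AddCommGroup M] [Module A M] [Module.Finite A M]
    (h : IsFiniteLength A (M ⧸ (J • (⊤ : Submodule A M)))) (n : ℕ) :
    Module.length A (M ⧸ (J ^ n • (⊤ : Submodule A M))) = (samuel J M n : ℕ∞) :=
  (ENat.coe_toNat (Cohen12.HilbertSamuel.length_pow_ne_top J (Module.length_ne_top_iff.2 h) n)).symm

variable [IsLocalRing A]

theorem exists_samuel_poly {k : ℕ} (g : Fin k → A) (M : Type u) [AddCommGroup M] [Module A M]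
    [Module.Finite A M]
    (hfl : IsFiniteLength A (M ⧸ (Ideal.span (Set.range g) • (⊤ : Submodule A M)))) (d : ℕ)
    (hd : Module.supportDim A M ≤ (d : WithBot ℕ∞)) :
    ∃ (P : ℚ[X]) (N : ℕ), P.natDegree ≤ d ∧
      ∀ n, N ≤ n → (samuel (Ideal.span (Set.range g)) M n : ℚ) = P.eval (n : ℚ) := by
  obtain ⟨P, N, hP⟩ := Cohen12.HilbertSamuel.exists_polynomial_of_np
    (Cohen12.HilbertSamuel.np_length (M := M) _ (Module.length_ne_top_iff.2 hfl))
  obtain ⟨C, hC⟩ := LA18.length_quot_map_powers_le g M hfl d hd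
  have hP' : ∀ n, N ≤ n → (samuel (Ideal.span (Set.range g)) M n : ℚ) = P.eval (n : ℚ) := fun n hn => by
    rw [← hP n hn, Cohen12.HilbertSamuel.colen, samuel]
    push_cast
    rfl
  refine ⟨P, N, Cohen12.HilbertSamuel.natDegree_le_of_le_pow (L := C) (N := N + 1) (fun n hn => ?_) (fun n hn => ?_), hP'⟩
  · rw [← hP' n (by omega)]
    exact Nat.cast_nonneg _
  · rw [← hP' n (by omega)]
    have hle : Ideal.span (Set.range fun i => g i ^ n) ≤ Ideal.span (Set.range g) ^ n := by
      refine Ideal.span_le.2 ?_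
      rintro _ ⟨i, rfl⟩
      have hi : g i ∈ Ideal.span (Set.range g) := Ideal.subset_span ⟨i, rfl⟩
      exact Ideal.pow_mem_pow hi n
    have h1 : Module.length A (M ⧸ (Ideal.span (Set.range g) ^ n • (⊤ : Submodule A M))) ≤
        ((C * n ^ d : ℕ) : ℕ∞) :=
      le_trans (Module.length_le_of_surjective (Submodule.factor (Submodule.smul_mono hle le_rfl))
        (Submodule.factor_surjective _)) (hC n (by omega))
    rw [samuel_length _ _ hfl, Nat.cast_le] at h1
    exact_mod_cast h1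

theorem exists_tendsto_samuel {k : ℕ} (g : Fin k → A) (M : Type u) [AddCommGroup M] [Module A M]
    [Module.Finite A M]
    (hfl : IsFiniteLength A (M ⧸ (Ideal.span (Set.range g) • (⊤ : Submodule A M)))) (d : ℕ)
    (hd : Module.supportDim A M ≤ (d : WithBot ℕ∞)) :
    ∃ L : ℝ, ∀ r : ℕ, Tendsto (fun n : ℕ => (samuel (Ideal.span (Set.range g)) M (n + r) : ℝ) / (n : ℝ) ^ d)
      atTop (𝓝 L) := by
  obtain ⟨P, N, hdeg, hP⟩ := exists_samuel_poly g M hfl d hd
  refine ⟨((P.coeff d : ℚ) : ℝ), fun r => ?_⟩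
  have hdeg' : (P.comp (X + C (r : ℚ))).natDegree ≤ d :=
    natDegree_comp_le.trans (by rw [natDegree_X_add_C, mul_one]; exact hdeg)
  have hcoeff : (P.comp (X + C (r : ℚ))).coeff d = P.coeff d := by
    rcases eq_or_lt_of_le hdeg with heq | hlt
    · have h1 : (P.comp (X + C (r : ℚ))).natDegree = d := by
        rw [natDegree_comp, natDegree_X_add_C, mul_one, heq]
      have h2 : (P.comp (X + C (r : ℚ))).leadingCoeff = P.leadingCoeff := by
        rw [leadingCoeff_comp (by rw [natDegree_X_add_C]; exact one_ne_zero),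
          leadingCoeff_X_add_C, one_pow, mul_one]
      rwa [leadingCoeff, leadingCoeff, h1, heq] at h2
    · rw [coeff_eq_zero_of_natDegree_lt hlt, coeff_eq_zero_of_natDegree_lt]
      rw [natDegree_comp, natDegree_X_add_C, mul_one]
      exact hlt
  have h := tendsto_eval_div_pow hdeg'
  rw [hcoeff] at h
  refine h.congr' (eventually_atTop.2 ⟨N, fun n hn => ?_⟩)
  rw [eval_comp, eval_add, eval_X, eval_C, ← Nat.cast_add, ← hP (n + r) (by omega), Rat.cast_natCast]

omit [IsNoetherianRing A] [IsLocalRing A] in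
/-- One integral element gives a reduction. -/
theorem exists_reduction_step (K : Ideal A) (x : A) (n : ℕ) (hn : 0 < n) (c : Fin n → A)
    (hc : ∀ i : Fin n, c i ∈ K ^ ((i : ℕ) + 1))
    (hx : x ^ n + ∑ i : Fin n, c i * x ^ (n - 1 - (i : ℕ)) = 0) :
    (K ⊔ Ideal.span {x}) ^ n ≤ K * (K ⊔ Ideal.span {x}) ^ (n - 1) := by
  set L := K ⊔ Ideal.span {x}
  have hj : ∀ j, L ^ (j + 1) ≤ K * L ^ j ⊔ Ideal.span {x ^ (j + 1)} := by
    intro j
    induction j with
    | zero => simp [L]
    | succ j ih =>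
      rw [pow_succ' L (j + 1)]
      conv_lhs => rw [show L = K ⊔ Ideal.span {x} from rfl, Ideal.sup_mul]
      refine sup_le le_sup_left ((Ideal.mul_mono_right ih).trans ?_)
      rw [Ideal.mul_sup, Ideal.span_singleton_mul_span_singleton, ← pow_succ',
        ← mul_assoc, mul_comm (Ideal.span {x}) K, mul_assoc]
      refine sup_le_sup (Ideal.mul_mono_right ?_) le_rfl
      rw [pow_succ']
      exact Ideal.mul_mono_left le_sup_right
  obtain ⟨j, rfl⟩ : ∃ j, n = j + 1 := ⟨n - 1, by omega⟩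
  refine (hj j).trans (sup_le le_rfl ((Ideal.span_singleton_le_iff_mem _).2 ?_))
  rw [eq_neg_of_add_eq_zero_left hx]
  refine neg_mem (Ideal.sum_mem _ fun i _ => ?_)
  have h1 : c i * x ^ (j + 1 - 1 - (i : ℕ)) ∈ K ^ ((i : ℕ) + 1) * L ^ (j + 1 - 1 - (i : ℕ)) :=
    Ideal.mul_mem_mul (hc i) (Ideal.pow_mem_pow (Ideal.mem_sup_right (Ideal.mem_span_singleton_self x)) _)
  refine (le_trans ?_ le_rfl : K ^ ((i : ℕ) + 1) * L ^ (j + 1 - 1 - (i : ℕ)) ≤ K * L ^ (j + 1 - 1)) h1
  rw [pow_succ', mul_assoc]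
  refine Ideal.mul_mono_right ?_
  refine (Ideal.mul_mono_left (Ideal.pow_right_mono (le_sup_left : K ≤ L) _)).trans ?_
  rw [← pow_add]
  exact Ideal.pow_le_pow_right (by have := i.2; omega)

theorem exists_reduction (a b : Ideal A) (hba : b ≤ a)
    (hint : ∀ x ∈ a, ∃ n : ℕ, 0 < n ∧ ∃ c : Fin n → A,
      (∀ i : Fin n, c i ∈ b ^ ((i : ℕ) + 1)) ∧ x ^ n + ∑ i : Fin n, c i * x ^ (n - 1 - (i : ℕ)) = 0) :
    ∃ r : ℕ, a ^ (r + 1) ≤ b * a ^ r := by
  classical
  obtain ⟨G, hG⟩ := IsNoetherian.noetherian a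
  suffices ∀ s : Finset A, (s : Set A) ⊆ a →
      ∃ r : ℕ, (b ⊔ Ideal.span (s : Set A)) ^ (r + 1) ≤ b * (b ⊔ Ideal.span (s : Set A)) ^ r by
    obtain ⟨r, hr⟩ := this G (fun x hx => hG ▸ Submodule.subset_span hx)
    refine ⟨r, ?_⟩
    rw [show b ⊔ Ideal.span (G : Set A) = a from by
      rw [show Ideal.span (G : Set A) = a from hG]; exact sup_eq_right.2 hba] at hr
    exact hr
  intro s
  induction s using Finset.induction with
  | empty => exact fun _ => ⟨0, by simp⟩
  | insert x s _ ih =>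
    intro hs
    rw [Finset.coe_insert, Set.insert_subset_iff] at hs
    obtain ⟨r, hr⟩ := ih hs.2
    obtain ⟨n, hn, c, hc, hx⟩ := hint x hs.1
    set K := b ⊔ Ideal.span (s : Set A)
    have hL : b ⊔ Ideal.span ((insert x s : Finset A) : Set A) = K ⊔ Ideal.span {x} := by
      rw [Finset.coe_insert, Ideal.span_insert, sup_assoc, sup_comm (Ideal.span {x})]
    rw [hL]
    set L := K ⊔ Ideal.span {x}
    have h1 := exists_reduction_step K x n hn c (fun i => Ideal.pow_right_mono le_sup_left _ (hc i)) hx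
    obtain ⟨j, rfl⟩ : ∃ j, n = j + 1 := ⟨n - 1, by omega⟩
    rw [Nat.add_sub_cancel] at h1
    refine ⟨j + r, ?_⟩
    have h2 : ∀ t, L ^ (j + t) ≤ K ^ t * L ^ j := by
      intro t
      induction t with
      | zero => simp
      | succ t iht =>
        calc L ^ (j + (t + 1)) = L ^ (j + t) * L := by rw [← add_assoc, pow_succ]
          _ ≤ K ^ t * L ^ j * L := Ideal.mul_mono_left iht
          _ = K ^ t * L ^ (j + 1) := by rw [mul_assoc, ← pow_succ]
          _ ≤ K ^ t * (K * L ^ j) := Ideal.mul_mono_right h1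
          _ = K ^ (t + 1) * L ^ j := by rw [← mul_assoc, ← pow_succ]
    calc L ^ (j + r + 1) = L ^ (j + (r + 1)) := by rw [add_assoc]
      _ ≤ K ^ (r + 1) * L ^ j := h2 _
      _ ≤ b * K ^ r * L ^ j := Ideal.mul_mono_left hr
      _ ≤ b * (L ^ r * L ^ j) := by
        rw [mul_assoc]; exact Ideal.mul_mono_right (Ideal.mul_mono_left (Ideal.pow_right_mono le_sup_left r))
      _ = b * L ^ (j + r) := by rw [← pow_add, add_comm r j]

omit [IsNoetherianRing A] [IsLocalRing A] in
theorem pow_add_le_of_reduction {a b : Ideal A} {r : ℕ} (hr : a ^ (r + 1) ≤ b * a ^ r) (m : ℕ) :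
    a ^ (m + r) ≤ b ^ m := by
  suffices a ^ (m + r) ≤ b ^ m * a ^ r from this.trans Ideal.mul_le_left
  induction m with
  | zero => simp
  | succ m ih =>
    calc a ^ (m + 1 + r) = a ^ (m + r) * a := by rw [← pow_succ]; congr 1; omega
      _ ≤ b ^ m * a ^ r * a := Ideal.mul_mono_left ih
      _ = b ^ m * a ^ (r + 1) := by rw [mul_assoc, ← pow_succ]
      _ ≤ b ^ m * (b * a ^ r) := Ideal.mul_mono_right hr
      _ = b ^ (m + 1) * a ^ r := by rw [← mul_assoc, ← pow_succ]

end Groth.Agent.LC17
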