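import Groth.Agent.LC17.ConnDim
import Groth.Agent.LC17.SpecDim
import Mathlib.RingTheory.KrullDimension.Regular
import Mathlib.RingTheory.Ideal.MinimalPrime.Localization

/-!
# Dimensions of quotient rings
-/

set_option autoImplicit false

universe u

open IsLocalRing
open scoped Pointwise

namespace Groth.Agent.LC17

variable {R : Type u} [CommRing R]

theorem ringKrullDim_quotient_anti {I J : Ideal R} (h : I ≤ J) :
    ringKrullDim (R ⧸ J) ≤ ringKrullDim (R ⧸ I) :=
  ringKrullDim_le_of_surjective (Ideal.Quotient.factor h) (Ideal.Quotient.factor_surjective h)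

theorem exists_prime_ge_of_series {I : Ideal R} {k : ℕ} (h : (k : WithBot ℕ∞) ≤ ringKrullDim (R ⧸ I)) :
    ∃ p : Ideal R, p.IsPrime ∧ I ≤ p ∧ (k : WithBot ℕ∞) ≤ ringKrullDim (R ⧸ p) := by
  rw [ringKrullDim_quotient] at h
  obtain ⟨l, hl⟩ := Order.le_krullDim_iff.1 h
  refine ⟨l.head.1.asIdeal, l.head.1.isPrime, l.head.2, ?_⟩
  rw [ringKrullDim_quotient, Order.le_krullDim_iff]
  exact ⟨⟨l.length, fun i => ⟨(l i).1, (LTSeries.head_le l i : l.head ≤ l i)⟩,
    fun i => l.step i⟩, hl⟩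

theorem ringKrullDim_quotient_le_iff {I : Ideal R} {d : ℕ} :
    ringKrullDim (R ⧸ I) ≤ (d : WithBot ℕ∞) ↔
      ∀ p : Ideal R, p.IsPrime → I ≤ p → ringKrullDim (R ⧸ p) ≤ (d : WithBot ℕ∞) := by
  refine ⟨fun h p _ hp => (ringKrullDim_quotient_anti hp).trans h, fun h => ?_⟩
  by_contra hc
  rw [not_le] at hc
  have h1 : ((d + 1 : ℕ) : WithBot ℕ∞) ≤ ringKrullDim (R ⧸ I) := by
    cases hx : ringKrullDim (R ⧸ I) with
    | bot => rw [hx] at hc; exact absurd hc not_lt_bot
    | coe v =>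
      rw [hx] at hc
      cases v with
      | top => exact WithBot.coe_le_coe.2 le_top
      | coe k =>
        have : d < k := by exact_mod_cast hc
        exact_mod_cast (show d + 1 ≤ k by omega)
  obtain ⟨p, hp, hIp, hd⟩ := exists_prime_ge_of_series h1
  have := hd.trans (h p hp hIp)
  have : d + 1 ≤ d := by exact_mod_cast this
  omega

theorem ringKrullDim_quotient_radical (I : Ideal R) :
    ringKrullDim (R ⧸ I.radical) = ringKrullDim (R ⧸ I) := by
  rw [ringKrullDim_quotient, ringKrullDim_quotient, PrimeSpectrum.zeroLocus_radical]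

theorem ringKrullDim_quotient_inf_le {I J : Ideal R} {d : ℕ}
    (hI : ringKrullDim (R ⧸ I) ≤ (d : WithBot ℕ∞)) (hJ : ringKrullDim (R ⧸ J) ≤ (d : WithBot ℕ∞)) :
    ringKrullDim (R ⧸ (I ⊓ J)) ≤ (d : WithBot ℕ∞) :=
  ringKrullDim_quotient_le_iff.2 fun p hp h => ((hp.inf_le).1 h).elim
    (fun h => ringKrullDim_quotient_le_iff.1 hI p hp h) (fun h => ringKrullDim_quotient_le_iff.1 hJ p hp h)

theorem ringKrullDim_quotient_finsetInf_le {ι : Type*} {s : Finset ι} {I : ι → Ideal R} {d : ℕ}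
    (h : ∀ i ∈ s, ringKrullDim (R ⧸ I i) ≤ (d : WithBot ℕ∞)) :
    ringKrullDim (R ⧸ s.inf I) ≤ (d : WithBot ℕ∞) :=
  ringKrullDim_quotient_le_iff.2 fun p hp hle => by
    obtain ⟨i, hi, hip⟩ := (hp.inf_le').1 hle
    exact ringKrullDim_quotient_le_iff.1 (h i hi) p hp hip

theorem ringKrullDim_quotient_add_one_le {q p : Ideal R} [q.IsPrime] [p.IsPrime] (h : q < p) :
    ringKrullDim (R ⧸ p) + 1 ≤ ringKrullDim (R ⧸ q) := by
  rw [ringKrullDim_quotient, ringKrullDim_quotient]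
  cases h' : Order.krullDim ↥(PrimeSpectrum.zeroLocus (p : Set R)) with
  | bot => simp
  | coe v =>
    cases v with
    | top =>
      have : Order.krullDim ↥(PrimeSpectrum.zeroLocus (q : Set R)) = ⊤ := by
        refine top_le_iff.1 ((le_of_eq h'.symm).trans ?_)
        exact Order.krullDim_le_of_strictMono (fun x => ⟨x.1, fun a ha => x.2 (h.le ha)⟩) fun a b hab => hab
      rw [this]
      rfl
    | coe n =>
      obtain ⟨l, hl⟩ := Order.le_krullDim_iff.1 (le_of_eq h'.symm :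
        ((n : ℕ) : WithBot ℕ∞) ≤ Order.krullDim ↥(PrimeSpectrum.zeroLocus (p : Set R)))
      let f : ↥(PrimeSpectrum.zeroLocus (p : Set R)) → ↥(PrimeSpectrum.zeroLocus (q : Set R)) :=
        fun x => ⟨x.1, fun a ha => x.2 (h.le ha)⟩
      let l' := (l.map f fun a b hab => hab).cons ⟨⟨q, inferInstance⟩, fun _ ha => ha⟩
        (show q < l.head.1.asIdeal from lt_of_lt_of_le h l.head.2)
      have := Order.LTSeries.length_le_krullDim l'
      have hlen : l'.length = n + 1 := by simp [l', hl]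
      rw [hlen] at this
      exact_mod_cast this

variable [IsNoetherianRing R] [IsLocalRing R]

theorem exists_ringKrullDim_quotient_eq {I : Ideal R} (hI : I ≠ ⊤) :
    ∃ d : ℕ, ringKrullDim (R ⧸ I) = (d : WithBot ℕ∞) := by
  haveI : Nontrivial (R ⧸ I) := Ideal.Quotient.nontrivial_iff.2 hI
  haveI : IsLocalRing (R ⧸ I) := IsLocalRing.of_surjective' (Ideal.Quotient.mk I) Ideal.Quotient.mk_surjective
  have h1 : ringKrullDim (R ⧸ I) ≠ ⊥ := ringKrullDim_ne_bot
  have h2 : ringKrullDim (R ⧸ I) ≠ ⊤ := ringKrullDim_ne_top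
  cases h : ringKrullDim (R ⧸ I) with
  | bot => exact absurd h h1
  | coe v =>
    cases v with
    | top => exact absurd h h2
    | coe n => exact ⟨n, rfl⟩

theorem ringKrullDim_quotient_le_succ {I : Ideal R} (hI : I ≠ ⊤) {y : R} (hy : y ∈ maximalIdeal R) :
    ringKrullDim (R ⧸ I) ≤ ringKrullDim (R ⧸ (I ⊔ Ideal.span {y})) + 1 := by
  haveI : Nontrivial (R ⧸ I) := Ideal.Quotient.nontrivial_iff.2 hI
  haveI : IsLocalRing (R ⧸ I) := IsLocalRing.of_surjective' (Ideal.Quotient.mk I) Ideal.Quotient.mk_surjective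
  have hy' : Ideal.Quotient.mk I y ∈ maximalIdeal (R ⧸ I) := by
    intro hu
    obtain ⟨z, hz⟩ := hu.exists_right_inv
    obtain ⟨z, rfl⟩ := Ideal.Quotient.mk_surjective z
    have h1 : y * z - 1 ∈ maximalIdeal R := le_maximalIdeal hI (Ideal.Quotient.eq.mp hz)
    have := sub_mem (Ideal.mul_mem_right z _ hy) h1
    rw [sub_sub_cancel] at this
    exact (mem_maximalIdeal _).mp this isUnit_one
  refine (ringKrullDim_le_ringKrullDim_quotSMulTop_succ hy').trans (le_of_eq ?_)
  congr 1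
  have e : (Ideal.Quotient.mk I y) • (⊤ : Ideal (R ⧸ I)) =
      (Ideal.span {y}).map (Ideal.Quotient.mk I) := by
    rw [Ideal.map_span, Set.image_singleton]
    ext z
    rw [Submodule.mem_smul_pointwise_iff_exists, Ideal.mem_span_singleton']
    simp [mul_comm, eq_comm]
  exact ringKrullDim_eq_of_ringEquiv ((Ideal.quotEquivOfEq e).trans
    (DoubleQuot.quotQuotEquivQuotSup I (Ideal.span {y})))

theorem exists_mem_ringKrullDim_quotient_le {J : Ideal R} {δ : ℕ}
    (h : ringKrullDim (R ⧸ J) ≤ ((δ + 1 : ℕ) : WithBot ℕ∞)) :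
    ∃ y ∈ maximalIdeal R, ringKrullDim (R ⧸ (J ⊔ Ideal.span {y})) ≤ (δ : WithBot ℕ∞) := by
  classical
  have hfin := J.finite_minimalPrimes_of_isNoetherianRing R
  let s := hfin.toFinset.filter (· ≠ maximalIdeal R)
  obtain ⟨y, hy, hys⟩ : ∃ y ∈ maximalIdeal R, ∀ p ∈ s, y ∉ p := by
    by_contra hcon
    push Not at hcon
    have hsub : ((maximalIdeal R : Ideal R) : Set R) ⊆ ⋃ p ∈ (↑s : Set (Ideal R)), ((p : Ideal R) : Set R) :=
      fun a ha => by
        obtain ⟨p, hp, hap⟩ := hcon a ha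
        exact Set.mem_biUnion hp hap
    obtain ⟨p, hp, hle⟩ := (Ideal.subset_union_prime (R := R) ⊥ ⊥ fun p hp _ _ =>
      (hfin.mem_toFinset.1 (Finset.mem_filter.1 hp).1).1.1).1 hsub
    exact (Finset.mem_filter.1 hp).2 (((maximalIdeal.isMaximal R).eq_of_le
      (hfin.mem_toFinset.1 (Finset.mem_filter.1 hp).1).1.1.ne_top hle).symm)
  refine ⟨y, hy, ringKrullDim_quotient_le_iff.2 fun Q hQ hle => ?_⟩
  obtain ⟨P, hP, hPQ⟩ := Ideal.exists_minimalPrimes_le (le_sup_left.trans hle)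
  haveI := hP.1.1
  haveI := hQ
  by_cases hPm : P = maximalIdeal R
  · have hQm : Q = maximalIdeal R := le_antisymm (le_maximalIdeal hQ.ne_top) (hPm ▸ hPQ)
    subst hQm
    rw [ringKrullDim_eq_zero_of_isField ((Ideal.Quotient.maximal_ideal_iff_isField_quotient _).1 (maximalIdeal.isMaximal R))]
    exact_mod_cast Nat.zero_le δ
  · have hlt : P < Q := lt_of_le_of_ne hPQ fun e => by
      refine hys P (Finset.mem_filter.2 ⟨hfin.mem_toFinset.2 hP, hPm⟩) ?_
      rw [e]
      exact hle (Ideal.mem_sup_right (Ideal.mem_span_singleton_self y))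
    obtain ⟨q, hq⟩ := exists_ringKrullDim_quotient_eq (I := Q) hQ.ne_top
    have h1 := (ringKrullDim_quotient_add_one_le hlt).trans (ringKrullDim_quotient_le_iff.1 h P hP.1.1 hP.1.2)
    rw [hq] at h1 ⊢
    have : q + 1 ≤ δ + 1 := by exact_mod_cast h1
    exact_mod_cast (show q ≤ δ by omega)

end Groth.Agent.LC17
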