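import Groth.Agent.LC17.GorExt
import Groth.Agent.LC17.GorAnn
import Groth.Agent.LC15.DepthSeq
import Groth.Agent.Gor18.Regular

/-!
# The canonical module of a Cohen–Macaulay domain as an ideal
-/

set_option autoImplicit false

universe u

open IsLocalRing CategoryTheory Opposite Groth.Agent.LC15 Groth.Agent.LC16

namespace Groth.Agent.LC17.CanonIdeal

theorem exists_linearMap_injective {A : Type u} [CommRing A] [IsDomain A] {K : Type u} [AddCommGroup K]
    [Module A K] [Module.Finite A K] {F : Type u} [CommRing F] [Algebra A F]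
    [IsLocalization (nonZeroDivisors A) F] (ψ : K →ₗ[A] F) (hψ : Function.Injective ψ) :
    ∃ φ : K →ₗ[A] A, Function.Injective φ := by
  classical
  obtain ⟨s, hs⟩ := Module.Finite.fg_top (R := A) (M := K)
  obtain ⟨b, hb⟩ := IsLocalization.exist_integer_multiples_of_finset (nonZeroDivisors A) (s.image ψ)
  have hinj : Function.Injective (algebraMap A F) := IsLocalization.injective F le_rfl
  have hsub : ∀ x : K, (b : A) • ψ x ∈ LinearMap.range (Algebra.linearMap A F) := fun x => by
    have hle : (⊤ : Submodule A K) ≤ (LinearMap.range (Algebra.linearMap A F)).comap ((b : A) • ψ) := by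
      rw [← hs, Submodule.span_le]
      intro y hy
      obtain ⟨c, hc⟩ := hb (ψ y) (Finset.mem_image_of_mem ψ hy)
      exact ⟨c, hc⟩
    exact hle (Submodule.mem_top : x ∈ _)
  choose c hc using hsub
  refine ⟨{ toFun := c
            map_add' := fun x y => hinj ?_
            map_smul' := fun r x => hinj ?_ }, fun x y h => hψ ?_⟩
  · have e := hc (x + y)
    rw [map_add ψ, smul_add, ← hc x, ← hc y] at e
    rw [map_add]
    exact e
  · have e := hc (r • x)
    rw [map_smul ψ, smul_comm, ← hc x] at e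
    simp only [Algebra.linearMap_apply, Algebra.smul_def] at e
    rw [RingHom.id_apply, smul_eq_mul, map_mul]
    exact e
  · have h : c x = c y := h
    have h1 : (b : A) • ψ x = (b : A) • ψ y := by rw [← hc x, ← hc y, h]
    rw [Algebra.smul_def, Algebra.smul_def] at h1
    exact (IsLocalization.map_units F b).mul_right_inj.1 h1

variable {B A : Type u} [CommRing B] [LocCoh.IsGorensteinLocalRing B] [CommRing A] [Algebra B A]
  [IsDomain A] [LocCoh.IsCohenMacaulayLocalRing A]

theorem ringKrullDim_add_one_le_of_ne_bot {q : Ideal A} [q.IsPrime] (hq : q ≠ ⊥) :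
    ringKrullDim (A ⧸ q) + 1 ≤ ringKrullDim A := by
  have := ringKrullDim_quotient_add_one_le (q := (⊥ : Ideal A)) (bot_lt_iff_ne_bot.2 hq)
  rwa [ringKrullDim_eq_of_ringEquiv (RingEquiv.quotientBot A)] at this

theorem height_eq_one_of_assoc {n : ℕ} (hn : ringKrullDim A = n) (I : Ideal A) (hI0 : I ≠ ⊥) (hI : I ≠ ⊤)
    (hdep : (n : ℕ∞) ≤ LocCoh.depth A I) :
    ∀ q ∈ associatedPrimes A (A ⧸ I), q.height = 1 := by
  haveI : Nontrivial (A ⧸ I) := Ideal.Quotient.nontrivial_iff.2 hI
  obtain ⟨e, he⟩ := exists_ringKrullDim_quotient_eq hI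
  have h1 : e + 1 ≤ n := by
    obtain ⟨q, hq, hIq, hqe⟩ := exists_prime_ge_of_series (I := I) (k := e) he.ge
    haveI := hq
    have h2 := (add_le_add_left hqe 1).trans (ringKrullDim_add_one_le_of_ne_bot
      (q := q) fun hq0 => hI0 (le_bot_iff.1 (hq0 ▸ hIq)))
    rw [hn] at h2
    exact_mod_cast h2
  have hA : (n : ℕ∞) ≤ LocCoh.depth A A := by
    have := LocCoh.IsCohenMacaulayLocalRing.supportDim_eq_depth (R := A)
    rw [Module.supportDim_self_eq_ringKrullDim, hn] at this
    exact WithBot.coe_le_coe.1 this.le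
  have hd : ((n - 1 : ℕ) : ℕ∞) ≤ LocCoh.depth A (A ⧸ I) := by
    refine le_trans ?_ (idealDepth_shortExact (maximalIdeal A) (f := I.subtype) (g := I.mkQ)
      Subtype.val_injective (Submodule.mkQ_surjective _) (LinearMap.exact_subtype_mkQ I)).2.1
    refine le_min ((Nat.cast_le.2 (Nat.sub_le n 1)).trans hA) ?_
    rw [ENat.coe_sub, Nat.cast_one]
    exact tsub_le_tsub_right hdep 1
  have hsd : Module.supportDim A (A ⧸ I) = e := by
    rw [Module.supportDim_quotient_eq_ringKrullDim]
    exact he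
  have hle := EGA4Alg4.depth_le_supportDim (A := A) (M := A ⧸ I)
  rw [hsd] at hle
  have hne : n - 1 ≤ e := by exact_mod_cast (WithBot.coe_le_coe.2 hd).trans hle
  have hCM : LocCoh.IsCohenMacaulayModule A (A ⧸ I) := le_antisymm (by
    rw [hsd]
    refine le_trans ?_ (WithBot.coe_le_coe.2 hd)
    exact_mod_cast (show e ≤ n - 1 by omega)) (EGA4Alg4.depth_le_supportDim (A := A) (M := A ⧸ I))
  intro q hq
  haveI := hq.isPrime
  have h2 := EGA4Alg4.ringKrullDim_quotient_assoc hCM hq
  rw [hsd] at h2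
  obtain ⟨h, hh⟩ := ENat.ne_top_iff_exists.1 (Ideal.height_ne_top hq.isPrime.ne_top)
  have h3 := LC16.CanonLocal.height_add_dim_quotient q hn (h := h) (by
    rw [IsLocalization.AtPrime.ringKrullDim_eq_height q (Localization.AtPrime q), ← hh]; rfl) h2
  rw [← hh]
  exact_mod_cast (show h = 1 by omega)

theorem torsion_free {n : ℕ} (hn : ringKrullDim A = n) {K : Type u} [AddCommGroup K] [Module A K]
    [Module.Finite A K] (hs : Module.supportDim A K = n) (hCM : LocCoh.IsCohenMacaulayModule A K)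
    {a : A} (ha : a ≠ 0) {x : K} (hx : a • x = 0) : x = 0 := by
  by_contra hx0
  have hmem : a ∈ ⋃ q ∈ associatedPrimes A K, (q : Set A) := by
    rw [biUnion_associatedPrimes_eq_zero_divisors A K]
    exact ⟨x, hx0, hx⟩
  obtain ⟨q, hq, haq⟩ := Set.mem_iUnion₂.1 hmem
  haveI := hq.isPrime
  have h1 := ringKrullDim_add_one_le_of_ne_bot (q := q) fun e => ha (by simpa [e] using haq)
  rw [EGA4Alg4.ringKrullDim_quotient_assoc hCM hq, hs, hn] at h1
  have : n + 1 ≤ n := by exact_mod_cast h1
  omega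

theorem main (hg : Function.Surjective (algebraMap B A)) (r : ℕ)
    (hr : (RingHom.ker (algebraMap B A)).height = r) :
    Nonempty (((Ext B (ModuleCat.{u} B) r).obj (op (ModuleCat.of B A))).obj (ModuleCat.of B B) ≃ₗ[B] A) ∨
    ∃ I : Ideal A, I ≠ ⊤ ∧ (∀ q ∈ associatedPrimes A (A ⧸ I), q.height = 1) ∧
      Nonempty (((Ext B (ModuleCat.{u} B) r).obj (op (ModuleCat.of B A))).obj (ModuleCat.of B B) ≃ₗ[B] I) := by
  have := Gor18.gor_cm B
  obtain ⟨N, hN⟩ := Gor18.gor_cm.exists_ringKrullDim_eq_nat B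
  obtain ⟨n, hn⟩ := Gor18.gor_cm.exists_ringKrullDim_eq_nat A
  have hrn : r + n = N := GorExt.height_add_eq (RingHom.ker (algebraMap B A)) hr
    ((ringKrullDim_eq_of_ringEquiv (RingHom.quotientKerEquivOfSurjective hg)).trans hn) hN
  obtain ⟨iM, hT, hfin⟩ := CanonExists.exists_module hg r
  let K := CanonDual.EK (R := B) B A r
  obtain ⟨E, _, _, f, hf⟩ := InjHull18.exists_hull A (ResidueField A)
  obtain ⟨eK⟩ := CanonExists.exists_dual hg hN hrn (LinearEquiv.refl B K) hf
  haveI := CanonDual.nontrivial_of_dual hn eK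
  have hs := CanonDual.supportDim_eq hn hf eK
  have hCM := CanonDual.isCohenMacaulayModule hn hf eK
  have htf : ∀ {a : A}, a ≠ 0 → ∀ {x : K}, a • x = 0 → x = 0 := fun ha _ hx =>
    torsion_free hn hs hCM ha hx
  -- the generic point
  haveI hp0 : (⊥ : Ideal A).IsPrime := Ideal.isPrime_bot
  haveI hloc : IsLocalization (nonZeroDivisors A) (Localization.AtPrime (⊥ : Ideal A)) := by
    have e : (⊥ : Ideal A).primeCompl = nonZeroDivisors A := by
      ext x; simp [Ideal.primeCompl, mem_nonZeroDivisors_iff_ne_zero]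
    rw [← e]; infer_instance
  have hinjK : Function.Injective (LocalizedModule.mkLinearMap (⊥ : Ideal A).primeCompl K) :=
    (injective_iff_map_eq_zero _).2 fun x hx => by
      obtain ⟨s, hs'⟩ := (IsLocalizedModule.eq_zero_iff (⊥ : Ideal A).primeCompl _).1 hx
      exact htf (fun e => s.2 (by simp [e])) hs'
  haveI : Nontrivial (LocalizedModule (⊥ : Ideal A).primeCompl K) := hinjK.nontrivial
  have hF0 : ringKrullDim (Localization.AtPrime (⊥ : Ideal A)) = (0 : ℕ) := by
    rw [IsLocalization.AtPrime.ringKrullDim_eq_height (⊥ : Ideal A), Ideal.height_bot]; rfl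
  haveI : IsDomain (Localization.AtPrime (⊥ : Ideal A)) :=
    IsLocalization.isDomain_of_le_nonZeroDivisors _ (show (⊥ : Ideal A).primeCompl ≤ nonZeroDivisors A from
      fun x hx => mem_nonZeroDivisors_iff_ne_zero.2 fun e => hx (by simp [e]))
  haveI : IsRegularLocalRing (Localization.AtPrime (⊥ : Ideal A)) := by
    haveI : IsFractionRing A (Localization.AtPrime (⊥ : Ideal A)) := hloc
    letI := IsFractionRing.toField A (K := Localization.AtPrime (⊥ : Ideal A))
    infer_instance
  haveI := Gor18.regular_gor (Localization.AtPrime (⊥ : Ideal A))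
  obtain ⟨f₀, hf₀⟩ := Gor18.exists_hull_H (Localization.AtPrime (⊥ : Ideal A)) 0 hF0
  obtain ⟨eL⟩ := CanonLocal.exists_dual_localization hg hN hn hrn (LinearEquiv.refl B K)
    (⊥ : Ideal A) inferInstance 0 hF0 _ f₀ hf₀
  obtain ⟨e₁⟩ := MatlisBasic.nonempty_equiv_of_dual hf₀
    (eL ≪≫ₗ (LinearMap.ringLmapEquivSelf (Localization.AtPrime (⊥ : Ideal A))
      (Localization.AtPrime (⊥ : Ideal A)) _).symm)
  obtain ⟨φ, hφ⟩ : ∃ φ : K →ₗ[A] A, Function.Injective φ := by
    have hi : ∀ x y, e₁ x = e₁ y → x = y := fun x y h => e₁.injective h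
    first
    | exact exists_linearMap_injective
        ((e₁.toLinearMap.restrictScalars A) ∘ₗ LocalizedModule.mkLinearMap _ K)
        (e₁.injective.comp hinjK)
    | exact exists_linearMap_injective
        ((e₁.symm.toLinearMap.restrictScalars A) ∘ₗ LocalizedModule.mkLinearMap _ K)
        (e₁.symm.injective.comp hinjK)
  let eI : K ≃ₗ[A] LinearMap.range φ := LinearEquiv.ofInjective φ hφ
  let eX := LC15.extEquiv (ModuleCat.of B A) (ModuleCat.of B B) r ≪≫ₗ eI.restrictScalars B
  by_cases htop : (LinearMap.range φ : Ideal A) = ⊤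
  · exact Or.inl ⟨eX ≪≫ₗ (LinearEquiv.ofTop _ htop).restrictScalars B⟩
  · refine Or.inr ⟨LinearMap.range φ, htop, height_eq_one_of_assoc hn _ (fun e => ?_) htop ?_, ⟨eX⟩⟩
    · obtain ⟨x, hx⟩ := exists_ne (0 : K)
      have h0 : φ x ∈ (⊥ : Ideal A) := e ▸ LinearMap.mem_range_self φ x
      exact hx (hφ ((Ideal.mem_bot.1 h0).trans (map_zero φ).symm))
    · refine (LC17.natCast_le_idealDepth_iff (maximalIdeal A) _ n).2 fun i hi => ?_
      haveI := (LC17.natCast_le_idealDepth_iff (maximalIdeal A) K n).1 (CanonDual.le_depth hn hf eK) i hi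
      exact (LC15.Hequiv (maximalIdeal A) i eI).symm.toEquiv.subsingleton

end Groth.Agent.LC17.CanonIdeal
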