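import Groth.Agent.LC17.HLVT
import Groth.Agent.LC17.IDepth
import Groth.Agent.LC15.TopCoh
import Groth.Agent.LC15.NonVanish
import Groth.Agent.LC15.Artin
import Groth.Agent.InjHull18.Matlis
import Mathlib.RingTheory.Ideal.AssociatedPrime.Basic

/-!
# Coassociated primes of the top local cohomology module
-/

set_option autoImplicit false

universe u

open IsLocalRing Groth.Agent.LC15 Groth.Agent.LC16

namespace Groth.Agent.LC17.CoAss

variable {R : Type u} [CommRing R] [IsNoetherianRing R] [IsLocalRing R] (I : Ideal R) (n : ℕ)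

theorem coheightLT_of_dim {W : Type u} [AddCommGroup W] [Module R W]
    (hW : ∀ q ∈ Module.support R W, ringKrullDim (R ⧸ q.asIdeal) ≤ (n : WithBot ℕ∞)) :
    CoheightLT R W (n + 1) := by
  intro q hq
  have h := hW q hq
  rw [← coheight_eq_dim_quotient] at h
  have h' : Order.coheight q ≤ (n : ℕ∞) := WithBot.coe_le_coe.1 h
  exact lt_of_le_of_lt h' (by exact_mod_cast Nat.lt_succ_self n)

theorem exists_top_prime [IsAdicComplete (maximalIdeal R) R] (W : Type u) [AddCommGroup W] [Module R W]
    [Module.Finite R W] (hW : ∀ q ∈ Module.support R W, ringKrullDim (R ⧸ q.asIdeal) ≤ (n : WithBot ℕ∞))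
    (h : ¬ Subsingleton (LocCoh.H I n W)) :
    ∃ q ∈ Module.support R W, ringKrullDim (R ⧸ q.asIdeal) = n ∧
      (I ⊔ q.asIdeal).radical = maximalIdeal R := by
  classical
  have hI : I ≠ ⊤ := fun e => h (subsingleton_H_of_smul_top I (by rw [e]; simp) n)
  by_contra hne
  refine h ?_
  have key : ∀ (V : Type u) [AddCommGroup V] [Module R V] [Module.Finite R V],
      Module.support R V ⊆ Module.support R W → Subsingleton (LocCoh.H I n V) := by
    intro V _ _ _
    refine IsNoetherianRing.induction_on_isQuotientEquivQuotientPrime (A := R) (M := V) inferInstance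
      (motive := fun V _ _ _ => Module.support R V ⊆ Module.support R W →
        Subsingleton (LocCoh.H I n V)) ?_ ?_ ?_
    · intro V _ _ _ _ _; exact subsingleton_H_of_subsingleton I n
    · intro V _ _ _ q e hsub
      have hq : q ∈ Module.support R W :=
        hsub (by rw [LinearEquiv.support_eq e, mem_support_quot_ideal])
      have : Subsingleton (LocCoh.H I n (R ⧸ q.asIdeal)) := by
        rcases (hW q hq).lt_or_eq with hlt | heq
        · refine subsingleton_H_of_coheightLT (I := I) n (fun r hr => ?_) n le_rfl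
          rw [mem_support_quot_ideal] at hr
          rw [← coheight_eq_dim_quotient] at hlt
          exact lt_of_le_of_lt (Order.coheight_anti (show q ≤ r from hr)) (WithBot.coe_lt_coe.1 hlt)
        · haveI := q.isPrime
          haveI := isLocalRing_quotient q.asIdeal
          haveI := Cohen12.isAdicComplete_quotient q.asIdeal
          have hne' : I ⊔ q.asIdeal ≠ ⊤ := fun e' => (maximalIdeal.isMaximal R).ne_top
            (top_le_iff.1 (e' ▸ sup_le (le_maximalIdeal hI) (le_maximalIdeal q.isPrime.ne_top)))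
          have hpos : 0 < ringKrullDim ((R ⧸ q.asIdeal) ⧸ I.map (Ideal.Quotient.mk q.asIdeal)) := by
            rw [ringKrullDim_map_mk]
            obtain ⟨d, hd⟩ := exists_ringKrullDim_quotient_eq hne'
            rw [hd]
            rcases Nat.eq_zero_or_pos d with rfl | hd0
            · exact absurd ⟨q, hq, heq, le_antisymm ((Ideal.IsPrime.radical_le_iff inferInstance).2
                (le_maximalIdeal hne')) (maximalIdeal_le_radical_of_dim_le_zero hd.le)⟩ hne
            · exact_mod_cast hd0
          haveI := subsingleton_H_top_of_domain n heq (I.map (Ideal.Quotient.mk q.asIdeal)) hpos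
            (R ⧸ q.asIdeal) n le_rfl
          obtain ⟨φ, -⟩ := LC16.ChangeRings.exists_equiv (R' := R ⧸ q.asIdeal) I n (R ⧸ q.asIdeal)
          exact φ.symm.toEquiv.subsingleton
      exact (Hequiv I n e).toEquiv.subsingleton_congr.2 this
    · intro A _ _ _ B _ _ _ D _ _ _ f g hf hg hfg hA hD hB
      exact subsingleton_H_middle I n hf hfg hg
        (hA ((Module.support_subset_of_injective f hf).trans hB))
        (hD ((Module.support_subset_of_surjective g hg).trans hB))
  exact key W subset_rfl

variable {M : Type u} [AddCommGroup M] [Module R M] [Module.Finite R M]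

theorem dim_le_of_mem_support (hn : Module.supportDim R M = n) :
    ∀ q ∈ Module.support R M, ringKrullDim (R ⧸ q.asIdeal) ≤ (n : WithBot ℕ∞) := fun q hq =>
  hn ▸ EGA4Alg4.ringKrullDim_quotient_le_supportDim (p := q) hq

omit [IsLocalRing R] in
theorem exists_equiv_quot_smul (q : Ideal R) (M : Type u) [AddCommGroup M] [Module R M] [Module.Finite R M]
    (hM : CoheightLT R M (n + 1)) :
    (∀ y : LocCoh.H I n M, LC15.Hmap I n (q • (⊤ : Submodule R M)).mkQ y = 0 ↔
      y ∈ q • (⊤ : Submodule R (LocCoh.H I n M))) ∧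
    Function.Surjective (LC15.Hmap I n (q • (⊤ : Submodule R M)).mkQ) := by
  classical
  set N := (q • (⊤ : Submodule R M))
  have hex : Function.Exact N.subtype N.mkQ := LinearMap.exact_subtype_mkQ N
  have hN : CoheightLT R N (n + 1) := coheightLT_of_injective _ N.injective_subtype hM
  refine ⟨fun y => ⟨fun hy => ?_, fun hy => ?_⟩, fun z => ?_⟩
  · obtain ⟨z, rfl⟩ := (H_exact₂ I n N.injective_subtype hex (Submodule.mkQ_surjective _) y).1 hy
    obtain ⟨s, hs⟩ := (IsNoetherian.noetherian q : q.FG)
    let ψ : (s → M) →ₗ[R] N := LinearMap.codRestrict N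
      (∑ a : s, (a : R) • LinearMap.proj a) fun v => by
      rw [LinearMap.sum_apply]
      exact Submodule.sum_mem _ fun a _ =>
        Submodule.smul_mem_smul (hs ▸ Submodule.subset_span a.2) Submodule.mem_top
    have hψ : Function.Surjective ψ := by
      rintro ⟨x, hx⟩
      have key : N ≤ Submodule.map N.subtype (LinearMap.range ψ) := by
        refine Submodule.smul_le.2 fun a ha m _ => ?_
        have ha' : a ∈ Submodule.span R (s : Set R) := hs.ge ha
        clear ha
        induction ha' using Submodule.span_induction with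
        | mem b hb =>
          refine ⟨ψ (Pi.single ⟨b, hb⟩ m), LinearMap.mem_range_self _ _, ?_⟩
          show (∑ a : s, (a : R) • LinearMap.proj (R := R) (φ := fun _ : s => M) a) (Pi.single ⟨b, hb⟩ m) = b • m
          rw [LinearMap.sum_apply, Finset.sum_eq_single (⟨b, hb⟩ : s)]
          · simp
          · intro c _ hc; simp [Pi.single_eq_of_ne hc]
          · simp
        | zero => rw [zero_smul]; exact zero_mem _
        | add b c _ _ hb hc => rw [add_smul]; exact add_mem hb hc
        | smul r b _ hb => rw [smul_assoc]; exact Submodule.smul_mem _ r hb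
      obtain ⟨w, ⟨v, rfl⟩, hw⟩ := key hx
      exact ⟨v, Subtype.ext hw⟩
    have hker : CoheightLT R (LinearMap.ker ψ) (n + 1) := by
      refine coheightLT_of_injective (N := (s → M)) _ (LinearMap.ker ψ).injective_subtype fun p hp => ?_
      refine hM p ?_
      obtain ⟨v, hv⟩ := Module.mem_support_iff'.1 hp
      by_contra hpM
      rw [Module.notMem_support_iff'] at hpM
      choose r hr hr0 using fun a : s => hpM (v a)
      refine hv (∏ a, r a) (fun h' => ?_) (funext fun a => ?_)
      · obtain ⟨a, -, ha⟩ := p.isPrime.prod_mem_iff.1 h'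
        exact hr a ha
      · rw [Pi.smul_apply, ← Finset.mul_prod_erase _ _ (Finset.mem_univ a), mul_comm, mul_smul, hr0,
          smul_zero]
        rfl
    have hsurj : Function.Surjective (LC15.Hmap I n ψ) := fun w => by
      haveI := subsingleton_H_of_coheightLT (I := I) (n + 1) hker (n + 1) le_rfl
      exact (H_exact₃ I n (LinearMap.ker ψ).injective_subtype (LinearMap.exact_subtype_ker_map ψ) hψ w).1
        (Subsingleton.elim _ _)
    obtain ⟨w, rfl⟩ := hsurj z
    rw [← LinearMap.comp_apply, ← Hmap_comp]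
    have e : N.subtype ∘ₗ ψ = ∑ a : s, (LinearMap.lsmul R M (a : R)) ∘ₗ LinearMap.proj a :=
      LinearMap.ext fun v => by simp [ψ, LinearMap.sum_apply]
    rw [e]
    have hsum : LC15.Hmap I n (∑ a : s, (LinearMap.lsmul R M (a : R)) ∘ₗ LinearMap.proj a) w =
        ∑ a : s, LC15.Hmap I n ((LinearMap.lsmul R M (a : R)) ∘ₗ LinearMap.proj a) w := by
      induction (Finset.univ : Finset s) using Finset.induction with
      | empty => simp [Hmap_zero]
      | insert a t ha ih => rw [Finset.sum_insert ha, Finset.sum_insert ha, Hmap_add, LinearMap.add_apply, ih]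
    rw [hsum]
    refine Submodule.sum_mem _ fun a _ => ?_
    rw [Hmap_comp, LinearMap.comp_apply, Hmap_lsmul]
    exact Submodule.smul_mem_smul (hs ▸ Submodule.subset_span a.2) Submodule.mem_top
  · refine Submodule.smul_induction_on hy (fun a ha x _ => ?_) fun x x' hx hx' => by
      rw [map_add, hx, hx', add_zero]
    rw [← Hmap_lsmul, ← LinearMap.comp_apply, ← Hmap_comp]
    have e : N.mkQ ∘ₗ LinearMap.lsmul R M a = 0 := LinearMap.ext fun m =>
      (Submodule.Quotient.mk_eq_zero N).2 (Submodule.smul_mem_smul ha Submodule.mem_top)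
    rw [e, Hmap_zero, LinearMap.zero_apply]
  · haveI := subsingleton_H_of_coheightLT (I := I) (n + 1) hN (n + 1) le_rfl
    exact (H_exact₃ I n N.injective_subtype hex (Submodule.mkQ_surjective _) z).1 (Subsingleton.elim _ _)

theorem mem_support_quot_smul (q : Ideal R) (r : PrimeSpectrum R) :
    r ∈ Module.support R (M ⧸ (q • (⊤ : Submodule R M))) ↔ r ∈ Module.support R M ∧ q ≤ r.asIdeal := by
  rw [Module.support_quotient, Set.mem_inter_iff, PrimeSpectrum.mem_zeroLocus, SetLike.coe_subset_coe]

variable {E : Type u} [AddCommGroup E] [Module R E] {f : ResidueField R →ₗ[R] E}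

theorem prop_of_mem_associatedPrimes [IsAdicComplete (maximalIdeal R) R] (hn : Module.supportDim R M = n)
    {q : Ideal R} (hq : q ∈ associatedPrimes R (LocCoh.H I n M →ₗ[R] E)) :
    q.IsPrime ∧ Module.annihilator R M ≤ q ∧ ringKrullDim (R ⧸ q) = n ∧
      (I ⊔ q).radical = maximalIdeal R := by
  have hqp : q.IsPrime := hq.isPrime
  obtain ⟨φ, hφ⟩ : ∃ φ : LocCoh.H I n M →ₗ[R] E, ∀ a, a ∈ q ↔ a • φ = 0 := by
    obtain ⟨-, φ, hφ⟩ := isAssociatedPrime_iff.1 hq
    exact ⟨φ, fun a => by rw [hφ, Submodule.mem_colon_singleton, Submodule.mem_bot]⟩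
  have hkill : ∀ a ∈ q, ∀ y, φ (a • y) = 0 := fun a ha y => by
    rw [map_smul, ← LinearMap.smul_apply, (hφ a).1 ha, LinearMap.zero_apply]
  have hann : Module.annihilator R M ≤ q := fun a ha => (hφ a).2 (LinearMap.ext fun y => by
    rw [LinearMap.smul_apply, ← map_smul]
    have e : LinearMap.lsmul R M a = 0 := LinearMap.ext fun m => Module.mem_annihilator.1 ha m
    rw [← Hmap_lsmul, e, Hmap_zero, LinearMap.zero_apply, map_zero, LinearMap.zero_apply])
  have hsupp : (⟨q, hqp⟩ : PrimeSpectrum R) ∈ Module.support R M :=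
    Module.mem_support_iff_of_finite.2 hann
  have hd := dim_le_of_mem_support n hn
  obtain ⟨hker, -⟩ := exists_equiv_quot_smul I n q M (coheightLT_of_dim n hd)
  have hne : ¬ Subsingleton (LocCoh.H I n (M ⧸ (q • (⊤ : Submodule R M)))) := fun hs => by
    have : φ = 0 := LinearMap.ext fun y => by
      have hy := (hker y).1 (Subsingleton.elim _ _)
      refine Submodule.smul_induction_on hy (fun a ha x _ => hkill a ha x) fun x x' hx hx' => ?_
      rw [map_add, hx, hx']; simp
    exact hqp.ne_top ((Ideal.eq_top_iff_one q).2 ((hφ 1).2 (by rw [this, smul_zero])))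
  obtain ⟨q', hq', hq'd, hq'r⟩ := exists_top_prime I n _ (fun r hr =>
    hd r ((mem_support_quot_smul q r).1 hr).1) hne
  obtain ⟨-, hle⟩ := (mem_support_quot_smul q q').1 hq'
  have heq : q = q'.asIdeal := by
    by_contra hne'
    have h1 := (ringKrullDim_quotient_add_one_le (q := q) (p := q'.asIdeal) (lt_of_le_of_ne hle hne')).trans
      (hd ⟨q, hqp⟩ hsupp)
    rw [hq'd] at h1
    have : n + 1 ≤ n := by exact_mod_cast h1
    omega
  exact ⟨hqp, hann, heq ▸ hq'd, heq ▸ hq'r⟩

theorem exists_map_killed (hf : InjHull.IsInjectiveHull f) (hn : Module.supportDim R M = n)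
    {q : Ideal R} (hqp : q.IsPrime) (hann : Module.annihilator R M ≤ q)
    (hqd : ringKrullDim (R ⧸ q) = n) (hqr : (I ⊔ q).radical = maximalIdeal R) :
    ∃ φ : LocCoh.H I n M →ₗ[R] E, φ ≠ 0 ∧ ∀ a ∈ q, a • φ = 0 := by
  have hd := dim_le_of_mem_support n hn
  obtain ⟨hker, hsurj⟩ := exists_equiv_quot_smul I n q M (coheightLT_of_dim n hd)
  have hdimW : Module.supportDim R (M ⧸ (q • (⊤ : Submodule R M))) = n := by
    rw [EGA4Alg4.supportDim_quotient_prime (p := ⟨q, hqp⟩) (Module.mem_support_iff_of_finite.2 hann)]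
    exact hqd
  haveI hnt := LC15.nontrivial_H_supportDim n _ hdimW
  have htor : LocCoh.IsPowerTorsion q (M ⧸ (q • (⊤ : Submodule R M))) := fun x => ⟨1, fun a ha => by
    obtain ⟨m, rfl⟩ := Submodule.Quotient.mk_surjective _ x
    rw [pow_one] at ha
    exact (Submodule.Quotient.mk_smul _ a m).symm.trans
      ((Submodule.Quotient.mk_eq_zero _).2 (Submodule.smul_mem_smul ha Submodule.mem_top))⟩
  have hb := HofLE_bijective (R := R) (le_maximalIdeal (fun e : I = ⊤ => (maximalIdeal.isMaximal R).ne_top
      (by rw [← hqr, e, top_sup_eq, Ideal.radical_top])) : I ≤ maximalIdeal R) q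
    (le_of_eq hqr.symm) n _ htor
  haveI : Nontrivial (LocCoh.H I n (M ⧸ (q • (⊤ : Submodule R M)))) := hb.1.nontrivial
  obtain ⟨w, hw⟩ := exists_ne (0 : LocCoh.H I n (M ⧸ (q • (⊤ : Submodule R M))))
  obtain ⟨y, rfl⟩ := hsurj w
  obtain ⟨ψ, hψ⟩ := InjHull18.exists_map_ne_zero_local hf
    (x := (q • (⊤ : Submodule R (LocCoh.H I n M))).mkQ y)
    (fun e => hw ((hker y).2 ((Submodule.Quotient.mk_eq_zero _).1 e)))
  refine ⟨ψ ∘ₗ Submodule.mkQ _, fun e => hψ (LinearMap.congr_fun e y), fun a ha => LinearMap.ext fun x => ?_⟩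
  rw [LinearMap.smul_apply, LinearMap.comp_apply, LinearMap.zero_apply, ← map_smul, Submodule.mkQ_apply,
    ← Submodule.Quotient.mk_smul, (Submodule.Quotient.mk_eq_zero _).2 (Submodule.smul_mem_smul ha Submodule.mem_top),
    map_zero]

theorem associatedPrimes_eq [IsAdicComplete (maximalIdeal R) R] (hf : InjHull.IsInjectiveHull f)
    (hn : Module.supportDim R M = n) :
    associatedPrimes R (LocCoh.H I n M →ₗ[R] E) = {p : Ideal R | p.IsPrime ∧ Module.annihilator R M ≤ p ∧
      ringKrullDim (R ⧸ p) = n ∧ (I ⊔ p).radical = maximalIdeal R} := by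
  refine Set.Subset.antisymm (fun q hq => prop_of_mem_associatedPrimes I n hn hq) ?_
  rintro q ⟨hqp, hann, hqd, hqr⟩
  obtain ⟨φ, hφ0, hφq⟩ := exists_map_killed I n hf hn hqp hann hqd hqr
  obtain ⟨q', hq', hle⟩ := exists_le_isAssociatedPrime_of_isNoetherianRing R φ hφ0
  obtain ⟨hq'p, -, hq'd, -⟩ := prop_of_mem_associatedPrimes I n hn hq'
  have hqq' : q ≤ q' := fun a ha => hle (by
    simp only [Submodule.mem_colon_singleton, Submodule.mem_bot]
    exact hφq a ha)
  rcases hqq'.eq_or_lt with rfl | hlt
  · exact hq'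
  · haveI := hqp
    haveI := hq'p
    have h1 := ringKrullDim_quotient_add_one_le hlt
    rw [hq'd, hqd] at h1
    have : n + 1 ≤ n := by exact_mod_cast h1
    omega

end Groth.Agent.LC17.CoAss
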