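import Groth.Agent.LC17.ComplGamma
import Mathlib.RingTheory.Filtration
import Mathlib.RingTheory.AdicCompletion.AsTensorProduct
import Mathlib.RingTheory.Localization.Submodule

/-!
The image of `H⁰` of the completed derived torsion of a finite module over a complete ring.
-/

set_option autoImplicit false
set_option linter.style.haveILetI false
set_option maxHeartbeats 1000000

noncomputable section

universe u

open CategoryTheory CategoryTheory.Limits CategoryTheory.Pretriangulated
open scoped TensorProduct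
attribute [local instance] HasDerivedCategory.standard

namespace Groth.Agent.LC17.ComplH0

open Groth.Agent.DR39 Groth.Agent.DR40 Groth.Agent.LC16.CechRgamma

variable {A : Type u} [CommRing A] (I : Ideal A)

theorem sub_pow_mem {a b : A} (h : a - b ∈ I) (n : ℕ) : a ^ n - b ^ n ∈ I := by
  obtain ⟨c, hc⟩ := sub_dvd_pow_sub_pow a b n
  rw [hc]
  exact I.mul_mem_right c h

/-- torsion for some ideal algebraized modulo `I` -/
theorem exists_ideal_iff (M : Type u) [AddCommGroup M] [Module A M] (gs : List A) (s : M) :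
    (∃ J' : Ideal A, J' ≤ Jl gs ∧ Jl gs ≤ (J' ⊔ I).radical ∧ s ∈ DRing.torsionSub J' M) ↔
      ∀ f ∈ gs, ∃ h : A, h • s = 0 ∧ ∃ N : ℕ, h - f ^ N ∈ I := by
  have hmem : ∀ f ∈ gs, f ∈ Jl gs := fun f hf => by
    rw [Jl_eq]
    exact Ideal.subset_span hf
  constructor
  · rintro ⟨J', -, hle, n, hn⟩ f hf
    obtain ⟨N, hN⟩ := hle (hmem f hf)
    obtain ⟨j, hj, c, hc, hjc⟩ := Submodule.mem_sup.1 hN
    refine ⟨j ^ n, hn _ (Ideal.pow_mem_pow hj n), N * n, ?_⟩
    rw [pow_mul]
    refine sub_pow_mem I ?_ n
    rw [← hjc, sub_add_cancel_left]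
    exact neg_mem hc
  · intro h
    classical
    choose g hg0 N hN using h
    refine ⟨Ideal.span {x | ∃ f, ∃ hf : f ∈ gs, x = f * g f hf}, Ideal.span_le.2 ?_, ?_, 1, ?_⟩
    · rintro _ ⟨f, hf, rfl⟩
      exact Ideal.mul_mem_right _ _ (hmem f hf)
    · rw [Jl_eq, Ideal.span_le]
      intro f hf
      refine ⟨N f hf + 1, ?_⟩
      have h' : f ^ (N f hf + 1) = f * g f hf + -(f * (g f hf - f ^ N f hf)) := by ring
      rw [h']
      exact Submodule.add_mem_sup (Ideal.subset_span ⟨f, hf, rfl⟩) (neg_mem (I.mul_mem_left f (hN f hf)))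
    · intro a ha
      rw [pow_one] at ha
      have hle : Ideal.span {x | ∃ f, ∃ hf : f ∈ gs, x = f * g f hf} ≤
          LinearMap.ker (LinearMap.toSpanSingleton A M s) := Ideal.span_le.2 (by
        rintro _ ⟨f, hf, rfl⟩
        show (f * g f hf) • s = 0
        rw [mul_smul, hg0 f hf, smul_zero])
      exact hle ha

/-- Krull intersection in a localisation -/
theorem mem_pow_iff [IsNoetherianRing A] (M : Type u) [AddCommGroup M] [Module A M] [Module.Finite A M]
    (f : A) (s : M) :
    (∀ k : ℕ, LocalizedModule.mkLinearMap (Submonoid.powers f) M s ∈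
      (I ^ k • ⊤ : Submodule A (LocalizedModule (Submonoid.powers f) M))) ↔
      ∃ h : A, h • s = 0 ∧ ∃ N : ℕ, h - f ^ N ∈ I := by
  let S := Submonoid.powers f
  let R := Localization S
  let x : LocalizedModule S M := LocalizedModule.mkLinearMap S M s
  constructor
  · intro hx
    haveI : IsNoetherianRing R := IsLocalization.isNoetherianRing S R inferInstance
    haveI : Module.Finite R (LocalizedModule S M) :=
      Module.Finite.of_isLocalizedModule S (LocalizedModule.mkLinearMap S M)
    let I' := I.map (algebraMap A R)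
    have hmem : x ∈ (⨅ k : ℕ, I' ^ k • ⊤ : Submodule R (LocalizedModule S M)) := by
      rw [Submodule.mem_iInf]
      intro k
      have hle : ∀ y ∈ (I ^ k • ⊤ : Submodule A (LocalizedModule S M)),
          y ∈ (I' ^ k • ⊤ : Submodule R (LocalizedModule S M)) := by
        intro y hy
        induction hy using Submodule.smul_induction_on' with
        | smul r hr n _ =>
          rw [← algebraMap_smul R r n]
          refine Submodule.smul_mem_smul ?_ Submodule.mem_top
          rw [← Ideal.map_pow]
          exact Ideal.mem_map_of_mem _ hr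
        | add a _ b _ ha hb => exact add_mem ha hb
      exact hle x (hx k)
    obtain ⟨⟨r, hr⟩, hrx⟩ := (I'.mem_iInf_smul_pow_eq_bot_iff x).1 hmem
    obtain ⟨⟨⟨c, hc⟩, ⟨_, l, rfl⟩⟩, hcl⟩ := (IsLocalization.mem_map_algebraMap_iff S R).1 hr
    have h1 : f ^ l • x = c • x := by
      rw [← algebraMap_smul R c x]
      rw [show algebraMap A R c = r * algebraMap A R (f ^ l) from hcl.symm, mul_smul, algebraMap_smul]
      exact ((congrArg (fun z => f ^ l • z) (hrx : r • x = x)).symm).trans (smul_comm _ _ _)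
    have h2 : LocalizedModule.mkLinearMap S M ((f ^ l - c) • s) = 0 := by
      rw [sub_smul, map_sub, map_smul, map_smul, sub_eq_zero]
      exact h1
    obtain ⟨⟨_, m, rfl⟩, hm⟩ := (IsLocalizedModule.eq_zero_iff S (LocalizedModule.mkLinearMap S M)).1 h2
    refine ⟨f ^ m * (f ^ l - c), by rw [mul_smul]; exact hm, m + l, ?_⟩
    rw [mul_sub, ← pow_add, sub_sub_cancel_left]
    exact neg_mem (I.mul_mem_left _ hc)
  · rintro ⟨h, hs, N, hN⟩ k
    have hu := (Module.End.isUnit_iff _).1
      (IsLocalizedModule.map_units (LocalizedModule.mkLinearMap S M) (⟨f ^ N, N, rfl⟩ : S))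
    let e : LocalizedModule S M ≃ₗ[A] LocalizedModule S M :=
      LinearEquiv.ofBijective (algebraMap A (Module.End A (LocalizedModule S M)) (f ^ N)) hu
    have hx0 : h • x = 0 := by
      rw [← map_smul, hs, map_zero]
    have key : x = -(h - f ^ N) • e.symm x := by
      refine e.injective ?_
      rw [map_smul, e.apply_symm_apply]
      show f ^ N • x = _
      rw [neg_sub, sub_smul, hx0, sub_zero]
    induction k with
    | zero => simp
    | succ k ih =>
      show x ∈ _
      rw [key, pow_succ', Submodule.mul_smul]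
      refine Submodule.smul_mem_smul (neg_mem hN) ?_
      have h' : e.symm x ∈ Submodule.map e.symm.toLinearMap (I ^ k • ⊤) := ⟨x, ih, rfl⟩
      rwa [Submodule.map_smul'', Submodule.map_top, LinearEquiv.range] at h'

theorem of_surjective_of_complete [IsNoetherianRing A] [IsAdicComplete I A] (M : Type u) [AddCommGroup M]
    [Module A M] [Module.Finite A M] : Function.Surjective (AdicCompletion.of I M) := by
  intro y
  obtain ⟨t, rfl⟩ := AdicCompletion.ofTensorProduct_surjective_of_finite I M y
  induction t using TensorProduct.induction_on with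
  | zero => exact ⟨0, by simp⟩
  | tmul z m =>
    obtain ⟨a, rfl⟩ := AdicCompletion.of_surjective I A z
    refine ⟨a • m, AdicCompletion.ext fun n => ?_⟩
    simp
    rfl
  | add x y hx hy =>
    obtain ⟨a, ha⟩ := hx
    obtain ⟨b, hb⟩ := hy
    exact ⟨a + b, by simp [map_add, ha, hb]⟩

variable [DRing.HasDerivedCompletion I] [IsNoetherianRing A]

theorem etaH_surjective [IsAdicComplete I A] (M : Type u) [AddCommGroup M] [Module A M] [Module.Finite A M] :
    Function.Surjective (etaH I M) := by
  obtain ⟨-, l, hl⟩ := completion_inD_tensor I M A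
  let t : M ≃ₗ[A] M ⊗[A] A := (TensorProduct.rid A M).symm
  intro y
  let E := ((HF A 0).mapIso ((Cp I).mapIso ((DerivedCategory.singleFunctor (ModuleCat.{u} A) 0).mapIso
    t.toModuleIso))).toLinearEquiv ≪≫ₗ l
  obtain ⟨m, hm⟩ := of_surjective_of_complete I (M ⊗[A] A) (E y)
  refine ⟨t.symm m, E.injective ?_⟩
  rw [← hm]
  refine (congrArg l (etaH_naturality I t.toLinearMap (t.symm m))).trans ?_
  refine (hl (t (t.symm m))).trans ?_
  rw [LinearEquiv.apply_symm_apply]

theorem gammaIτ_app (J : Ideal A) (E : DRing.Cx A) :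
    (DRing.gammaIτ J).app ((HomotopyCategory.quotient (ModuleCat.{u} A) (ComplexShape.up ℤ)).obj E) =
      DerivedCategory.Qh.map
          (((DRing.gammaI J).mapHomotopyCategoryFactors (ComplexShape.up ℤ)).hom.app E) ≫
        DerivedCategory.Qh.map
          ((HomotopyCategory.quotient (ModuleCat.{u} A) (ComplexShape.up ℤ)).map (incE J E)) := by
  refine (show _ = (DRing.gammaIτ0 J).app E from rfl).trans ?_
  simp only [DRing.gammaIτ0, NatTrans.comp_app, Functor.associator_inv_app, Functor.associator_hom_app,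
    Functor.whiskerRight_app, Functor.comp_map, Category.id_comp, Category.comp_id, Functor.leftUnitor_hom_app]
  refine congrArg (fun φ => _ ≫ φ) ?_
  erw [Category.comp_id, ← Functor.map_comp, ← Functor.map_comp]
  exact congrArg (fun ψ => DerivedCategory.Qh.map ((HomotopyCategory.quotient _ _).map ψ))
    (HomologicalComplex.hom_ext _ _ fun i => rfl)

theorem main_theorem [IsAdicComplete I A] (gs : List A) [DRing.HasRgammaI (Jl gs)] (M : Type u)
    [AddCommGroup M] [Module A M] [Module.Finite A M] :
    Function.Injective ((HF A 0).map ((Cp I).map ((DRing.RgammaIε (Jl gs)).app (Dual.inD A M)))).hom ∧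
      Set.range ((HF A 0).map ((Cp I).map ((DRing.RgammaIε (Jl gs)).app (Dual.inD A M)))).hom =
        (fun s : M => etaH I M s) ''
          {s : M | ∃ J' : Ideal A, J' ≤ Jl gs ∧ Jl gs ≤ (J' ⊔ I).radical ∧ s ∈ DRing.torsionSub J' M} := by
  obtain ⟨E, r, hKI, hr, -, hEi⟩ := CohDer42.exists_kinjective_resolution
    ((HomologicalComplex.single _ (ComplexShape.up ℤ) 0).obj (ModuleCat.of A M))
  have hE : ∀ i, Module.Injective A (E.X i) := fun i =>
    have := hEi i
    Module.injective_module_of_injective_object A (E.X i)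
  haveI := hr
  haveI hiso : IsIso ((QA A).map r) :=
    (DerivedCategory.isIso_Q_map_iff_quasiIso (ModuleCat.{u} A) r).2 hr
  let τ := DerivedCategory.singleFunctorIsoCompQ (ModuleCat.{u} A) 0
  let e0 : Dual.inD A M ≅ (QA A).obj E := τ.app (ModuleCat.of A M) ≪≫ @asIso _ _ _ _ ((QA A).map r) hiso
  -- the comparison of the two maps
  let J := Jl gs
  let qI := DerivedCategory.quotientCompQhIso (ModuleCat.{u} A)
  have hK : Mod48.EnoughKInj (ModuleCat.{u} A) := fun M =>
    let ⟨J, f, h, h', _⟩ := CohDer42.exists_kinjective_resolution M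
    ⟨J, f, h, h'⟩
  let α := (DRing.gammaIKh J).totalRightDerivedUnit DerivedCategory.Qh
    (HomotopyCategory.quasiIso (ModuleCat.{u} A) (ComplexShape.up ℤ))
  haveI := Mod48.isIso_unit_of_kInjective (DRing.RgammaI J) α hK E hKI
  let fac := ((DRing.gammaI J).mapHomotopyCategoryFactors (ComplexShape.up ℤ)).app E
  let g : DerivedCategory.Qh.obj ((HomotopyCategory.quotient (ModuleCat.{u} A) (ComplexShape.up ℤ)).obj E) ≅
      Dual.inD A M := qI.app E ≪≫ e0.symm
  let q₁ : DerivedCategory.Qh.obj ((HomotopyCategory.quotient (ModuleCat.{u} A) (ComplexShape.up ℤ)).obj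
      ((gCx J).obj E)) ≅ (QA A).obj ((gCx J).obj E) := qI.app _
  let a₁ : DerivedCategory.Qh.obj ((HomotopyCategory.quotient (ModuleCat.{u} A) (ComplexShape.up ℤ)).obj
      ((gCx J).obj E)) ≅ (DRing.gammaIKh J).obj
        ((HomotopyCategory.quotient (ModuleCat.{u} A) (ComplexShape.up ℤ)).obj E) :=
    DerivedCategory.Qh.mapIso fac.symm
  let a₂ : (DRing.gammaIKh J).obj ((HomotopyCategory.quotient (ModuleCat.{u} A) (ComplexShape.up ℤ)).obj E) ≅
      (DRing.RgammaI J).obj (DerivedCategory.Qh.obj
        ((HomotopyCategory.quotient (ModuleCat.{u} A) (ComplexShape.up ℤ)).obj E)) := asIso (α.app _)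
  let k : (QA A).obj ((gCx J).obj E) ≅ (DRing.RgammaI J).obj (Dual.inD A M) :=
    q₁.symm ≪≫ a₁ ≪≫ a₂ ≪≫ (DRing.RgammaI J).mapIso g
  have hk : k.hom ≫ (DRing.RgammaIε J).app (Dual.inD A M) = (QA A).map (incE J E) ≫ e0.inv := by
    have h1 : a₂.hom ≫ (DRing.RgammaIε J).app (DerivedCategory.Qh.obj ((HomotopyCategory.quotient (ModuleCat.{u} A) (ComplexShape.up ℤ)).obj E)) = a₁.inv ≫
        DerivedCategory.Qh.map ((HomotopyCategory.quotient _ _).map (incE J E)) := by
      refine ((DRing.RgammaI J).rightDerived_fac_app α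
        (HomotopyCategory.quasiIso (ModuleCat.{u} A) (ComplexShape.up ℤ)) (𝟭 (Dual.D A))
        (DRing.gammaIτ J ≫ (Functor.rightUnitor _).inv)
        ((HomotopyCategory.quotient (ModuleCat.{u} A) (ComplexShape.up ℤ)).obj E)).trans ?_
      rw [NatTrans.comp_app, Functor.rightUnitor_inv_app, Category.comp_id, gammaIτ_app]
      rfl
    have h2 : (DRing.RgammaI J).map g.hom ≫ (DRing.RgammaIε J).app (Dual.inD A M) =
        (DRing.RgammaIε J).app (DerivedCategory.Qh.obj
          ((HomotopyCategory.quotient (ModuleCat.{u} A) (ComplexShape.up ℤ)).obj E)) ≫ g.hom :=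
      (DRing.RgammaIε J).naturality g.hom
    have h3 : DerivedCategory.Qh.map ((HomotopyCategory.quotient _ _).map (incE J E)) ≫ (qI.app E).hom =
        q₁.hom ≫ (QA A).map (incE J E) := qI.hom.naturality (incE J E)
    show (q₁.inv ≫ a₁.hom ≫ a₂.hom ≫ (DRing.RgammaI J).map g.hom) ≫ _ = _
    refine (Category.assoc _ _ _).trans ?_
    refine (congrArg (q₁.inv ≫ ·) ((Category.assoc _ _ _).trans (congrArg (a₁.hom ≫ ·)
      ((Category.assoc _ _ _).trans ((congrArg (a₂.hom ≫ ·) h2).trans
        ((Category.assoc _ _ _).symm.trans ((congrArg (· ≫ g.hom) h1).trans (Category.assoc _ _ _)))))))).trans ?_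
    rw [Iso.hom_inv_id_assoc]
    refine (congrArg (q₁.inv ≫ ·) ((Category.assoc _ _ _).symm.trans
      ((congrArg (· ≫ e0.inv) h3).trans (Category.assoc _ _ _)))).trans ?_
    exact Iso.inv_hom_id_assoc _ _
  let φ := ((HF A 0).map ((Cp I).map ((DRing.RgammaIε J).app (Dual.inD A M)))).hom
  let K := ((HF A 0).mapIso ((Cp I).mapIso k)).toLinearEquiv
  let E0 := ((HF A 0).mapIso ((Cp I).mapIso e0)).toLinearEquiv
  let ι := ((HF A 0).map ((Cp I).map ((QA A).map (incE J E)))).hom
  have hφ : ∀ z, φ (K z) = E0.symm (ι z) := fun z => by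
    have h := congrArg (fun ψ => ((HF A 0).map ((Cp I).map ψ)).hom z) hk
    simp only [Functor.map_comp, ModuleCat.hom_comp, LinearMap.comp_apply] at h
    exact h
  have hι : Function.Injective ι := (main I M E hE r gs []).2
  show Function.Injective φ ∧ Set.range φ = _
  refine ⟨fun a b hab => ?_, ?_⟩
  · obtain ⟨a, rfl⟩ := K.surjective a
    obtain ⟨b, rfl⟩ := K.surjective b
    rw [hφ, hφ] at hab
    rw [hι (E0.symm.injective hab)]
  have hrange : ∀ y, y ∈ Set.range φ ↔ E0 y ∈ Set.range ι := fun y => by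
    constructor
    · rintro ⟨z, rfl⟩
      obtain ⟨z, rfl⟩ := K.surjective z
      exact ⟨z, by rw [hφ, LinearEquiv.apply_symm_apply]⟩
    · rintro ⟨z, hz⟩
      exact ⟨K z, by rw [hφ, hz, LinearEquiv.symm_apply_apply]⟩
  -- the kernels
  have hker : ∀ (f : A) (s : M),
      ((HF A 0).map ((Cp I).map ((QA A).map (DerCA.locCxUnit (Submonoid.powers f) E)))).hom
        (E0 (etaH I M s)) = 0 ↔ ∃ h : A, h • s = 0 ∧ ∃ N : ℕ, h - f ^ N ∈ I := by
    intro f s
    let S := Submonoid.powers f
    let sg := HomologicalComplex.single (ModuleCat.{u} A) (ComplexShape.up ℤ) 0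
    let Mf := (DerCA.locFunctor S).obj (ModuleCat.of A M)
    let e₁ := (HomologicalComplex.singleMapHomologicalComplex (DerCA.locFunctor S) (ComplexShape.up ℤ) 0).app
      (ModuleCat.of A M)
    haveI : IsIso ((QA A).map ((DerCA.locCx S).map r)) :=
      (DerivedCategory.isIso_Q_map_iff_quasiIso (ModuleCat.{u} A) _).2
        (inferInstanceAs (QuasiIso (((DerCA.locFunctor (R := A) S).mapHomologicalComplex _).map r)))
    let ef : Dual.inD A Mf ≅ (QA A).obj ((DerCA.locCx S).obj E) :=
      τ.app Mf ≪≫ (QA A).mapIso e₁.symm ≪≫ asIso ((QA A).map ((DerCA.locCx S).map r))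
    let u : M →ₗ[A] LocalizedModule S M := LocalizedModule.mkLinearMap S M
    let uu : ModuleCat.of A M ⟶ Mf := (DerCA.locUnit S).app (ModuleCat.of A M)
    have hu : sg.map uu ≫ e₁.inv = DerCA.locCxUnit S (sg.obj (ModuleCat.of A M)) := by
      refine HomologicalComplex.from_single_hom_ext ?_
      rw [HomologicalComplex.comp_f, Iso.app_inv, HomologicalComplex.singleMapHomologicalComplex_inv_app_self,
        HomologicalComplex.single_map_f_self, Category.assoc, Category.assoc]
      erw [Iso.inv_hom_id_assoc]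
      refine (congrArg ((HomologicalComplex.singleObjXSelf (ComplexShape.up ℤ) 0 (ModuleCat.of A M)).hom ≫ ·)
        ((DerCA.locUnit S).naturality
          (HomologicalComplex.singleObjXSelf (ComplexShape.up ℤ) 0 (ModuleCat.of A M)).inv).symm).trans ?_
      exact Iso.hom_inv_id_assoc _ _
    have hsq : (DerivedCategory.singleFunctor (ModuleCat.{u} A) 0).map uu ≫ ef.hom =
        e0.hom ≫ (QA A).map (DerCA.locCxUnit S E) := by
      have h2 : r ≫ DerCA.locCxUnit S E =
          DerCA.locCxUnit S (sg.obj (ModuleCat.of A M)) ≫ (DerCA.locCx S).map r :=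
        (LC16.RgammaVanish.unitNat S).naturality r
      have h1 : (DerivedCategory.singleFunctor (ModuleCat.{u} A) 0).map uu ≫ τ.hom.app Mf =
          τ.hom.app (ModuleCat.of A M) ≫ (QA A).map (sg.map uu) := τ.hom.naturality uu
      have h4 : (QA A).map (sg.map uu) ≫ (QA A).map e₁.inv ≫ (QA A).map ((DerCA.locCx S).map r) =
          (QA A).map r ≫ (QA A).map (DerCA.locCxUnit S E) :=
        ((congrArg (fun z => (QA A).map (sg.map uu) ≫ z) ((QA A).map_comp _ _).symm).trans
          ((QA A).map_comp _ _).symm).trans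
          ((congrArg (QA A).map ((Category.assoc _ _ _).symm.trans
            ((congrArg (· ≫ (DerCA.locCx S).map r) hu).trans h2.symm))).trans ((QA A).map_comp _ _))
      simp only [ef, e0, Iso.trans_hom, Iso.app_hom, Functor.mapIso_hom, Iso.symm_hom, asIso_hom,
        Category.assoc]
      refine ((Category.assoc _ _ _).symm.trans ((congrArg (· ≫ _) h1).trans (Category.assoc _ _ _))).trans ?_
      exact congrArg (fun ψ => τ.hom.app _ ≫ ψ) h4
    have h := congrArg (fun ψ => ((HF A 0).map ((Cp I).map ψ)).hom (etaH I M s)) hsq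
    simp only [Functor.map_comp, ModuleCat.hom_comp, LinearMap.comp_apply] at h
    rw [show ((HF A 0).map ((Cp I).map ((QA A).map (DerCA.locCxUnit S E)))).hom (E0 (etaH I M s)) = _
      from h.symm]
    refine ((((HF A 0).mapIso ((Cp I).mapIso ef)).toLinearEquiv).map_eq_zero_iff).trans ?_
    rw [show ((HF A 0).map ((Cp I).map ((DerivedCategory.singleFunctor (ModuleCat.{u} A) 0).map uu))).hom
      (etaH I M s) = etaH I (LocalizedModule S M) (u s) from etaH_naturality I u s]
    refine (etaH_eq_zero_iff I M (Localization S) (LocalizedModule S M)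
      (((LocalizedModule.equivTensorProduct S M).restrictScalars A) ≪≫ₗ TensorProduct.comm A _ _) (u s)).trans ?_
    exact mem_pow_iff I M f s
  ext y
  rw [hrange, range_incE I M E hE r gs, Set.mem_ofPred_eq]
  constructor
  · intro hy
    obtain ⟨s, rfl⟩ := etaH_surjective I M y
    exact ⟨s, (exists_ideal_iff I M gs s).2 fun f hf => (hker f s).1 (hy f hf), rfl⟩
  · rintro ⟨s, hs, rfl⟩ f hf
    exact (hker f s).2 ((exists_ideal_iff I M gs s).1 hs f hf)

end Groth.Agent.LC17.ComplH0
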