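import Groth.Agent.DR40.DCExist
import Groth.Agent.DR40.FlatCompl

/-!
Derived completion on triangles, and the derived completion of `M ⊗ F` with `F` flat.
-/

set_option autoImplicit false
set_option linter.style.haveILetI false

noncomputable section

universe u

open CategoryTheory CategoryTheory.Limits CategoryTheory.Pretriangulated
open scoped TensorProduct
attribute [local instance] HasDerivedCategory.standard

namespace Groth.Agent.LC17.ComplH0

open Groth.Agent.DR39 Groth.Agent.DR40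

variable {A : Type u} [CommRing A]

/-- completions of two vertices extend to the third, compatibly -/
theorem exists_compl_triangle' {I : Ideal A} {T : Triangle (Dual.D A)} (hT : T ∈ distinguishedTriangles)
    {C₁ C₂ : Dual.D A} {η₁ : T.obj₁ ⟶ C₁} {η₂ : T.obj₂ ⟶ C₂} (h₁ : IsCompl I η₁) (h₂ : IsCompl I η₂)
    (ψ : C₁ ⟶ C₂) (hψ : T.mor₁ ≫ η₂ = η₁ ≫ ψ) :
    ∃ (Z : Dual.D A) (p : C₂ ⟶ Z) (d : Z ⟶ C₁⟦(1 : ℤ)⟧) (γ : T.obj₃ ⟶ Z),
      Triangle.mk ψ p d ∈ distinguishedTriangles ∧ T.mor₂ ≫ γ = η₂ ≫ p ∧ IsCompl I γ := by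
  obtain ⟨Z, p, d, hZ⟩ := distinguished_cocone_triangle ψ
  obtain ⟨(γ : T.obj₃ ⟶ Z), hγ2, hγ3⟩ :=
    complete_distinguished_triangle_morphism T _ hT hZ η₁ η₂ hψ
  have hγ2' : T.mor₂ ≫ γ = η₂ ≫ p := hγ2
  have hγ3' : T.mor₃ ≫ η₁⟦(1 : ℤ)⟧' = γ ≫ d := hγ3
  have h0d : d ≫ ψ⟦(1 : ℤ)⟧' = 0 := comp_distTriang_mor_zero₃₁ _ hZ
  refine ⟨Z, p, d, γ, hZ, hγ2', dc_obj₃ hZ h₁.1 h₂.1, fun E hE => ⟨fun a b hab => ?_, fun w => ?_⟩⟩
  · rw [← sub_eq_zero]
    let g : Z ⟶ E := a - b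
    show g = 0
    have hg : γ ≫ g = 0 := (Preadditive.comp_sub _ _ _).trans (sub_eq_zero.2 hab)
    have hpg : p ≫ g = 0 := (h₂.2 E hE).1 (by
      show η₂ ≫ p ≫ g = η₂ ≫ 0
      rw [← reassoc_of% hγ2', hg, comp_zero, comp_zero])
    obtain ⟨(k : C₁⟦(1 : ℤ)⟧ ⟶ E), (hk : g = d ≫ k)⟩ := Triangle.yoneda_exact₃ _ hZ g hpg
    have h1 : T.mor₃ ≫ η₁⟦(1 : ℤ)⟧' ≫ k = 0 := by
      rw [reassoc_of% hγ3', ← hk, hg]
    obtain ⟨(l : T.obj₂⟦(1 : ℤ)⟧ ⟶ E), (hl : η₁⟦(1 : ℤ)⟧' ≫ k = (-T.mor₁⟦(1 : ℤ)⟧') ≫ l)⟩ :=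
      Triangle.yoneda_exact₃ _ (rot_of_distTriang T hT) (η₁⟦(1 : ℤ)⟧' ≫ k) h1
    obtain ⟨l', hl'⟩ := (h₂.shift_bijective E hE).2 l
    simp only at hl'
    have hk' : k = -(ψ⟦(1 : ℤ)⟧' ≫ l') := (h₁.shift_bijective E hE).1 (by
      show η₁⟦(1 : ℤ)⟧' ≫ k = η₁⟦(1 : ℤ)⟧' ≫ _
      rw [hl, ← hl', Preadditive.neg_comp, Preadditive.comp_neg, ← Functor.map_comp_assoc,
        ← Functor.map_comp_assoc, hψ])
    rw [hk, hk', Preadditive.comp_neg, reassoc_of% h0d, zero_comp, neg_zero]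
  · obtain ⟨v, hv⟩ := (h₂.2 E hE).2 (T.mor₂ ≫ w)
    simp only at hv
    have hψv : ψ ≫ v = 0 := (h₁.2 E hE).1 (by
      show η₁ ≫ ψ ≫ v = η₁ ≫ 0
      rw [← reassoc_of% hψ, hv, reassoc_of% (comp_distTriang_mor_zero₁₂ T hT), zero_comp, comp_zero])
    obtain ⟨(g : Z ⟶ E), (hg : v = p ≫ g)⟩ := Triangle.yoneda_exact₂ _ hZ v hψv
    obtain ⟨k, hk⟩ := Triangle.yoneda_exact₃ T hT (w - γ ≫ g) (by
      rw [Preadditive.comp_sub, reassoc_of% hγ2', ← hg, hv, sub_self])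
    obtain ⟨k', hk'⟩ := (h₁.shift_bijective E hE).2 k
    simp only at hk'
    refine ⟨g + d ≫ k', ?_⟩
    show γ ≫ (g + d ≫ k') = w
    rw [Preadditive.comp_add, ← reassoc_of% hγ3', hk', ← hk]
    abel

variable (I : Ideal A) [DRing.HasDerivedCompletion I]

/-- derived completion as an endofunctor -/
abbrev Cp : Dual.D A ⥤ Dual.D A :=
  DRing.derivedCompletion I ⋙ ObjectProperty.ι (DRing.IsDerivedComplete I)

/-- the completion map -/
abbrev eta (X : Dual.D A) : X ⟶ (Cp I).obj X := DRing.toDerivedCompletion I X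

theorem eta_naturality {K L : Dual.D A} (φ : K ⟶ L) : φ ≫ eta I L = eta I K ≫ (Cp I).map φ :=
  (DRing.derivedCompletionAdj I).unit.naturality φ

theorem exists_triangle {T : Triangle (Dual.D A)} (hT : T ∈ distinguishedTriangles) :
    ∃ d : (Cp I).obj T.obj₃ ⟶ ((Cp I).obj T.obj₁)⟦(1 : ℤ)⟧,
      Triangle.mk ((Cp I).map T.mor₁) ((Cp I).map T.mor₂) d ∈ distinguishedTriangles := by
  obtain ⟨Z, p, d, γ, hZ, h2, hc⟩ := exists_compl_triangle' hT (isCompl_unit I T.obj₁)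
    (isCompl_unit I T.obj₂) ((Cp I).map T.mor₁) (eta_naturality I T.mor₁)
  obtain ⟨e, he⟩ := hc.unique (isCompl_unit I T.obj₃)
  have hp : p ≫ e.hom = (Cp I).map T.mor₂ := ((isCompl_unit I T.obj₂).2 _ (isCompl_unit I T.obj₃).1).1 (by
    show eta I _ ≫ p ≫ e.hom = eta I _ ≫ _
    rw [← reassoc_of% h2, he, eta_naturality])
  refine ⟨e.inv ≫ d, isomorphic_distinguished _ hZ _ ?_⟩
  refine Triangle.isoMk _ _ (Iso.refl _) (Iso.refl _) e.symm ?_ ?_ ?_
  · exact (Category.comp_id _).trans (Category.id_comp _).symm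
  · show (Cp I).map T.mor₂ ≫ e.inv = 𝟙 _ ≫ p
    rw [← hp, Category.assoc, Iso.hom_inv_id, Category.comp_id, Category.id_comp]
  · show (e.inv ≫ d) ≫ (𝟙 _)⟦(1 : ℤ)⟧' = e.inv ≫ d
    rw [CategoryTheory.Functor.map_id, Category.comp_id]

theorem exact_map {T : Triangle (Dual.D A)} (hT : T ∈ distinguishedTriangles) (i : ℤ) :
    Function.Exact ((HF A i).map ((Cp I).map T.mor₁)).hom ((HF A i).map ((Cp I).map T.mor₂)).hom := by
  obtain ⟨d, hd⟩ := exists_triangle I hT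
  exact (ShortComplex.ShortExact.moduleCat_exact_iff_function_exact _).1
    (DerivedCategory.HomologySequence.exact₂ _ hd i)

theorem map_injective {T : Triangle (Dual.D A)} (hT : T ∈ distinguishedTriangles) (i : ℤ)
    (h : IsZero ((HF A (i - 1)).obj ((Cp I).obj T.obj₃))) :
    Function.Injective ((HF A i).map ((Cp I).map T.mor₁)).hom := by
  obtain ⟨d, hd⟩ := exists_triangle I hT
  have : Mono ((HF A i).map ((Cp I).map T.mor₁)) :=
    (DerivedCategory.HomologySequence.mono_homologyMap_mor₁_iff _ hd (i - 1) i (by omega)).2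
      (h.eq_of_src _ _)
  exact (ModuleCat.mono_iff_injective _).1 this

theorem isZero_of_triangle {T : Triangle (Dual.D A)} (hT : T ∈ distinguishedTriangles) (i : ℤ)
    (h : IsZero ((HF A (i - 1)).obj ((Cp I).obj T.obj₃))) (h₂ : IsZero ((HF A i).obj ((Cp I).obj T.obj₂))) :
    IsZero ((HF A i).obj ((Cp I).obj T.obj₁)) := by
  have hinj := map_injective I hT i h
  haveI := (isZero_HF_iff _ i).1 h₂
  exact (isZero_HF_iff _ i).2 hinj.subsingleton

/-- the map from a module to the degree zero cohomology of its completion -/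
def etaH (N : Type u) [AddCommGroup N] [Module A N] : N →ₗ[A] Dual.HD A ((Cp I).obj (Dual.inD A N)) 0 :=
  (((DerivedCategory.singleFunctorCompHomologyFunctorIso (ModuleCat.{u} A) 0).inv.app (ModuleCat.of A N)) ≫
    (DerivedCategory.homologyFunctor (ModuleCat.{u} A) 0).map (eta I (Dual.inD A N))).hom

theorem etaH_naturality {N N' : Type u} [AddCommGroup N] [Module A N] [AddCommGroup N'] [Module A N']
    (g : N →ₗ[A] N') (x : N) :
    ((HF A 0).map ((Cp I).map ((DerivedCategory.singleFunctor (ModuleCat.{u} A) 0).map (ModuleCat.ofHom g)))).hom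
      (etaH I N x) = etaH I N' (g x) := by
  have h := (DerivedCategory.singleFunctorCompHomologyFunctorIso (ModuleCat.{u} A) 0).inv.naturality
    (ModuleCat.ofHom g)
  have key : (((DerivedCategory.singleFunctorCompHomologyFunctorIso (ModuleCat.{u} A) 0).inv.app (ModuleCat.of A N)) ≫
      (HF A 0).map (eta I (Dual.inD A N))) ≫
      (HF A 0).map ((Cp I).map ((DerivedCategory.singleFunctor (ModuleCat.{u} A) 0).map (ModuleCat.ofHom g))) =
    ModuleCat.ofHom g ≫ ((DerivedCategory.singleFunctorCompHomologyFunctorIso (ModuleCat.{u} A) 0).inv.app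
      (ModuleCat.of A N')) ≫ (HF A 0).map (eta I (Dual.inD A N')) := by
    rw [Category.assoc, ← Functor.map_comp, ← eta_naturality, Functor.map_comp, ← Category.assoc,
      ← Category.assoc]
    exact congrArg (· ≫ _) h.symm
  exact congrArg (fun φ => φ.hom x) key

variable [IsNoetherianRing A] (M F N : Type u) [AddCommGroup M] [Module A M] [Module.Finite A M]
  [AddCommGroup F] [Module A F] [Module.Flat A F] [AddCommGroup N] [Module A N]

theorem isZero_neg (e : N ≃ₗ[A] M ⊗[A] F) (i : ℤ) (hi : i < 0) :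
    IsZero ((HF A i).obj ((Cp I).obj (Dual.inD A N))) := by
  have hz : IsZero ((HF A i).obj ((Cp I).obj (Dual.inD A (M ⊗[A] F)))) :=
    (isZero_HF_iff _ i).2 ((completion_inD_tensor I M F).1 i hi.ne)
  refine IsZero.of_iso hz ?_
  exact (HF A i).mapIso ((Cp I).mapIso ((DerivedCategory.singleFunctor (ModuleCat.{u} A) 0).mapIso
    e.toModuleIso))

theorem etaH_eq_zero_iff (e : N ≃ₗ[A] M ⊗[A] F) (x : N) :
    etaH I N x = 0 ↔ ∀ k : ℕ, x ∈ (I ^ k • ⊤ : Submodule A N) := by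
  obtain ⟨-, l, hl⟩ := completion_inD_tensor I M F
  let a := ((HF A 0).mapIso ((Cp I).mapIso ((DerivedCategory.singleFunctor (ModuleCat.{u} A) 0).mapIso
    e.toModuleIso))).toLinearEquiv ≪≫ₗ l
  have ha : a (etaH I N x) = AdicCompletion.of I (M ⊗[A] F) (e x) := by
    refine (congrArg l (etaH_naturality I e.toLinearMap x)).trans ?_
    exact hl (e x)
  rw [← a.map_eq_zero_iff, ha, AdicCompletion.ext_iff]
  refine forall_congr' fun k => ?_
  rw [AdicCompletion.of_apply, AdicCompletion.val_zero_apply, Submodule.mkQ_apply, Submodule.Quotient.mk_eq_zero,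
    ← (show Submodule.map e.toLinearMap (I ^ k • ⊤) = I ^ k • ⊤ by
      rw [Submodule.map_smul'', Submodule.map_top, LinearEquiv.range])]
  exact ⟨fun ⟨y, hy, h⟩ => e.injective h ▸ hy, fun h => ⟨x, h, rfl⟩⟩

end Groth.Agent.LC17.ComplH0
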