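import Groth.Agent.LC17.ConnSpec
import Groth.Agent.Cohen12.PowerSeries
import Mathlib.RingTheory.MvPolynomial.Homogeneous
import Mathlib.RingTheory.MvPowerSeries.Equiv
import Mathlib.RingTheory.MvPowerSeries.NoZeroDivisors
import Mathlib.RingTheory.GradedAlgebra.Homogeneous.Ideal
import Mathlib.RingTheory.GradedAlgebra.Radical
import Mathlib.GroupTheory.CosetCover

/-!
# Homogeneous ideals in a ring of formal power series
-/

set_option autoImplicit false

universe u

open MvPolynomial IsLocalRing Groth.Agent.LC17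
open scoped Finsupp

namespace Groth.Agent.LC17.Cone

attribute [local instance] MvPolynomial.gradedAlgebra

variable {K : Type u} [Field K] {m : ℕ}

local notation "S" => MvPolynomial (Fin m) K
local notation "P" => MvPowerSeries (Fin m) K
local notation "𝒜" => MvPolynomial.homogeneousSubmodule (Fin m) K

/-- The extension of an ideal to formal power series. -/
noncomputable def cl (a : Ideal S) : Ideal P := a.map coeToMvPowerSeries.ringHom

/-- The degree `N` part of a power series, as a polynomial. -/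
noncomputable def comp (N : ℕ) : P →ₗ[K] S :=
  (MvPolynomial.homogeneousComponent N).comp (MvPowerSeries.truncTotal (N + 1))

theorem coeff_comp (N : ℕ) (f : P) (x : Fin m →₀ ℕ) :
    (comp N f).coeff x = if x.degree = N then MvPowerSeries.coeff x f else 0 := by
  rw [comp, LinearMap.comp_apply, MvPolynomial.coeff_homogeneousComponent]
  split_ifs with h
  · rw [MvPowerSeries.coeff_truncTotal _ (by omega)]
  · rfl

theorem comp_coe (N : ℕ) (g : S) : comp N (g : P) = homogeneousComponent N g :=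
  MvPolynomial.ext _ _ fun x => by
    rw [coeff_comp, MvPolynomial.coeff_homogeneousComponent, MvPolynomial.coeff_coe]

theorem comp_mul_coe (N : ℕ) (h : P) (g : S) :
    comp N (h * (g : P)) = homogeneousComponent N (MvPowerSeries.truncTotal (N + 1) h * g) :=
  MvPolynomial.ext _ _ fun x => by
    classical
    rw [coeff_comp, MvPolynomial.coeff_homogeneousComponent]
    split_ifs with hx
    · rw [MvPolynomial.coeff_mul, MvPowerSeries.coeff_mul]
      refine Finset.sum_congr rfl fun uv huv => ?_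
      rw [MvPolynomial.coeff_coe, MvPowerSeries.coeff_truncTotal]
      have := congrArg Finsupp.degree (Finset.HasAntidiagonal.mem_antidiagonal.1 huv)
      rw [map_add, hx] at this
      omega
    · rfl

theorem comp_mem {a : Ideal S} (ha : a.IsHomogeneous 𝒜) {f : P} (hf : f ∈ cl a) (N : ℕ) :
    comp N f ∈ a := by
  induction hf using Submodule.closure_induction generalizing N with
  | zero => simp
  | add x y _ _ hx hy => rw [map_add]; exact add_mem (hx N) (hy N)
  | smul_mem r x hx =>
    obtain ⟨g, hg, rfl⟩ := hx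
    rw [smul_eq_mul, coeToMvPowerSeries.ringHom_apply, comp_mul_coe]
    exact homogeneousComponent_mem_of_mem ha (a.mul_mem_left _ hg) N

theorem exists_homogeneous_span {a : Ideal S} (ha : a.IsHomogeneous 𝒜) :
    ∃ G : Finset S, (∀ g ∈ G, ∃ d, g.IsHomogeneous d) ∧ Ideal.span (G : Set S) = a := by
  classical
  obtain ⟨t, ht⟩ : a.FG := IsNoetherian.noetherian a
  refine ⟨t.biUnion fun f => (Finset.range (f.totalDegree + 1)).image fun i => homogeneousComponent i f,
    fun g hg => ?_, le_antisymm (Ideal.span_le.2 fun g hg => ?_) ?_⟩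
  · obtain ⟨f, -, hg⟩ := Finset.mem_biUnion.1 hg
    obtain ⟨i, -, rfl⟩ := Finset.mem_image.1 hg
    exact ⟨i, homogeneousComponent_isHomogeneous i f⟩
  · obtain ⟨f, hf, hg⟩ := Finset.mem_biUnion.1 hg
    obtain ⟨i, -, rfl⟩ := Finset.mem_image.1 hg
    exact homogeneousComponent_mem_of_mem ha (ht ▸ Ideal.subset_span hf) i
  · rw [← ht]
    refine Ideal.span_le.2 fun f hf => ?_
    have h := Ideal.sum_mem (Ideal.span (↑(t.biUnion fun f : S => (Finset.range (f.totalDegree + 1)).image
      fun i => homogeneousComponent i f) : Set S)) fun i (hi : i ∈ Finset.range (f.totalDegree + 1)) =>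
      Ideal.subset_span (Finset.mem_biUnion.2 ⟨f, hf, Finset.mem_image.2 ⟨i, hi, rfl⟩⟩)
    rwa [sum_homogeneousComponent] at h

theorem mem_cl_of_comp_mem {a : Ideal S} (ha : a.IsHomogeneous 𝒜) {f : P}
    (h : ∀ N, comp N f ∈ a) : f ∈ cl a := by
  classical
  obtain ⟨G, hG, hGa⟩ := exists_homogeneous_span ha
  let d : S → ℕ := fun g => if hg : g ∈ G then (hG g hg).choose else 0
  have hd : ∀ g ∈ G, g.IsHomogeneous (d g) := fun g hg => by
    simp only [d, dif_pos hg]; exact (hG g hg).choose_spec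
  choose r hr using fun N => Submodule.mem_span_finset'.1 (show comp N f ∈ Submodule.span S (G : Set S) by
    rw [Ideal.span] at hGa; rw [hGa]; exact h N)
  let c : ↥G → P := fun g x => (r (x.degree + d g.1) g).coeff x
  suffices f = ∑ g : ↥G, c g * ((g.1 : S) : P) by
    rw [this]
    exact Ideal.sum_mem _ fun g _ => Ideal.mul_mem_left _ _
      (Ideal.mem_map_of_mem coeToMvPowerSeries.ringHom (hGa ▸ Ideal.subset_span g.2))
  refine MvPowerSeries.ext fun y => ?_
  have h1 : MvPowerSeries.coeff y f = (∑ g : ↥G, r y.degree g * (g.1 : S)).coeff y := by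
    rw [show (∑ g : ↥G, r y.degree g * (g.1 : S)) = comp y.degree f from hr _, coeff_comp, if_pos rfl]
  rw [h1, map_sum, MvPolynomial.coeff_sum]
  refine Finset.sum_congr rfl fun g _ => ?_
  rw [MvPolynomial.coeff_mul, MvPowerSeries.coeff_mul]
  refine Finset.sum_congr rfl fun uv huv => ?_
  rw [MvPolynomial.coeff_coe]
  by_cases hv : g.1.coeff uv.2 = 0
  · simp [hv]
  · have h2 : uv.2.degree = d g.1 := by rw [Finsupp.degree_eq_weight_one]; exact hd g.1 g.2 hv
    have h3 := congrArg Finsupp.degree (Finset.HasAntidiagonal.mem_antidiagonal.1 huv)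
    rw [map_add, h2] at h3
    show _ = (r (uv.1.degree + d g.1) g).coeff uv.1 * _
    rw [h3]

theorem mem_cl_iff {a : Ideal S} (ha : a.IsHomogeneous 𝒜) {f : P} :
    f ∈ cl a ↔ ∀ N, comp N f ∈ a :=
  ⟨fun h => comp_mem ha h, mem_cl_of_comp_mem ha⟩

theorem coe_mem_cl_iff {a : Ideal S} (ha : a.IsHomogeneous 𝒜) {g : S} : (g : P) ∈ cl a ↔ g ∈ a := by
  rw [mem_cl_iff ha, mem_iff_homogeneousComponent_mem ha]
  simp only [comp_coe]

theorem comap_cl {a : Ideal S} (ha : a.IsHomogeneous 𝒜) :
    (cl a).comap coeToMvPowerSeries.ringHom = a :=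
  Ideal.ext fun g => coe_mem_cl_iff ha

theorem cl_mono {a b : Ideal S} (h : a ≤ b) : cl a ≤ cl b := Ideal.map_mono h

theorem cl_le_cl_iff {a b : Ideal S} (hb : b.IsHomogeneous 𝒜) : cl a ≤ cl b ↔ a ≤ b :=
  Ideal.map_le_iff_le_comap.trans (by rw [comap_cl hb])

theorem coe_comp (N : ℕ) (f : P) : ((comp N f : S) : P) = MvPowerSeries.homogeneousComponent N f :=
  MvPowerSeries.ext fun x => by
    rw [MvPolynomial.coeff_coe, coeff_comp, MvPowerSeries.coeff_homogeneousComponent]

theorem comp_mul_of_lower {f g : P} {N M : ℕ} (hf : ∀ i < N, comp i f = 0) (hg : ∀ i < M, comp i g = 0) :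
    comp (N + M) (f * g) = comp N f * comp M g := by
  have ord : ∀ (q : P) (k : ℕ), (∀ i < k, comp i q = 0) → (k : ℕ∞) ≤ q.order := fun q k hq => by
    refine MvPowerSeries.nat_le_order fun x hx => ?_
    have h1 : (comp x.degree q).coeff x = 0 := by rw [hq _ hx, MvPolynomial.coeff_zero]
    rwa [coeff_comp, if_pos rfl] at h1
  apply MvPolynomial.coe_injective
  rw [MvPolynomial.coe_mul, coe_comp, coe_comp, coe_comp]
  exact MvPowerSeries.homogeneousComponent_mul_of_le_order (ord f N hf) (ord g M hg)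

theorem cl_isPrime {p : Ideal S} (hp : p.IsPrime) (hh : p.IsHomogeneous 𝒜) : (cl p).IsPrime := by
  classical
  refine ⟨fun e => hp.ne_top ?_, fun {f g} hfg => ?_⟩
  · rw [← comap_cl hh, e, Ideal.comap_top]
  by_contra hc
  push Not at hc
  -- reduce to series whose lower components vanish
  have red : ∀ q : P, q ∉ cl p → ∃ N q', q - q' ∈ cl p ∧ (∀ i < N, comp i q' = 0) ∧ comp N q' ∉ p := by
    intro q hq
    have hex : ∃ N, comp N q ∉ p := by
      by_contra h
      push Not at h
      exact hq (mem_cl_of_comp_mem hh h)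
    let N := Nat.find hex
    let t : S := MvPowerSeries.truncTotal N q
    have hct : ∀ i, homogeneousComponent i t = if i < N then comp i q else 0 := fun i =>
      MvPolynomial.ext _ _ fun x => by
        rw [MvPolynomial.coeff_homogeneousComponent]
        split_ifs with h1 h2 h2
        · rw [coeff_comp, if_pos h1, MvPowerSeries.coeff_truncTotal _ (by omega)]
        · rw [MvPolynomial.coeff_zero, MvPowerSeries.coeff_truncTotal_eq_zero _ (by omega)]
        · rw [coeff_comp, if_neg h1]
        · rw [MvPolynomial.coeff_zero]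
    have ht : t ∈ p := (mem_iff_homogeneousComponent_mem hh t).2 fun i => by
      rw [hct]
      split_ifs with h
      · exact not_not.1 (Nat.find_min hex h)
      · exact zero_mem _
    refine ⟨N, q - (t : P), ?_, fun i hi => ?_, ?_⟩
    · rw [sub_sub_cancel]
      exact (coe_mem_cl_iff hh).2 ht
    · rw [map_sub, comp_coe, hct, if_pos hi, sub_self]
    · rw [map_sub, comp_coe, hct, if_neg (lt_irrefl N), sub_zero]
      exact Nat.find_spec hex
  obtain ⟨N, f', hf1, hf2, hf3⟩ := red f hc.1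
  obtain ⟨M, g', hg1, hg2, hg3⟩ := red g hc.2
  have h : f' * g' ∈ cl p := by
    have : f' * g' = f * g - ((f - f') * g + f' * (g - g')) := by ring
    rw [this]
    exact sub_mem hfg (add_mem (Ideal.mul_mem_right _ _ hf1) (Ideal.mul_mem_left _ _ hg1))
  have h2 := comp_mem hh h (N + M)
  rw [comp_mul_of_lower hf2 hg2] at h2
  exact (hp.mem_or_mem h2).elim hf3 hg3

theorem isHomogeneous_of_mem_minimalPrimes {I q : Ideal S} (hI : I.IsHomogeneous 𝒜)
    (hq : q ∈ I.minimalPrimes) : q.IsHomogeneous 𝒜 := by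
  have h1 : (q.homogeneousCore 𝒜).toIdeal.IsPrime := Ideal.IsPrime.homogeneousCore hq.1.1
  have h2 : I ≤ (q.homogeneousCore 𝒜).toIdeal := by
    conv_lhs => rw [← hI.toIdeal_homogeneousCore_eq_self]
    exact fun x hx => Ideal.homogeneousCore_mono 𝒜 hq.1.2 hx
  rw [Ideal.IsHomogeneous.iff_eq]
  exact le_antisymm (Ideal.toIdeal_homogeneousCore_le 𝒜 q) (hq.2 ⟨h1, h2⟩ (Ideal.toIdeal_homogeneousCore_le 𝒜 q))

theorem isHomogeneous_finsetInf {ι : Type*} {A : Finset ι} {f : ι → Ideal S}
    (h : ∀ i ∈ A, (f i).IsHomogeneous 𝒜) : (A.inf f).IsHomogeneous 𝒜 := by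
  classical
  induction A using Finset.induction with
  | empty => rw [Finset.inf_empty]; exact Ideal.IsHomogeneous.top 𝒜
  | insert i A _ ih =>
    rw [Finset.inf_insert]
    exact (h i (Finset.mem_insert_self i A)).inf (ih fun j hj => h j (Finset.mem_insert_of_mem hj))

theorem dim_map_mk {R : Type u} [CommRing R] (p a : Ideal R) :
    ringKrullDim ((R ⧸ p) ⧸ a.map (Ideal.Quotient.mk p)) = ringKrullDim (R ⧸ (a ⊔ p)) :=
  ringKrullDim_eq_of_ringEquiv ((DoubleQuot.quotQuotEquivQuotSup p a).trans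
    (Ideal.quotEquivOfEq (sup_comm p a)))

theorem le_of_add_one_le {x : WithBot ℕ∞} {d : ℕ} (h : x + 1 ≤ ((d + 1 : ℕ) : WithBot ℕ∞)) :
    x ≤ (d : WithBot ℕ∞) := by
  cases x with
  | bot => exact bot_le
  | coe v =>
    cases v with
    | top => exact absurd (WithBot.coe_le_coe.1 h) (not_le.2 (ENat.coe_lt_top _))
    | coe n =>
      have : n + 1 ≤ d + 1 := by exact_mod_cast h
      exact_mod_cast (show n ≤ d by omega)

variable (K m) in
/-- The ideal of the origin. -/
noncomputable def origin : Ideal S := RingHom.ker (MvPolynomial.constantCoeff (σ := Fin m) (R := K))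

instance origin_isMaximal : (origin K m).IsMaximal :=
  RingHom.ker_isMaximal_of_surjective _ fun c => ⟨MvPolynomial.C c, MvPolynomial.constantCoeff_C _ c⟩

theorem le_origin {I : Ideal S} (hI : I.IsHomogeneous 𝒜) (hne : I ≠ ⊤) : I ≤ origin K m := by
  intro f hf
  by_contra hc
  have h0 := homogeneousComponent_mem_of_mem hI hf 0
  rw [MvPolynomial.homogeneousComponent_zero] at h0
  exact hne (Ideal.eq_top_of_isUnit_mem _ h0 ((isUnit_iff_ne_zero.2 (fun h => hc h)).map MvPolynomial.C))

theorem origin_le {I : Ideal S} (h : ∀ i, MvPolynomial.X i ∈ I) : origin K m ≤ I := by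
  intro f hf
  have h1 : f ∈ Ideal.span (MvPolynomial.X '' (Set.univ : Set (Fin m))) := by
    rw [MvPolynomial.mem_ideal_span_X_image]
    intro x hx
    by_contra hc
    simp only [Set.mem_univ, true_and, not_exists, not_not] at hc
    have : x = 0 := Finsupp.ext fun i => hc i
    rw [this, MvPolynomial.mem_support_iff, ← MvPolynomial.constantCoeff_eq] at hx
    exact hx (RingHom.mem_ker.1 hf)
  exact Ideal.span_le.2 (by rintro _ ⟨i, -, rfl⟩; exact h i) h1

theorem maximalIdeal_le_cl_origin : maximalIdeal P ≤ cl (origin K m) := by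
  intro f hf
  have hh : (origin K m).IsHomogeneous 𝒜 := by
    intro i f hf
    rw [show (DirectSum.decompose 𝒜 f i : S) = MvPolynomial.homogeneousComponent i f from
      MvPolynomial.decomposition.decompose'_apply f i]
    refine RingHom.mem_ker.2 ?_
    rw [MvPolynomial.constantCoeff_eq, MvPolynomial.coeff_homogeneousComponent]
    split_ifs
    · rw [← MvPolynomial.constantCoeff_eq]; exact hf
    · rfl
  refine mem_cl_of_comp_mem hh fun N => RingHom.mem_ker.2 ?_
  rw [MvPolynomial.constantCoeff_eq, coeff_comp]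
  split_ifs
  · by_contra hc
    refine (mem_maximalIdeal f).1 hf (MvPowerSeries.isUnit_iff_constantCoeff.2 (isUnit_iff_ne_zero.2 ?_))
    rwa [← MvPowerSeries.coeff_zero_eq_constantCoeff_apply]
  · rfl

instance isNoetherian_powerSeries : IsNoetherianRing P := Cohen12.isNoetherianRing_powerSeries K m

theorem exists_minimal_cl_le {a : Ideal S} {Q : Ideal P} (hQ : Q.IsPrime) (h : cl a ≤ Q) :
    ∃ p ∈ a.minimalPrimes, cl p ≤ Q := by
  haveI := hQ
  obtain ⟨p, hp, hpQ⟩ := Ideal.exists_minimalPrimes_le (Ideal.map_le_iff_le_comap.1 h)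
  exact ⟨p, hp, Ideal.map_le_iff_le_comap.2 hpQ⟩

theorem exists_linear_form [Infinite K] (s : Finset (Ideal S)) (hs : ∀ p ∈ s, ¬ origin K m ≤ p) :
    ∃ ℓ : S, ℓ.IsHomogeneous 1 ∧ ∀ p ∈ s, ℓ ∉ p := by
  classical
  let L : (Fin m → K) →ₗ[K] S := Fintype.linearCombination K (fun i => (MvPolynomial.X i : S))
  let W : Ideal S → Subspace K (Fin m → K) := fun p => (p.restrictScalars K).comap L
  have htop : (⊤ : Subspace K (Fin m → K)) ∉ W '' (s : Set (Ideal S)) := by
    rintro ⟨p, hp, e⟩
    refine hs p hp (origin_le fun i => ?_)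
    have : Pi.single i 1 ∈ W p := by rw [e]; trivial
    simpa [W, L, Fintype.linearCombination_apply_single] using this
  haveI := (s.finite_toSet.image W).to_subtype
  obtain ⟨c, hc⟩ := Set.ne_univ_iff_exists_notMem _ |>.1
    (Subspace.biUnion_ne_univ_of_top_notMem (s := (s.image W : Finset _)) (by simpa using htop))
  refine ⟨L c, ?_, fun p hp hmem => hc (Set.mem_biUnion (Finset.mem_image_of_mem W hp) hmem)⟩
  rw [show L c = ∑ i, c i • (MvPolynomial.X i : S) from Fintype.linearCombination_apply K _ c]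
  exact MvPolynomial.IsHomogeneous.sum _ _ _ fun i _ =>
    Submodule.smul_mem (homogeneousSubmodule (Fin m) K 1) (c i) (MvPolynomial.isHomogeneous_X K i)

theorem dim_cl_le [Infinite K] (d : ℕ) : ∀ a : Ideal S, a.IsHomogeneous 𝒜 →
    ringKrullDim (S ⧸ a) ≤ (d : WithBot ℕ∞) → ringKrullDim (P ⧸ cl a) ≤ (d : WithBot ℕ∞) := by
  classical
  induction d with
  | zero =>
    intro a ha h
    refine ringKrullDim_quotient_le_iff.2 fun Q hQ hQa => ?_
    haveI := hQ
    obtain ⟨p, hp, hpQ⟩ := exists_minimal_cl_le hQ hQa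
    haveI := hp.1.1
    have hpm : p = origin K m := by
      by_contra hne
      have hlt := lt_of_le_of_ne (le_origin (isHomogeneous_of_mem_minimalPrimes ha hp) hp.1.1.ne_top) hne
      have h1 := (ringKrullDim_quotient_add_one_le hlt).trans (ringKrullDim_quotient_le_iff.1 h p hp.1.1 hp.1.2)
      rw [ringKrullDim_eq_zero_of_isField
        ((Ideal.Quotient.maximal_ideal_iff_isField_quotient _).1 inferInstance), zero_add] at h1
      have : (1 : ℕ) ≤ 0 := by exact_mod_cast h1
      omega
    have hQm : Q = maximalIdeal P :=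
      le_antisymm (le_maximalIdeal hQ.ne_top) (maximalIdeal_le_cl_origin.trans (hpm ▸ hpQ))
    subst hQm
    rw [ringKrullDim_eq_zero_of_isField
      ((Ideal.Quotient.maximal_ideal_iff_isField_quotient _).1 (maximalIdeal.isMaximal P))]
    exact le_of_eq (by simp)
  | succ d ih =>
    intro a ha h
    by_cases hat : a = ⊤
    · subst hat
      rw [show cl (⊤ : Ideal S) = ⊤ from Ideal.map_top _]
      haveI : Subsingleton (P ⧸ (⊤ : Ideal P)) := Ideal.Quotient.subsingleton_iff.2 rfl
      rw [ringKrullDim_eq_bot_of_subsingleton]; exact bot_le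
    have hfin := a.finite_minimalPrimes_of_isNoetherianRing S
    obtain ⟨ℓ, hℓ, hℓp⟩ := exists_linear_form (hfin.toFinset.filter fun p => ¬ origin K m ≤ p)
      (fun p hp => (Finset.mem_filter.1 hp).2)
    have ha' : (a ⊔ Ideal.span {ℓ}).IsHomogeneous 𝒜 :=
      ha.sup (Ideal.homogeneous_span _ _ (by rintro _ rfl; exact ⟨1, hℓ⟩))
    have h' : ringKrullDim (S ⧸ (a ⊔ Ideal.span {ℓ})) ≤ (d : WithBot ℕ∞) := by
      refine ringKrullDim_quotient_le_iff.2 fun Q hQ hle => ?_
      haveI := hQ
      obtain ⟨p, hp, hpQ⟩ := Ideal.exists_minimalPrimes_le (le_sup_left.trans hle)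
      haveI := hp.1.1
      by_cases hpm : origin K m ≤ p
      · have hQm : Q = origin K m :=
          (Ideal.IsMaximal.eq_of_le inferInstance hQ.ne_top (hpm.trans hpQ)).symm
        subst hQm
        rw [ringKrullDim_eq_zero_of_isField
          ((Ideal.Quotient.maximal_ideal_iff_isField_quotient _).1 inferInstance)]
        exact_mod_cast Nat.zero_le d
      · have hlt : p < Q := lt_of_le_of_ne hpQ fun e =>
          hℓp p (Finset.mem_filter.2 ⟨hfin.mem_toFinset.2 hp, hpm⟩)
            (e ▸ hle (Ideal.mem_sup_right (Ideal.mem_span_singleton_self ℓ)))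
        have h1 := (ringKrullDim_quotient_add_one_le hlt).trans (ringKrullDim_quotient_le_iff.1 h p hp.1.1 hp.1.2)
        exact le_of_add_one_le h1
    have hne : cl a ≠ ⊤ := fun e => hat (by rw [← comap_cl ha, e, Ideal.comap_top])
    have hℓm : (ℓ : P) ∈ maximalIdeal P := by
      refine (mem_maximalIdeal _).2 fun hu => ?_
      have := (MvPowerSeries.isUnit_iff_constantCoeff.1 hu).ne_zero
      rw [← MvPowerSeries.coeff_zero_eq_constantCoeff_apply, MvPolynomial.coeff_coe,
        hℓ.coeff_eq_zero (by simp)] at this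
      exact this rfl
    refine (ringKrullDim_quotient_le_succ hne hℓm).trans ?_
    have e : cl a ⊔ Ideal.span {(ℓ : P)} = cl (a ⊔ Ideal.span {ℓ}) := by
      rw [cl, cl, Ideal.map_sup, Ideal.map_span, Set.image_singleton]
      rfl
    rw [e, Nat.cast_succ]
    exact add_le_add_left (ih _ ha' h') 1

theorem minimal_cl {b p : Ideal S} (hb : b.IsHomogeneous 𝒜) (hp : p ∈ b.minimalPrimes) :
    cl p ∈ (cl b).minimalPrimes := by
  have hph := isHomogeneous_of_mem_minimalPrimes hb hp
  refine ⟨⟨cl_isPrime hp.1.1 hph, cl_mono hp.1.2⟩, fun Q hQ hQp => ?_⟩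
  obtain ⟨p0, hp0, hp0Q⟩ := exists_minimal_cl_le hQ.1 hQ.2
  have h1 : p0 ≤ p := (cl_le_cl_iff hph).1 (hp0Q.trans hQp)
  exact (cl_mono (hp.2 hp0.1 h1)).trans hp0Q

theorem minimalPrimes_quot_cl {b : Ideal S} (hb : b.IsHomogeneous 𝒜) {Q : Ideal (P ⧸ cl b)} :
    Q ∈ minimalPrimes (P ⧸ cl b) ↔ ∃ p ∈ b.minimalPrimes, Q = (cl p).map (Ideal.Quotient.mk (cl b)) := by
  have hs : Function.Surjective (Ideal.Quotient.mk (cl b)) := Ideal.Quotient.mk_surjective
  have key : ((⊥ : Ideal (P ⧸ cl b)).comap (Ideal.Quotient.mk (cl b))).minimalPrimes =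
      Ideal.comap (Ideal.Quotient.mk (cl b)) '' minimalPrimes (P ⧸ cl b) :=
    Ideal.comap_minimalPrimes_eq_of_surjective hs _
  rw [← RingHom.ker_eq_comap_bot, Ideal.mk_ker] at key
  constructor
  · intro hQ
    have h : Q.comap (Ideal.Quotient.mk (cl b)) ∈ (cl b).minimalPrimes := key ▸ ⟨Q, hQ, rfl⟩
    obtain ⟨p, hp, hpQ⟩ := exists_minimal_cl_le h.1.1 h.1.2
    refine ⟨p, hp, ?_⟩
    rw [← le_antisymm (h.2 (minimal_cl hb hp).1 hpQ) hpQ, Ideal.map_comap_of_surjective _ hs]
  · rintro ⟨p, hp, rfl⟩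
    obtain ⟨Q, hQ, e⟩ := key ▸ minimal_cl hb hp
    rwa [← e, Ideal.map_comap_of_surjective _ hs]

/-- The connectedness dimension does not grow under completion at the vertex of a cone. -/
theorem connDim_cl_le [Infinite K] {b : Ideal S} (hb : b.IsHomogeneous 𝒜) (hb1 : b ≠ ⊤) :
    LocCoh.connDim (PrimeSpectrum (P ⧸ cl b)) ≤ LocCoh.connDim (PrimeSpectrum (S ⧸ b)) := by
  classical
  haveI : Nontrivial (S ⧸ b) := Ideal.Quotient.nontrivial_iff.2 hb1
  obtain ⟨A, B, ⟨hA, hB, hAm, hBm, hAB⟩, hle⟩ := exists_connDim_attained (R := S ⧸ b)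
  have hmin : ∀ p ∈ minimalPrimes (S ⧸ b), p.comap (Ideal.Quotient.mk b) ∈ b.minimalPrimes := fun p hp => by
    have h1 : p.comap (Ideal.Quotient.mk b) ∈
        ((⊥ : Ideal (S ⧸ b)).comap (Ideal.Quotient.mk b)).minimalPrimes := by
      rw [Ideal.comap_minimalPrimes_eq_of_surjective Ideal.Quotient.mk_surjective]
      exact ⟨p, hp, rfl⟩
    rwa [← RingHom.ker_eq_comap_bot, Ideal.mk_ker] at h1
  let F : Ideal (S ⧸ b) → Ideal (P ⧸ cl b) := fun p =>
    (cl (p.comap (Ideal.Quotient.mk b))).map (Ideal.Quotient.mk (cl b))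
  have hF : ∀ D : Finset (Ideal (S ⧸ b)), (∀ p ∈ D, p ∈ minimalPrimes (S ⧸ b)) →
      ∀ Q ∈ D.image F, Q ∈ minimalPrimes (P ⧸ cl b) := fun D hD Q hQ => by
    obtain ⟨p, hp, rfl⟩ := Finset.mem_image.1 hQ
    exact (minimalPrimes_quot_cl hb).2 ⟨_, hmin p (hD p hp), rfl⟩
  have hcov : ∀ Q ∈ minimalPrimes (P ⧸ cl b), Q ∈ A.image F ∨ Q ∈ B.image F := fun Q hQ => by
    obtain ⟨p, hp, rfl⟩ := (minimalPrimes_quot_cl hb).1 hQ
    have h1 : p ∈ Ideal.comap (Ideal.Quotient.mk b) '' minimalPrimes (S ⧸ b) := by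
      rw [show minimalPrimes (S ⧸ b) = (⊥ : Ideal (S ⧸ b)).minimalPrimes from rfl,
        ← Ideal.comap_minimalPrimes_eq_of_surjective Ideal.Quotient.mk_surjective,
        ← RingHom.ker_eq_comap_bot, Ideal.mk_ker]
      exact hp
    obtain ⟨p', hp', rfl⟩ := h1
    exact (hAB p' hp').imp (fun h => Finset.mem_image_of_mem F h) (fun h => Finset.mem_image_of_mem F h)
  refine (connDim_le_quot _ _ (hA.image F) (hB.image F) (hF A hAm) (hF B hBm) hcov).trans (le_trans ?_ hle)
  let e : Ideal S := (A.inf fun p => p.comap (Ideal.Quotient.mk b)) ⊔ (B.inf fun p => p.comap (Ideal.Quotient.mk b))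
  have he : e.IsHomogeneous 𝒜 :=
    (isHomogeneous_finsetInf fun p hp => isHomogeneous_of_mem_minimalPrimes hb (hmin p (hAm p hp))).sup
      (isHomogeneous_finsetInf fun p hp => isHomogeneous_of_mem_minimalPrimes hb (hmin p (hBm p hp)))
  have hsub : (cl e).map (Ideal.Quotient.mk (cl b)) ≤ (A.image F).inf id ⊔ (B.image F).inf id := by
    rw [show cl e = cl _ ⊔ cl _ from Ideal.map_sup .., Ideal.map_sup]
    refine sup_le_sup ?_ ?_ <;>
    · rw [Finset.inf_image]
      exact Finset.le_inf fun p hp => Ideal.map_mono (Ideal.map_mono (Finset.inf_le hp))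
  have hbe : b ≤ e := by
    refine le_trans ?_ le_sup_left
    refine Finset.le_inf fun p _ => ?_
    intro x hx
    simp [Ideal.mem_comap, Ideal.Quotient.eq_zero_iff_mem.2 hx]
  have heq : e.map (Ideal.Quotient.mk b) = A.inf id ⊔ B.inf id := by
    have h0 : ∀ D : Finset (Ideal (S ⧸ b)),
        (D.inf fun p => p.comap (Ideal.Quotient.mk b)) = (D.inf id).comap (Ideal.Quotient.mk b) := fun D => by
      induction D using Finset.induction with
      | empty => simp
      | insert i D _ ih => rw [Finset.inf_insert, Finset.inf_insert, Ideal.comap_inf, ih, id]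
    rw [Ideal.map_sup, h0, h0, Ideal.map_comap_of_surjective _ Ideal.Quotient.mk_surjective,
      Ideal.map_comap_of_surjective _ Ideal.Quotient.mk_surjective]
  refine (ringKrullDim_quotient_anti hsub).trans ?_
  rw [dim_map_mk, sup_eq_left.2 (cl_mono hbe), ← heq, dim_map_mk, sup_eq_left.2 hbe]
  cases hx : ringKrullDim (S ⧸ e) with
  | bot =>
    haveI : Subsingleton (S ⧸ e) := by
      rw [← not_nontrivial_iff_subsingleton]
      intro h
      exact absurd (hx ▸ ringKrullDim_nonneg_of_nontrivial (R := S ⧸ e)) (by simp)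
    have : e = ⊤ := Ideal.Quotient.subsingleton_iff.1 inferInstance
    rw [this, show cl (⊤ : Ideal S) = ⊤ from Ideal.map_top _]
    haveI : Subsingleton (P ⧸ (⊤ : Ideal P)) := Ideal.Quotient.subsingleton_iff.2 rfl
    rw [ringKrullDim_eq_bot_of_subsingleton]
  | coe v =>
    cases v with
    | top => exact le_top
    | coe n => exact dim_cl_le n e he (le_of_eq hx)

/-- A chain of homogeneous primes bounds below the dimension after completion. -/
theorem length_le_dim {b : Ideal S} {J : Ideal (P ⧸ cl b)}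
    (l : LTSeries {p : Ideal S // p.IsPrime ∧ p.IsHomogeneous 𝒜})
    (hb : b ≤ l.head.1) (hJ : J ≤ (cl l.head.1).map (Ideal.Quotient.mk (cl b))) :
    (l.length : WithBot ℕ∞) ≤ ringKrullDim ((P ⧸ cl b) ⧸ J) := by
  refine le_trans ?_ (ringKrullDim_quotient_anti hJ)
  rw [dim_map_mk, sup_eq_left.2 (cl_mono hb), ringKrullDim_quotient, Order.le_krullDim_iff]
  let g : {p : Ideal S // p.IsPrime ∧ p.IsHomogeneous 𝒜} → PrimeSpectrum P :=
    fun p => ⟨cl p.1, cl_isPrime p.2.1 p.2.2⟩
  refine ⟨⟨l.length, fun i => ⟨g (l i), cl_mono (LTSeries.head_le l i : l.head ≤ l i)⟩,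
    fun i => lt_of_le_not_ge (cl_mono (l.step i).le)
      fun h => (l.step i).not_ge ((cl_le_cl_iff (l _).2.2).1 h)⟩, rfl⟩

end Groth.Agent.LC17.Cone
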