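import Groth.Agent.LC17.QuotDim
import Groth.Agent.LC17.Represent
import Groth.Agent.LC15.NonVanish
import Groth.Agent.LC15.OfLE
import Groth.Agent.LC15.Cd
import Groth.Agent.LC16.ChangeRings
import Groth.Agent.LC16.MayerVietoris
import Groth.Agent.Cohen12.Structure

/-!
# Connectedness bounds from Hartshorne–Lichtenbaum vanishing
-/

set_option autoImplicit false

universe u

open IsLocalRing CategoryTheory Groth.Agent.LC15

namespace Groth.Agent.LC17

/-- Hartshorne–Lichtenbaum vanishing for complete local domains. -/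
def HLDomain : Prop :=
  ∀ (R : Type u) [CommRing R] [IsDomain R] [IsNoetherianRing R] [IsLocalRing R]
    [IsAdicComplete (maximalIdeal R) R] (n : ℕ), ringKrullDim R = n →
    ∀ I : Ideal R, 0 < ringKrullDim (R ⧸ I) → Subsingleton (LocCoh.H I n R)

variable {R : Type u} [CommRing R] [IsNoetherianRing R] [IsLocalRing R]

omit [IsLocalRing R] in
theorem cdLE_of_radical_eq {I J : Ideal R} (hIJ : I ≤ J) (hJ : J ≤ I.radical) {k : ℕ}
    (h : LocCoh.CdLE R I k) : LocCoh.CdLE R J k := fun M _ _ i hi =>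
  haveI := h M i hi
  (Equiv.ofBijective _ (HofLE_bijective_radical hIJ i (M := M) hJ)).subsingleton

theorem maximalIdeal_le_radical_of_dim_le_zero {J : Ideal R}
    (h : ringKrullDim (R ⧸ J) ≤ ((0 : ℕ) : WithBot ℕ∞)) : maximalIdeal R ≤ J.radical := by
  rw [Ideal.radical_eq_sInf]
  refine le_sInf fun Q hQ => ?_
  haveI := hQ.2
  by_contra hm
  have hlt : Q < maximalIdeal R := lt_of_le_of_ne (le_maximalIdeal hQ.2.ne_top) fun e => hm e.ge
  have h1 := (ringKrullDim_quotient_add_one_le hlt).trans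
    (ringKrullDim_quotient_le_iff.1 h Q hQ.2 hQ.1)
  rw [ringKrullDim_eq_zero_of_isField ((Ideal.Quotient.maximal_ideal_iff_isField_quotient _).1
    (maximalIdeal.isMaximal R))] at h1
  norm_num at h1

/-- `dim R/q ≤ cd(J) + dim R/(J+q)` -/
theorem dim_le_cd_add (q : Ideal R) [q.IsPrime] :
    ∀ (δ : ℕ) (J : Ideal R), J ≤ maximalIdeal R → ∀ k : ℕ, LocCoh.CdLE R J k →
      ringKrullDim (R ⧸ (J ⊔ q)) ≤ (δ : WithBot ℕ∞) →
      ringKrullDim (R ⧸ q) ≤ ((k + δ : ℕ) : WithBot ℕ∞) := by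
  intro δ
  induction δ with
  | zero =>
    intro J hJ k hk h
    obtain ⟨n, hn⟩ := exists_ringKrullDim_quotient_eq (I := q) (Ideal.IsPrime.ne_top ‹_›)
    rw [hn]
    by_contra hc
    have hlt : k < n := by
      by_contra h'
      exact hc (by exact_mod_cast (show n ≤ k + 0 by omega))
    haveI := hk (R ⧸ q) n hlt
    haveI : Nontrivial (LocCoh.H (maximalIdeal R) n (R ⧸ q)) :=
      nontrivial_H_supportDim n (R ⧸ q) (by rw [Module.supportDim_quotient_eq_ringKrullDim, hn])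
    have htors : LocCoh.IsPowerTorsion q (R ⧸ q) := fun m => ⟨1, fun a ha => by
      rw [pow_one] at ha
      obtain ⟨m, rfl⟩ := Ideal.Quotient.mk_surjective m
      exact Ideal.Quotient.eq_zero_iff_mem.2 (q.mul_mem_right m ha)⟩
    have hb := HofLE_bijective hJ q (maximalIdeal_le_radical_of_dim_le_zero h) n (R ⧸ q) htors
    haveI := (Equiv.ofBijective _ hb).subsingleton
    exact not_subsingleton (LocCoh.H (maximalIdeal R) n (R ⧸ q)) inferInstance
  | succ δ ih =>
    intro J hJ k hk h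
    obtain ⟨y, hy, hyd⟩ := exists_mem_ringKrullDim_quotient_le h
    have h1 := ih (J ⊔ Ideal.span {y}) (sup_le hJ ((Ideal.span_singleton_le_iff_mem _).2 hy)) (k + 1)
      (cdLE_sup hk (cdLE_principal y)) (by rwa [sup_right_comm])
    rwa [show k + 1 + δ = k + (δ + 1) by omega] at h1

/-- the bound for domains -/
theorem dim_le_of_disconnect (hHL : HLDomain.{u}) [IsDomain R] [IsAdicComplete (maximalIdeal R) R]
    (n : ℕ) (hn : ringKrullDim R = n) :
    ∀ (δ : ℕ) (a b : Ideal R), a ≤ maximalIdeal R → b ≤ maximalIdeal R → ∀ k : ℕ,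
      LocCoh.CdLE R (a ⊓ b) k → ringKrullDim (R ⧸ (a ⊔ b)) ≤ (δ : WithBot ℕ∞) →
      (δ : WithBot ℕ∞) < ringKrullDim (R ⧸ a) → (δ : WithBot ℕ∞) < ringKrullDim (R ⧸ b) →
      n ≤ k + δ + 1 := by
  intro δ
  induction δ with
  | zero =>
    intro a b ha hb k hk h ha' hb'
    by_contra hc
    obtain ⟨e, rfl⟩ : ∃ e, n = e + 1 := ⟨n - 1, by omega⟩
    haveI := hHL R (e + 1) hn a (by simpa using ha')
    haveI := hHL R (e + 1) hn b (by simpa using hb')
    haveI := hk R e (by omega)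
    have hzero : ∀ y : LocCoh.H (a ⊔ b) (e + 1) R, y = 0 := fun y => by
      have hy : y ∈ LinearMap.range (LC16.MayerVietoris.δ a b (injectiveResolution (ModuleCat.of R R)) e) := by
        rw [← LC16.MayerVietoris.ker_pair, LinearMap.mem_ker]
        exact Prod.ext (Subsingleton.elim _ _) (Subsingleton.elim _ _)
      obtain ⟨z, rfl⟩ := hy
      rw [Subsingleton.elim z 0, map_zero]
    haveI : Subsingleton (LocCoh.H (a ⊔ b) (e + 1) R) := ⟨fun x y => by rw [hzero x, hzero y]⟩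
    haveI : Nontrivial (LocCoh.H (maximalIdeal R) (e + 1) R) :=
      nontrivial_H_supportDim (e + 1) R (by rw [Module.supportDim_self_eq_ringKrullDim, hn])
    haveI := (Equiv.ofBijective _ (HofLE_bijective_radical (sup_le ha hb) (e + 1) (M := R)
      (maximalIdeal_le_radical_of_dim_le_zero h))).subsingleton
    exact not_subsingleton (LocCoh.H (maximalIdeal R) (e + 1) R) inferInstance
  | succ δ ih =>
    intro a b ha hb k hk h ha' hb'
    obtain ⟨y, hy, hyd⟩ := exists_mem_ringKrullDim_quotient_le h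
    have hys : Ideal.span {y} ≤ maximalIdeal R := (Ideal.span_singleton_le_iff_mem _).2 hy
    have hstep : ∀ I : Ideal R, I ≤ maximalIdeal R → ((δ + 1 : ℕ) : WithBot ℕ∞) < ringKrullDim (R ⧸ I) →
        (δ : WithBot ℕ∞) < ringKrullDim (R ⧸ (I ⊔ Ideal.span {y})) := by
      intro I hI hI'
      have hne : I ⊔ Ideal.span {y} ≠ ⊤ := fun e =>
        (maximalIdeal.isMaximal R).ne_top (top_le_iff.1 (e ▸ sup_le hI hys))
      obtain ⟨c, hc⟩ := exists_ringKrullDim_quotient_eq hne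
      obtain ⟨d, hd⟩ := exists_ringKrullDim_quotient_eq (I := I) (fun e =>
        (maximalIdeal.isMaximal R).ne_top (top_le_iff.1 (e ▸ hI)))
      have h2 := ringKrullDim_quotient_le_succ (I := I) (fun e =>
        (maximalIdeal.isMaximal R).ne_top (top_le_iff.1 (e ▸ hI))) hy
      rw [hd] at hI' h2
      rw [hc] at h2 ⊢
      have e1 : δ + 1 < d := by exact_mod_cast hI'
      have e2 : d ≤ c + 1 := by exact_mod_cast h2
      exact_mod_cast (show δ < c by omega)
    have hle : a ⊓ b ⊔ Ideal.span {y} ≤ (a ⊔ Ideal.span {y}) ⊓ (b ⊔ Ideal.span {y}) :=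
      sup_le (inf_le_inf le_sup_left le_sup_left) (le_inf le_sup_right le_sup_right)
    have hrad : (a ⊔ Ideal.span {y}) ⊓ (b ⊔ Ideal.span {y}) ≤ (a ⊓ b ⊔ Ideal.span {y}).radical :=
      fun x hx => ⟨2, by
        rw [pow_two]
        have hm : x * x ∈ (a ⊔ Ideal.span {y}) * (b ⊔ Ideal.span {y}) := Ideal.mul_mem_mul hx.1 hx.2
        refine (?_ : (a ⊔ Ideal.span {y}) * (b ⊔ Ideal.span {y}) ≤ a ⊓ b ⊔ Ideal.span {y}) hm
        rw [Ideal.sup_mul, Ideal.mul_sup]
        exact sup_le (sup_le (le_sup_of_le_left Ideal.mul_le_inf) (le_sup_of_le_right (Ideal.mul_le_inf.trans inf_le_right)))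
          (le_sup_of_le_right (Ideal.mul_le_inf.trans inf_le_left))⟩
    have h1 := ih (a ⊔ Ideal.span {y}) (b ⊔ Ideal.span {y}) (sup_le ha hys) (sup_le hb hys) (k + 1)
      (cdLE_of_radical_eq hle hrad (cdLE_sup hk (cdLE_principal y)))
      (by rwa [← sup_sup_distrib_right]) (hstep a ha ha') (hstep b hb hb')
    omega

omit [IsNoetherianRing R] [IsLocalRing R] in
theorem map_inf_radical {S : Type u} [CommRing S] (f : R →+* S) (a b : Ideal R) :
    (a.map f ⊓ b.map f) ≤ ((a ⊓ b).map f).radical := fun x hx => ⟨2, by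
  rw [pow_two]
  have hm : x * x ∈ a.map f * b.map f := Ideal.mul_mem_mul hx.1 hx.2
  rw [← Ideal.map_mul] at hm
  exact Ideal.map_mono Ideal.mul_le_inf hm⟩

theorem isLocalRing_quotient (p : Ideal R) [p.IsPrime] : IsLocalRing (R ⧸ p) :=
  IsLocalRing.of_surjective' (Ideal.Quotient.mk p) Ideal.Quotient.mk_surjective

theorem map_mk_le_maximalIdeal (p : Ideal R) [p.IsPrime] [IsLocalRing (R ⧸ p)] {a : Ideal R}
    (ha : a ≤ maximalIdeal R) : a.map (Ideal.Quotient.mk p) ≤ maximalIdeal (R ⧸ p) := by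
  refine le_maximalIdeal fun e => (maximalIdeal.isMaximal R).ne_top (top_le_iff.1 ?_)
  have h1 := congrArg (Ideal.comap (Ideal.Quotient.mk p)) e
  rw [Ideal.comap_map_of_surjective _ Ideal.Quotient.mk_surjective, Ideal.comap_top,
    ← RingHom.ker_eq_comap_bot, Ideal.mk_ker] at h1
  exact h1 ▸ sup_le ha (le_maximalIdeal (Ideal.IsPrime.ne_top ‹_›))

theorem ringKrullDim_map_mk (p a : Ideal R) :
    ringKrullDim ((R ⧸ p) ⧸ a.map (Ideal.Quotient.mk p)) = ringKrullDim (R ⧸ (a ⊔ p)) :=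
  ringKrullDim_eq_of_ringEquiv ((DoubleQuot.quotQuotEquivQuotSup p a).trans
    (Ideal.quotEquivOfEq (sup_comm p a)))

theorem cdLE_map_mk (p : Ideal R) {J : Ideal R} {k : ℕ} (hk : LocCoh.CdLE R J k) :
    LocCoh.CdLE (R ⧸ p) (J.map (Ideal.Quotient.mk p)) k := fun M _ _ i hi => by
  letI : Module R M := Module.compHom M (Ideal.Quotient.mk p)
  haveI : IsScalarTower R (R ⧸ p) M := IsScalarTower.of_algebraMap_smul fun r m => rfl
  obtain ⟨φ, -⟩ := LC16.ChangeRings.exists_equiv (R' := R ⧸ p) J i M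
  haveI := hk M i hi
  exact φ.toEquiv.subsingleton

/-- the bound along a prime -/
theorem dim_le_of_disconnect_prime (hHL : HLDomain.{u}) [IsAdicComplete (maximalIdeal R) R]
    (p : Ideal R) [p.IsPrime] (δ : ℕ) (a b : Ideal R) (ha : a ≤ maximalIdeal R) (hb : b ≤ maximalIdeal R)
    (k : ℕ) (hk : LocCoh.CdLE R (a ⊓ b) k)
    (h : ringKrullDim (R ⧸ (a ⊔ b ⊔ p)) ≤ (δ : WithBot ℕ∞))
    (ha' : (δ : WithBot ℕ∞) < ringKrullDim (R ⧸ (a ⊔ p)))
    (hb' : (δ : WithBot ℕ∞) < ringKrullDim (R ⧸ (b ⊔ p))) :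
    ringKrullDim (R ⧸ p) ≤ ((k + δ + 1 : ℕ) : WithBot ℕ∞) := by
  haveI := isLocalRing_quotient p
  haveI := Cohen12.isAdicComplete_quotient p
  obtain ⟨n, hn⟩ := exists_ringKrullDim_quotient_eq (I := p) (Ideal.IsPrime.ne_top ‹_›)
  rw [hn]
  have h1 := dim_le_of_disconnect hHL n hn δ (a.map (Ideal.Quotient.mk p)) (b.map (Ideal.Quotient.mk p))
    (map_mk_le_maximalIdeal p ha) (map_mk_le_maximalIdeal p hb) k
    (cdLE_of_radical_eq (le_inf (Ideal.map_mono inf_le_left) (Ideal.map_mono inf_le_right))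
      (map_inf_radical _ a b) (cdLE_map_mk p hk))
    (by rwa [← Ideal.map_sup, ringKrullDim_map_mk]) (by rwa [ringKrullDim_map_mk])
    (by rwa [ringKrullDim_map_mk])
  exact_mod_cast h1

/-- the bound along a prime minimal over the ideal of `k` cohomological dimension -/
theorem dim_le_of_minimal (hHL : HLDomain.{u}) [IsAdicComplete (maximalIdeal R) R]
    (p0 : Ideal R) [p0.IsPrime] (J p : Ideal R) (hp : p ∈ J.minimalPrimes) (hp0 : p0 ≤ p)
    (k : ℕ) (hk : LocCoh.CdLE R J k) (m : ℕ) (hm : ringKrullDim (R ⧸ p) ≤ (m : WithBot ℕ∞)) :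
    ringKrullDim (R ⧸ p0) ≤ ((k + m : ℕ) : WithBot ℕ∞) := by
  classical
  haveI := hp.1.1
  have hJm : J ≤ maximalIdeal R := hp.1.2.trans (le_maximalIdeal hp.1.1.ne_top)
  by_cases hJ : ringKrullDim (R ⧸ (J ⊔ p0)) ≤ (m : WithBot ℕ∞)
  · exact dim_le_cd_add p0 m J hJm k hk hJ
  have hfin := (J ⊔ p0).finite_minimalPrimes_of_isNoetherianRing R
  let s := hfin.toFinset.erase p
  set b := s.inf id with hb
  have hsplit : p ⊓ b ≤ (J ⊔ p0).radical := by
    rw [← Ideal.sInf_minimalPrimes]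
    refine le_sInf fun q hq => ?_
    rcases eq_or_ne q p with rfl | hne
    · exact inf_le_left
    · exact inf_le_right.trans (Finset.inf_le (f := id) (Finset.mem_erase.2 ⟨hne, hfin.mem_toFinset.2 hq⟩))
  have hle : J ⊔ p0 ≤ p ⊓ b := le_inf (sup_le hp.1.2 hp0) (Finset.le_inf fun q hq =>
    (hfin.mem_toFinset.1 (Finset.mem_of_mem_erase hq)).1.2)
  have hbig : (m : WithBot ℕ∞) < ringKrullDim (R ⧸ b) := by
    by_contra hc
    refine hJ ((le_of_eq (ringKrullDim_quotient_radical _).symm).trans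
      ((ringKrullDim_quotient_anti hsplit).trans (ringKrullDim_quotient_inf_le hm (not_lt.1 hc))))
  have hbm : b ≤ maximalIdeal R := le_maximalIdeal fun e => by
    rw [e] at hbig
    haveI : Subsingleton (R ⧸ (⊤ : Ideal R)) := Ideal.Quotient.subsingleton_iff.2 rfl
    rw [ringKrullDim_eq_bot_of_subsingleton] at hbig
    exact not_lt_bot hbig
  have hpm : p ∈ (J ⊔ p0).minimalPrimes :=
    ⟨⟨hp.1.1, sup_le hp.1.2 hp0⟩, fun q hq hqp => hp.2 ⟨hq.1, le_sup_left.trans hq.2⟩ hqp⟩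
  have hsum : ∀ Q : Ideal R, Q.IsPrime → p ⊔ b ≤ Q → p < Q := by
    intro Q hQ hQle
    refine lt_of_le_of_ne (le_sup_left.trans hQle) fun e => ?_
    obtain ⟨q, hq, hqQ⟩ := (hQ.inf_le').1 (le_sup_right.trans hQle)
    have hq' := hfin.mem_toFinset.1 (Finset.mem_of_mem_erase hq)
    have hqp : q ≤ p := e ▸ hqQ
    exact Finset.ne_of_mem_erase hq (le_antisymm hqp (hpm.2 hq'.1 hqp))
  obtain ⟨d, hd⟩ := exists_ringKrullDim_quotient_eq (I := p) hp.1.1.ne_top
  obtain ⟨e, he⟩ := exists_ringKrullDim_quotient_eq (I := p ⊔ b) fun et =>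
    (maximalIdeal.isMaximal R).ne_top (top_le_iff.1 (et ▸ sup_le (le_maximalIdeal hp.1.1.ne_top) hbm))
  have hlt : e < d := by
    obtain ⟨Q, hQ, hQle, hQe⟩ := exists_prime_ge_of_series (I := p ⊔ b) (k := e) (le_of_eq he.symm)
    haveI := hQ
    have h1 := (add_le_add_left hQe 1).trans (ringKrullDim_quotient_add_one_le (hsum Q hQ hQle))
    rw [hd] at h1
    have : e + 1 ≤ d := by exact_mod_cast h1
    omega
  rw [hd] at hm
  have hdm : d ≤ m := by exact_mod_cast hm
  have hp0b : p0 ≤ b := le_trans (le_sup_right.trans hle) inf_le_right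
  have hJpb : J ≤ p ⊓ b := le_sup_left.trans hle
  have hcd : LocCoh.CdLE (R ⧸ p0) ((p ⊓ b).map (Ideal.Quotient.mk p0)) k := by
    refine cdLE_of_radical_eq ?_ ?_ (cdLE_map_mk p0 hk)
    · exact Ideal.map_mono hJpb
    · refine (Ideal.map_mono hsplit).trans ((Ideal.map_radical_le _).trans ?_)
      rw [Ideal.map_sup, Ideal.map_quotient_self, sup_bot_eq]
  haveI := isLocalRing_quotient p0
  haveI := Cohen12.isAdicComplete_quotient p0
  obtain ⟨n, hn⟩ := exists_ringKrullDim_quotient_eq (I := p0) (Ideal.IsPrime.ne_top ‹_›)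
  rw [hn]
  have h1 := dim_le_of_disconnect hHL n hn e (p.map (Ideal.Quotient.mk p0)) (b.map (Ideal.Quotient.mk p0))
    (map_mk_le_maximalIdeal p0 (le_maximalIdeal hp.1.1.ne_top)) (map_mk_le_maximalIdeal p0 hbm) k
    (cdLE_of_radical_eq (le_inf (Ideal.map_mono inf_le_left) (Ideal.map_mono inf_le_right))
      (map_inf_radical _ p b) hcd)
    (by rw [← Ideal.map_sup, ringKrullDim_map_mk, sup_eq_left.2 (hp0b.trans le_sup_right), he])
    (by rw [ringKrullDim_map_mk, sup_eq_left.2 hp0, hd]; exact_mod_cast hlt)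
    (by rw [ringKrullDim_map_mk, sup_eq_left.2 hp0b]
        exact lt_of_le_of_lt (by exact_mod_cast (show e ≤ m by omega)) hbig)
  exact_mod_cast (show n ≤ k + m by omega)

end Groth.Agent.LC17
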