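import Groth.Agent.LC17.HLCore
import Groth.Agent.LC17.Connected
import Groth.Agent.LC16.FlatBC
import Groth.Agent.EGA4H10.CMCompletion
import Groth.Agent.S0547
import Groth.Agent.Cohen12.Structure

/-!
# Hartshorne–Lichtenbaum vanishing
-/

set_option autoImplicit false

universe u

open IsLocalRing Groth.Agent.LC15

namespace Groth.Agent.LC17

theorem hlDomain : HLDomain.{u} := fun R _ _ _ _ _ n hn I h =>
  subsingleton_H_top_of_domain n hn I h R n le_rfl

/-- vanishing for complete local rings -/
theorem subsingleton_H_top_complete {C : Type u} [CommRing C] [IsNoetherianRing C] [IsLocalRing C]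
    [IsAdicComplete (maximalIdeal C) C] (d : ℕ) (hd : ringKrullDim C ≤ (d : WithBot ℕ∞)) (I : Ideal C)
    (h : ∀ p ∈ minimalPrimes C, ringKrullDim (C ⧸ p) = d → 1 ≤ ringKrullDim (C ⧸ (I ⊔ p))) :
    Subsingleton (LocCoh.H I d C) := by
  refine IsNoetherianRing.induction_on_isQuotientEquivQuotientPrime (A := C) (M := C)
    inferInstance (motive := fun W _ _ _ => Subsingleton (LocCoh.H I d W)) ?_ ?_ ?_
  · intro W _ _ _ _; exact subsingleton_H_of_subsingleton I d
  · intro W _ _ _ q e
    have : Subsingleton (LocCoh.H I d (C ⧸ q.asIdeal)) := by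
      rcases coheight_lt_or_minimal hd q with hlt | ⟨hmin, hdim⟩
      · refine subsingleton_H_of_coheightLT (I := I) d (fun r hr => ?_) d le_rfl
        rw [mem_support_quot_ideal] at hr
        exact lt_of_le_of_lt (Order.coheight_anti (show q ≤ r from hr)) hlt
      · haveI := q.isPrime
        haveI := isLocalRing_quotient q.asIdeal
        haveI := Cohen12.isAdicComplete_quotient q.asIdeal
        have hpos : 0 < ringKrullDim ((C ⧸ q.asIdeal) ⧸ I.map (Ideal.Quotient.mk q.asIdeal)) := by
          rw [ringKrullDim_map_mk]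
          exact lt_of_lt_of_le zero_lt_one (h q.asIdeal hmin hdim)
        haveI := subsingleton_H_top_of_domain d hdim (I.map (Ideal.Quotient.mk q.asIdeal)) hpos
          (C ⧸ q.asIdeal) d le_rfl
        obtain ⟨φ, -⟩ := LC16.ChangeRings.exists_equiv (R' := C ⧸ q.asIdeal) I d (C ⧸ q.asIdeal)
        exact φ.symm.toEquiv.subsingleton
    exact (Hequiv I d e).toEquiv.subsingleton_congr.2 this
  · intro A _ _ _ B _ _ _ D _ _ _ f g hf hg hfg hA hD
    exact subsingleton_H_middle I d hf hfg hg hA hD

/-- Hartshorne–Lichtenbaum vanishing -/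
theorem hlvt (R : Type u) [CommRing R] [IsLocalRing R] [IsNoetherianRing R] (I : Ideal R) (d : ℕ)
    (hd : ringKrullDim R = d)
    (h : ∀ p ∈ minimalPrimes (AdicCompletion (maximalIdeal R) R),
      ringKrullDim (AdicCompletion (maximalIdeal R) R ⧸ p) = d →
      1 ≤ ringKrullDim (AdicCompletion (maximalIdeal R) R ⧸
        (I.map (algebraMap R (AdicCompletion (maximalIdeal R) R)) ⊔ p)))
    (M : Type u) [AddCommGroup M] [Module R M] (i : ℕ) (hi : d ≤ i) :
    Subsingleton (LocCoh.H I i M) := by
  haveI : IsNoetherianRing (AdicCompletion (maximalIdeal R) R) :=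
    EGA4H10.isNoetherianRing_cpl (A := R)
  have hdim : ringKrullDim (AdicCompletion (maximalIdeal R) R) = d := (S0547.result R).trans hd
  haveI : IsLocalHom (algebraMap R (AdicCompletion (maximalIdeal R) R)) :=
    ((IsLocalRing.local_hom_TFAE _).out 2 0 rfl rfl).mp AdicCompletion.maximalIdeal_eq_map.symm.le
  haveI : Module.FaithfullyFlat R (AdicCompletion (maximalIdeal R) R) :=
    Module.FaithfullyFlat.of_flat_of_isLocalHom
  have h1 : Subsingleton (LocCoh.H (I.map (algebraMap R (AdicCompletion (maximalIdeal R) R))) d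
      (AdicCompletion (maximalIdeal R) R)) := subsingleton_H_top_complete d hdim.le _ h
  have hR : Subsingleton (LocCoh.H I d R) := by
    obtain ⟨e⟩ := LC16.FlatBC.exists_equiv (AdicCompletion (maximalIdeal R) R) I d R
    haveI := ((Hequiv _ d (TensorProduct.AlgebraTensorModule.rid R (AdicCompletion (maximalIdeal R) R)
      (AdicCompletion (maximalIdeal R) R))).toEquiv.subsingleton_congr).2 h1
    haveI := e.toEquiv.subsingleton
    exact Module.FaithfullyFlat.lTensor_reflects_triviality R (AdicCompletion (maximalIdeal R) R)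
      (LocCoh.H I d R)
  exact cdLT_of_support I hd.le R (fun Q _ _ => by
    rw [Module.support_of_algebra, PrimeSpectrum.mem_zeroLocus]
    intro z hz
    simp [(RingHom.injective_iff_ker_eq_bot _).1 (fun a b hab => hab : Function.Injective (algebraMap R R))] at hz
    simp [hz]) hR M i hi

end Groth.Agent.LC17
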