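import Groth.Prelude.Def_DualLC
import Groth.Agent.DR39.LocalDual3
import Groth.Agent.LC17.HLVT
import Groth.Agent.LC16.FlatBC
import Groth.Agent.LC16.DTCore
import Mathlib.Algebra.Homology.DerivedCategory.SingleTriangle
import Mathlib.RingTheory.Ideal.AssociatedPrime.Localization
import Mathlib.RingTheory.TensorProduct.Quotient
import Mathlib.RingTheory.Filtration
import Mathlib.CategoryTheory.Limits.ConcreteCategory.Basic
import Mathlib.Algebra.Category.ModuleCat.FilteredColimits

/-!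
Cohomological dimension and the vanishing of `H⁰_I` of a normalized dualizing complex.
-/

set_option autoImplicit false
set_option linter.style.haveILetI false
set_option maxHeartbeats 1000000

noncomputable section

universe u

open CategoryTheory CategoryTheory.Limits CategoryTheory.Pretriangulated Opposite IsLocalRing
open scoped TensorProduct
attribute [local instance] HasDerivedCategory.standard

namespace Groth.Agent.LC17.DualizingCd

open Groth.Agent.DR39

variable {A : Type u} [CommRing A] {ω : Dual.D A} (hω : Dual.IsDualizing A ω) [IsLocalRing A]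
  (hn : Dual.IsNormalized A ω)

include hω hn in
theorem subsingleton_gm_pos (M : Type u) [AddCommGroup M] [Module A M] [Module.Finite A M] {i : ℤ}
    (hi : 0 < i) : Subsingleton (Dual.inD A M ⟶ ω⟦i⟧) := by
  haveI := hω.isNoetherianRing
  rw [subsingleton_gm_iff]
  exact LC17.gAnn_pos hω hn M hi

theorem supportDim_eq_zero (M : Type u) [AddCommGroup M] [Module A M] [Nontrivial M] {N : ℕ}
    (hN : ∀ a ∈ maximalIdeal A ^ N, ∀ x : M, a • x = 0) : Module.supportDim A M = ((0 : ℕ) : ℕ∞) := by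
  have hsub : ∀ p ∈ Module.support A M, p = IsLocalRing.closedPoint A := fun p hp =>
    PrimeSpectrum.ext (le_antisymm (IsLocalRing.le_maximalIdeal p.2.ne_top)
      ((Ideal.IsPrime.le_of_pow_le (show maximalIdeal A ^ N ≤ p.asIdeal from fun a ha =>
        Module.annihilator_le_of_mem_support hp (Module.mem_annihilator.2 (hN a ha))))))
  haveI : Subsingleton (Module.support A M) :=
    ⟨fun p q => Subtype.ext ((hsub p p.2).trans (hsub q q.2).symm)⟩
  haveI : Nonempty (Module.support A M) :=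
    Set.nonempty_coe_sort.2 (Module.nonempty_support_iff.2 inferInstance)
  exact le_antisymm Order.krullDim_nonpos_of_subsingleton Order.krullDim_nonneg

include hω hn in
theorem subsingleton_gm_neg (M : Type u) [AddCommGroup M] [Module A M] [Module.Finite A M] {N : ℕ}
    (hN : ∀ a ∈ maximalIdeal A ^ N, ∀ x : M, a • x = 0) {i : ℤ} (hi : i < 0) :
    Subsingleton (Dual.inD A M ⟶ ω⟦i⟧) := by
  haveI := hω.isNoetherianRing
  rcases subsingleton_or_nontrivial M with h | h
  · haveI : Subsingleton (ModuleCat.of A M) := h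
    have hz : IsZero (Dual.inD A M) := Functor.map_isZero _ (ModuleCat.isZero_of_subsingleton (ModuleCat.of A M))
    exact ⟨fun a b => hz.eq_of_src a b⟩
  · by_contra hne
    rw [not_subsingleton_iff_nontrivial] at hne
    obtain ⟨h1, -⟩ := bounds_of_nontrivial hω hn M (supportDim_eq_zero M hN) hne
    push_cast at h1
    omega

/-- the map on `Hom(-, E)` of a linear map -/
abbrev pre (E : Dual.D A) {M N : Type u} [AddCommGroup M] [Module A M] [AddCommGroup N] [Module A N]
    (f : M →ₗ[A] N) (x : Dual.inD A N ⟶ E) : Dual.inD A M ⟶ E :=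
  (DerivedCategory.singleFunctor (ModuleCat.{u} A) 0).map (ModuleCat.ofHom f) ≫ x

omit [IsLocalRing A] in
theorem pre_comp (E : Dual.D A) {M N P : Type u} [AddCommGroup M] [Module A M] [AddCommGroup N] [Module A N]
    [AddCommGroup P] [Module A P] (f : M →ₗ[A] N) (g : N →ₗ[A] P) (x : Dual.inD A P ⟶ E) :
    pre E (g ∘ₗ f) x = pre E f (pre E g x) := by
  show (DerivedCategory.singleFunctor (ModuleCat.{u} A) 0).map (ModuleCat.ofHom f ≫ ModuleCat.ofHom g) ≫ x = _
  rw [Functor.map_comp, Category.assoc]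

omit [IsLocalRing A] in
theorem pre_injective_of_surjective (E : Dual.D A) {M N : Type u} [AddCommGroup M] [Module A M]
    [AddCommGroup N] [Module A N] (f : M →ₗ[A] N) (hf : Function.Surjective f)
    (h : Subsingleton (Dual.inD A (LinearMap.ker f) ⟶ E⟦(-1 : ℤ)⟧)) :
    Function.Injective (pre E f) := by
  have hS := LC17.shortExact_of_exact (LinearMap.ker f).subtype f (Submodule.injective_subtype _) hf
    (LinearMap.exact_subtype_ker_map f)
  intro a b hab
  rw [← sub_eq_zero]
  obtain ⟨k, hk⟩ := Triangle.yoneda_exact₃ _ hS.singleTriangle_distinguished (a - b) (by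
    show (DerivedCategory.singleFunctor (ModuleCat.{u} A) 0).map (ModuleCat.ofHom f) ≫ (a - b) = 0
    rw [Preadditive.comp_sub, sub_eq_zero]; exact hab)
  have hk0 : k = 0 := by
    refine (shiftFunctor (Dual.D A) (-1 : ℤ)).map_injective ?_
    refine (cancel_epi ((shiftFunctorCompIsoId (Dual.D A) (1 : ℤ) (-1) (by omega)).inv.app _)).1 ?_
    exact h.elim _ _
  refine hk.trans ?_
  rw [hk0, comp_zero]
  rfl

omit [IsLocalRing A] in
theorem pre_surjective_of_injective (E : Dual.D A) {M N : Type u} [AddCommGroup M] [Module A M]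
    [AddCommGroup N] [Module A N] (f : M →ₗ[A] N) (hf : Function.Injective f)
    (h : Subsingleton (Dual.inD A (N ⧸ LinearMap.range f) ⟶ E⟦(1 : ℤ)⟧)) :
    Function.Surjective (pre E f) := by
  have hS := LC17.shortExact_of_exact f (LinearMap.range f).mkQ hf (Submodule.mkQ_surjective _)
    (LinearMap.exact_map_mkQ_range f)
  intro g
  let T := hS.singleTriangle
  have hT := inv_rot_of_distTriang _ hS.singleTriangle_distinguished
  obtain ⟨k, hk⟩ := Triangle.yoneda_exact₂ _ hT g (by
    refine (shiftFunctor (Dual.D A) (1 : ℤ)).map_injective ?_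
    refine (cancel_epi ((shiftFunctorCompIsoId (Dual.D A) (-1 : ℤ) 1 (by omega)).inv.app _)).1 ?_
    exact h.elim _ _)
  exact ⟨k, hk.symm⟩

include hω hn in
theorem subsingleton_shift_pos (M : Type u) [AddCommGroup M] [Module A M] [Module.Finite A M] :
    Subsingleton (Dual.inD A M ⟶ (ω⟦(0 : ℤ)⟧)⟦(1 : ℤ)⟧) := by
  haveI := subsingleton_gm_pos hω hn M (i := 1) one_pos
  exact (Iso.homToEquiv ((shiftFunctorAdd' (Dual.D A) (0 : ℤ) 1 1 (by omega)).app ω)).symm.subsingleton

include hω hn in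
theorem subsingleton_shift_neg (M : Type u) [AddCommGroup M] [Module A M] [Module.Finite A M] {N : ℕ}
    (hN : ∀ a ∈ maximalIdeal A ^ N, ∀ x : M, a • x = 0) :
    Subsingleton (Dual.inD A M ⟶ (ω⟦(0 : ℤ)⟧)⟦(-1 : ℤ)⟧) := by
  haveI := subsingleton_gm_neg hω hn M hN (i := -1) (by omega)
  exact (Iso.homToEquiv ((shiftFunctorAdd' (Dual.D A) (0 : ℤ) (-1) (-1) (by omega)).app ω)).symm.subsingleton

/-- transition maps -/
abbrev trans (I : Ideal A) {n k : ℕ} (h : n ≤ k) : (A ⧸ I ^ k) →ₗ[A] (A ⧸ I ^ n) :=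
  Submodule.mapQ _ _ LinearMap.id (Ideal.pow_le_pow_right h)

omit [IsLocalRing A] in
theorem exists_trans_eq_zero (I : Ideal A) (h0 : Subsingleton (Dual2.HDI A I ω 0)) (n : ℕ)
    (x : Dual.inD A (A ⧸ I ^ n) ⟶ ω⟦(0 : ℤ)⟧) :
    ∃ (k : ℕ) (h : n ≤ k), pre _ (trans I h) x = 0 := by
  let G := (localCohomology.ringModIdeals (localCohomology.idealPowersDiagram I) ⋙
      DerivedCategory.singleFunctor (ModuleCat.{u} A) 0).op ⋙ (linearYoneda A (Dual.D A)).obj (ω⟦(0 : ℤ)⟧)
  let x' : G.obj (op (op n)) := x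
  have h1 : (colimit.ι G (op (op n))).hom x' = (colimit.ι G (op (op n))).hom 0 :=
    @Subsingleton.elim _ h0 _ _
  haveI : PreservesFilteredColimitsOfSize.{0, 0} (forget AddCommGrpCat.{u + 1}) :=
    preservesFilteredColimitsOfSize_shrink.{0, u + 1, 0, u + 1} _
  haveI : PreservesColimit G (forget (ModuleCat.{u + 1} A)) :=
    inferInstanceAs (PreservesColimit G (forget₂ (ModuleCat.{u + 1} A) AddCommGrpCat.{u + 1} ⋙ forget AddCommGrpCat.{u + 1}))
  obtain ⟨⟨⟨k⟩⟩, f, g, hfg⟩ := Concrete.colimit_exists_of_rep_eq G x' 0 h1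
  refine ⟨k, f.unop.unop.down.down, ?_⟩
  rw [map_zero] at hfg
  exact hfg

include hω hn in
theorem torsion_system_eq_zero [IsNoetherianRing A] (I : Ideal A) (h0 : Subsingleton (Dual2.HDI A I ω 0))
    (n : ℕ) (q : A ⧸ I ^ n)
    (hq : ∀ (k : ℕ) (h : n ≤ k), ∃ g : A ⧸ I ^ k,
      g ∈ LC15.gamma (maximalIdeal A) (A ⧸ I ^ k) ∧ trans I h g = q) : q = 0 := by
  by_contra hne
  obtain ⟨g₀, ⟨N, hN⟩, hg₀⟩ := hq n le_rfl
  have htr : trans I (le_refl n) = LinearMap.id := LinearMap.ext fun z => by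
    obtain ⟨r, rfl⟩ := Submodule.Quotient.mk_surjective _ z
    rfl
  rw [htr] at hg₀
  subst hg₀
  let Q : Submodule A (A ⧸ I ^ n) :=
    Submodule.span A {(LinearMap.id : (A ⧸ I ^ n) →ₗ[A] (A ⧸ I ^ n)) g₀}
  have hQN : ∀ a ∈ maximalIdeal A ^ N, ∀ x : Q, a • x = 0 := by
    rintro a ha ⟨x, hx⟩
    obtain ⟨c, rfl⟩ := Submodule.mem_span_singleton.1 hx
    exact Subtype.ext (show a • c • g₀ = 0 by rw [smul_comm, hN a ha, smul_zero])
  haveI : Nontrivial Q := nontrivial_of_ne ⟨_, Submodule.mem_span_singleton_self _⟩ 0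
    fun h => hne (congrArg Subtype.val h)
  have hQdim := supportDim_eq_zero Q hQN
  haveI : Nontrivial (Dual.inD A Q ⟶ ω⟦(-((0 : ℕ) : ℤ))⟧) := nontrivial_top hω hn Q hQdim
  let ez : (Dual.inD A Q ⟶ ω⟦(-((0 : ℕ) : ℤ))⟧) ≃ (Dual.inD A Q ⟶ ω⟦(0 : ℤ)⟧) :=
    Iso.homToEquiv (eqToIso (by norm_num))
  haveI := ez.symm.nontrivial
  obtain ⟨g, hg⟩ := exists_ne (0 : Dual.inD A Q ⟶ ω⟦(0 : ℤ)⟧)
  obtain ⟨x, hx⟩ := pre_surjective_of_injective (ω⟦(0 : ℤ)⟧) Q.subtype Q.injective_subtype
    (subsingleton_shift_pos hω hn _) g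
  obtain ⟨k, h, hk⟩ := exists_trans_eq_zero I h0 n x
  obtain ⟨gk, ⟨N', hN'⟩, hgk⟩ := hq k h
  let T : Submodule A (A ⧸ I ^ k) := Submodule.span A {gk}
  let π : T →ₗ[A] Q := ((trans I h).comp T.subtype).codRestrict Q fun t => by
    obtain ⟨c, hc⟩ := Submodule.mem_span_singleton.1 t.2
    show trans I h t.1 ∈ Q
    rw [← hc, map_smul, hgk]
    exact Submodule.smul_mem _ c (Submodule.mem_span_singleton_self _)
  have hπ : Function.Surjective π := fun ⟨z, hz⟩ => by
    obtain ⟨c, rfl⟩ := Submodule.mem_span_singleton.1 hz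
    exact ⟨⟨c • gk, Submodule.smul_mem _ c (Submodule.mem_span_singleton_self _)⟩,
      Subtype.ext (show trans I h (c • gk) = _ by rw [map_smul, hgk])⟩
  have hinj := pre_injective_of_surjective (ω⟦(0 : ℤ)⟧) π hπ
    (subsingleton_shift_neg hω hn _ (N := N') (fun a ha t => by
      obtain ⟨c, hc⟩ := Submodule.mem_span_singleton.1 t.1.2
      refine Subtype.ext (Subtype.ext ?_)
      show a • t.1.1 = 0
      rw [← hc, smul_comm, hN' a ha, smul_zero]))
  refine hg (hinj ?_)
  show pre _ π g = pre _ π 0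
  rw [← hx, ← pre_comp, show Q.subtype ∘ₗ π = trans I h ∘ₗ T.subtype from LinearMap.ext fun _ => rfl,
    pre_comp, hk]
  simp [pre]

theorem sup_pow_le {C : Type u} [CommRing C] (a b : Ideal C) : ∀ k : ℕ, (a ⊔ b) ^ k ≤ a ^ k ⊔ b
  | 0 => by simp
  | k + 1 => by
    rw [pow_succ, pow_succ]
    refine (Ideal.mul_mono_left (sup_pow_le a b k)).trans ?_
    rw [Ideal.sup_mul, Ideal.mul_sup, Ideal.mul_sup]
    refine sup_le (sup_le le_sup_left ?_) (sup_le ?_ ?_) <;>
      first
        | exact Ideal.mul_le_left.trans le_sup_right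
        | exact Ideal.mul_le_right.trans le_sup_right

include hω hn in
theorem main [IsNoetherianRing A] (I : Ideal A) (h0 : Subsingleton (Dual2.HDI A I ω 0)) (M : Type u)
    [AddCommGroup M] [Module A M] (i : ℕ) (hi : ringKrullDim A ≤ (i : WithBot ℕ∞)) :
    Subsingleton (LocCoh.H I i M) := by
  by_cases hI : I = ⊤
  · subst hI
    exact LC15.subsingleton_H_of_smul_bijective ⊤ (a := (1 : A)) trivial
      (by simp only [one_smul]; exact Function.bijective_id) i
  have hIm : I ≤ maximalIdeal A := IsLocalRing.le_maximalIdeal hI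
  obtain ⟨d, hd⟩ : ∃ d : ℕ, ringKrullDim A = d := Gor18.gor_cm.exists_ringKrullDim_eq_nat A
  refine LC17.hlvt A I d hd (fun p hp _ => ?_) M i (by rw [hd] at hi; exact_mod_cast hi)
  by_contra hlt
  let C := AdicCompletion (maximalIdeal A) A
  haveI : IsNoetherianRing C := EGA4H10.isNoetherianRing_cpl (A := A)
  haveI : IsLocalHom (algebraMap A C) :=
    ((IsLocalRing.local_hom_TFAE _).out 2 0 rfl rfl).mp AdicCompletion.maximalIdeal_eq_map.symm.le
  haveI : Module.FaithfullyFlat A C := Module.FaithfullyFlat.of_flat_of_isLocalHom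
  have hCm : (maximalIdeal A).map (algebraMap A C) = maximalIdeal C := AdicCompletion.maximalIdeal_eq_map.symm
  let IC := I.map (algebraMap A C)
  have hp' : p ∈ (Module.annihilator C C).minimalPrimes := by
    rw [show Module.annihilator C C = ⊥ from Module.annihilator_eq_bot.2 inferInstance]
    exact hp
  obtain ⟨hpp, f, hf⟩ := (isAssociatedPrime_iff_exists_injective_linearMap p C).1
    (Module.associatedPrimes.minimalPrimes_annihilator_subset_associatedPrimes C C hp')
  let y : C := f (Submodule.Quotient.mk 1)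
  have hy0 : y ≠ 0 := fun h => hpp.ne_top ((Ideal.eq_top_iff_one p).2
    ((Submodule.Quotient.mk_eq_zero p).1 (hf (h.trans (map_zero f).symm))))
  have hpy : ∀ c ∈ p, c * y = 0 := fun c hc => by
    show c • f (Submodule.Quotient.mk 1) = 0
    rw [← map_smul, ← Submodule.Quotient.mk_smul, smul_eq_mul, mul_one,
      (Submodule.Quotient.mk_eq_zero p).2 hc, map_zero]
  have hICm : IC ≤ maximalIdeal C := hCm ▸ Ideal.map_mono hIm
  have hrad : maximalIdeal C ≤ (IC ⊔ p).radical := by
    have hne : IC ⊔ p ≠ ⊤ := fun h => Ideal.IsMaximal.ne_top (I := maximalIdeal C) inferInstance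
      (top_unique (h ▸ sup_le hICm (IsLocalRing.le_maximalIdeal hpp.ne_top)))
    haveI : Nontrivial (C ⧸ (IC ⊔ p)) := Ideal.Quotient.nontrivial_iff.2 hne
    obtain ⟨e, he⟩ := exists_ringKrullDim_quotient_eq hne
    have he0 : e = 0 := by
      by_contra hne0
      exact hlt (by rw [he]; exact_mod_cast (show 1 ≤ e by omega))
    subst he0
    haveI : Ring.KrullDimLE 0 (C ⧸ (IC ⊔ p)) := ringKrullDimZero_iff_ringKrullDim_eq_zero.2 he
    rw [← Ideal.sInf_minimalPrimes]
    refine le_sInf fun Q hQ => ?_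
    rw [IsLocalRing.eq_maximalIdeal
      (Ideal.krullDimLE_zero_quotient_iff_forall_minimalPrimes_isMaximal.1 inferInstance Q hQ)]
  obtain ⟨L, hL⟩ := Ideal.exists_pow_le_of_le_radical_of_fg hrad (IsNoetherian.noetherian _)
  obtain ⟨n, hn'⟩ : ∃ n, y ∉ IC ^ n := by
    by_contra h
    push Not at h
    refine hy0 ?_
    have : y ∈ ⨅ k : ℕ, IC ^ k := Ideal.mem_iInf.2 h
    rwa [Ideal.iInf_pow_eq_bot_of_isLocalRing IC (fun h => Ideal.IsMaximal.ne_top (I := maximalIdeal C)
      inferInstance (top_unique (h ▸ hICm))), Ideal.mem_bot] at this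
  let ι : (k : ℕ) → C →ₗ[C] C ⊗[A] (A ⧸ I ^ k) := fun k =>
    LinearMap.toSpanSingleton C _ ((1 : C) ⊗ₜ[A] Submodule.Quotient.mk (1 : A))
  have hι0 : ∀ k, IC ^ k ≤ LinearMap.ker (ι k) := fun k => by
    rw [← Ideal.map_pow, Ideal.map_le_iff_le_comap]
    intro a ha
    show algebraMap A C a • ((1 : C) ⊗ₜ[A] Submodule.Quotient.mk (1 : A)) = 0
    rw [algebraMap_smul, ← TensorProduct.tmul_smul, ← Submodule.Quotient.mk_smul, smul_eq_mul, mul_one,
      (Submodule.Quotient.mk_eq_zero _).2 ha, TensorProduct.tmul_zero]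
  have key : ∀ k, ∃ g : A ⧸ I ^ k, g ∈ LC15.gamma (maximalIdeal A) (A ⧸ I ^ k) ∧
      (1 : C) ⊗ₜ[A] g = ι k y := by
    intro k
    have hmem : ι k y ∈ LC15.gamma ((maximalIdeal A).map (algebraMap A C)) (C ⊗[A] (A ⧸ I ^ k)) := by
      rw [LC16.Acyclic.mem_gamma_map_iff]
      refine ⟨L * k, fun a ha => ?_⟩
      rw [← algebraMap_smul C a (ι k y), ← map_smul, smul_eq_mul]
      refine hι0 k ?_
      have h1 : algebraMap A C a ∈ maximalIdeal C ^ (L * k) := by
        rw [← hCm, ← Ideal.map_pow]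
        exact Ideal.mem_map_of_mem _ ha
      rw [pow_mul] at h1
      have h2 : algebraMap A C a ∈ IC ^ k ⊔ p := by
        refine (Ideal.pow_right_mono hL k).trans ?_ h1
        exact sup_pow_le IC p k
      obtain ⟨u, hu, v, hv, huv⟩ := Submodule.mem_sup.1 h2
      rw [← huv, add_mul, hpy v hv, add_zero]
      exact Ideal.mul_mem_right _ _ hu
    obtain ⟨z, hz⟩ := LC16.FlatBC.exists_incl C (maximalIdeal A) (A ⧸ I ^ k) hmem
    haveI : IsNoetherian A (A ⧸ I ^ k) := inferInstance
    obtain ⟨N, hN⟩ := LC16.DT.exists_kill (I := maximalIdeal A)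
      (P := LC15.gamma (maximalIdeal A) (A ⧸ I ^ k)) (IsNoetherian.noetherian _) (fun x hx => hx)
    have hsurj : ∀ w : C ⊗[A] LC15.gamma (maximalIdeal A) (A ⧸ I ^ k), ∃ g, (1 : C) ⊗ₜ[A] g = w := by
      intro w
      induction w using TensorProduct.induction_on with
      | zero => exact ⟨0, TensorProduct.tmul_zero _ _⟩
      | tmul c g =>
        obtain ⟨a, ha⟩ := Submodule.Quotient.mk_surjective _
          (AdicCompletion.eval (maximalIdeal A) A N c)
        refine ⟨a • g, ?_⟩
        rw [TensorProduct.tmul_smul, TensorProduct.smul_tmul', ← sub_eq_zero, ← TensorProduct.sub_tmul]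
        have hd : a • (1 : C) - c ∈ (maximalIdeal A ^ N • ⊤ : Submodule A C) := by
          rw [AdicCompletion.pow_smul_top_eq_ker_eval (IsNoetherian.noetherian _), LinearMap.mem_ker, map_sub,
            map_smul, ← ha, sub_eq_zero]
          show a • (Submodule.Quotient.mk (1 : A) : A ⧸ (maximalIdeal A ^ N • ⊤ : Submodule A A)) = _
          rw [← Submodule.Quotient.mk_smul]
          exact congrArg _ (mul_one a)
        have hle : ∀ e ∈ (maximalIdeal A ^ N • ⊤ : Submodule A C), e ⊗ₜ[A] g = 0 := by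
          intro e he
          induction he using Submodule.smul_induction_on' with
          | smul b hb x _ =>
            rw [TensorProduct.smul_tmul, show b • g = 0 from Subtype.ext (hN b hb _ g.2), TensorProduct.tmul_zero]
          | add e _ e' _ h h' => rw [TensorProduct.add_tmul, h, h', add_zero]
        exact hle _ hd
      | add w w' h h' =>
        obtain ⟨g, rfl⟩ := h
        obtain ⟨g', rfl⟩ := h'
        exact ⟨g + g', TensorProduct.tmul_add _ _ _⟩
    obtain ⟨g, rfl⟩ := hsurj z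
    exact ⟨g.1, g.2, hz⟩
  obtain ⟨g₀, -, hg₀⟩ := key n
  have hfun : ∀ k (h : n ≤ k) (g : A ⧸ I ^ k), (1 : C) ⊗ₜ[A] g = ι k y → trans I h g = g₀ := by
    intro k h g hg
    have h1 := congrArg ((trans I h).baseChange C) hg
    rw [LinearMap.baseChange_tmul] at h1
    have h2 : (1 : C) ⊗ₜ[A] trans I h g = (1 : C) ⊗ₜ[A] g₀ := by
      rw [h1, hg₀]
      show (trans I h).baseChange C (y • ((1 : C) ⊗ₜ[A] Submodule.Quotient.mk (1 : A))) = _
      rw [map_smul, LinearMap.baseChange_tmul]
      rfl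
    exact Module.FaithfullyFlat.tensorProduct_mk_injective (B := C) (A ⧸ I ^ n) h2
  have hzero := torsion_system_eq_zero hω hn I h0 n g₀ fun k h => by
    obtain ⟨g, hg, hgk⟩ := key k
    exact ⟨g, hg, hfun k h g hgk⟩
  refine hn' ?_
  rw [hzero, TensorProduct.tmul_zero] at hg₀
  let e := Algebra.TensorProduct.quotIdealMapEquivTensorQuot C (I ^ n)
  have he : e (Ideal.Quotient.mk _ y) = 0 := by
    refine Eq.trans ?_ hg₀.symm
    show e (Ideal.Quotient.mk _ y) = y • ((1 : C) ⊗ₜ[A] Submodule.Quotient.mk (1 : A))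
    rw [TensorProduct.smul_tmul', smul_eq_mul, mul_one]
    exact Algebra.TensorProduct.quotIdealMapEquivTensorQuot_mk C (I ^ n) y
  rw [← Ideal.map_pow, ← Ideal.Quotient.eq_zero_iff_mem]
  exact e.injective (he.trans (map_zero e).symm)

end Groth.Agent.LC17.DualizingCd
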