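import Groth.Agent.LC17.KChi

/-!
# Euler characteristics of quotients by acyclic filtration pieces
-/

set_option autoImplicit false

universe u

open CategoryTheory Groth.Agent.Koszul19

namespace Groth.Agent.LC17

variable {A : Type u} [CommRing A]

theorem euler_eq_of_acyclic_piece (K : DRing.Cx A) (a b : ℤ)
    (F : ∀ q, Submodule A (K.X q))
    (hd : ∀ q q₁, q + 1 = q₁ → ∀ x ∈ F q, dd K q q₁ x ∈ F q₁)
    (hac : ∀ p q j, p + 1 = q → q + 1 = j → ∀ z ∈ F q, dd K q j z = 0 →
      ∃ w ∈ F p, dd K p q w = z)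
    (hX : ∀ q, q ≤ a ∨ b ≤ q → Subsingleton (K.X q : Type u))
    (hT : ∀ q, Module.length A ((K.X q : Type u) ⧸ F q) ≠ ⊤) :
    ∑ q ∈ Finset.Icc a b, sgn q * lenZ A ((K.X q : Type u) ⧸ F q) =
      ∑ q ∈ Finset.Icc a b, sgn q * lenZ A (K.homology q) := by
  classical
  let B : ℤ → ℤ := fun q => lenZ A (LinearMap.range ((F q).mkQ ∘ₗ dd K (q - 1) q))
  have key : ∀ q, lenZ A ((K.X q : Type u) ⧸ F q) = lenZ A (K.homology q) + B q + B (q + 1) := by
    intro q
    let Z := LinearMap.ker (dd K q (q + 1))
    let φ : (K.X q : Type u) →ₗ[A] (K.X (q + 1) : Type u) ⧸ F (q + 1) :=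
      (F (q + 1)).mkQ ∘ₗ dd K q (q + 1)
    let φ' : ((K.X q : Type u) ⧸ F q) →ₗ[A] (K.X (q + 1) : Type u) ⧸ F (q + 1) :=
      Submodule.liftQ _ φ fun x hx => (Submodule.Quotient.mk_eq_zero _).2 (hd q (q + 1) rfl x hx)
    have hker : LinearMap.ker φ' = Submodule.map (F q).mkQ Z := by
      ext y
      obtain ⟨y, rfl⟩ := Submodule.Quotient.mk_surjective _ y
      constructor
      · intro hy
        have hy' : dd K q (q + 1) y ∈ F (q + 1) := (Submodule.Quotient.mk_eq_zero _).1 hy
        obtain ⟨w, hw, hwy⟩ := hac q (q + 1) (q + 2) rfl (by omega) _ hy' (dd_dd K _ _ _ y)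
        refine ⟨y - w, ?_, ?_⟩
        · show dd K q (q + 1) (y - w) = 0
          rw [map_sub, hwy, sub_self]
        · rw [map_sub, show (F q).mkQ w = 0 from (Submodule.Quotient.mk_eq_zero _).2 hw, sub_zero]
          rfl
      · rintro ⟨z, hz, hzy⟩
        rw [LinearMap.mem_ker, ← hzy]
        show (F (q + 1)).mkQ (dd K q (q + 1) z) = 0
        rw [show dd K q (q + 1) z = 0 from hz, map_zero]
    have h1 := length_ker_add_range φ'
    rw [hker, show LinearMap.range φ' = LinearMap.range φ from Submodule.range_liftQ _ _ _] at h1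
    -- the cycles in the quotient
    let P : Submodule A Z := (F q).comap Z.subtype
    let Bz : Submodule A Z := (LinearMap.range (dd K (q - 1) q)).comap Z.subtype
    have hPB : P ≤ Bz := fun z hz => by
      obtain ⟨w, -, hw⟩ := hac (q - 1) q (q + 1) (by omega) rfl z.1 hz z.2
      exact ⟨w, hw⟩
    let ι : (Z ⧸ P) →ₗ[A] (K.X q : Type u) ⧸ F q :=
      Submodule.liftQ _ ((F q).mkQ ∘ₗ Z.subtype) fun z hz => (Submodule.Quotient.mk_eq_zero _).2 hz
    have hι : Function.Injective ι := by
      rw [injective_iff_map_eq_zero]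
      intro y hy
      obtain ⟨y, rfl⟩ := Submodule.Quotient.mk_surjective _ y
      exact (Submodule.Quotient.mk_eq_zero _).2 ((Submodule.Quotient.mk_eq_zero (F q)).1 hy)
    have hιr : LinearMap.range ι = Submodule.map (F q).mkQ Z := by
      rw [Submodule.range_liftQ, LinearMap.range_comp, Submodule.range_subtype]
    have h2 : Module.length A (Z ⧸ P) = Module.length A (LinearMap.ker (Submodule.factor hPB)) +
        Module.length A (Z ⧸ Bz) := by
      rw [length_ker_add_range (Submodule.factor hPB),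
        LinearMap.range_eq_top.2 (Submodule.factor_surjective hPB), LinearEquiv.length_eq Submodule.topEquiv]
    have h3 : Module.length A (LinearMap.ker (Submodule.factor hPB)) =
        Module.length A (LinearMap.range ((F q).mkQ ∘ₗ dd K (q - 1) q)) := by
      rw [(Submodule.equivMapOfInjective ι hι _).length_eq]
      refine LinearEquiv.length_eq (LinearEquiv.ofEq _ _ ?_)
      ext y
      constructor
      · rintro ⟨x, hx, rfl⟩
        obtain ⟨x, rfl⟩ := Submodule.Quotient.mk_surjective _ x
        obtain ⟨w, hw⟩ := (Submodule.Quotient.mk_eq_zero Bz).1 hx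
        exact ⟨w, congrArg (F q).mkQ hw⟩
      · rintro ⟨w, rfl⟩
        exact ⟨Submodule.Quotient.mk ⟨dd K (q - 1) q w, dd_dd K _ _ _ w⟩,
          (Submodule.Quotient.mk_eq_zero Bz).2 ⟨w, rfl⟩, rfl⟩
    have h4 : Module.length A (Submodule.map (F q).mkQ Z) = Module.length A (Z ⧸ P) :=
      (LinearEquiv.length_eq ((LinearEquiv.ofInjective ι hι).trans (LinearEquiv.ofEq _ _ hιr))).symm
    have h5 : Module.length A (Z ⧸ Bz) = Module.length A (K.homology q) :=
      ((homologyIsoHc K (q - 1) q (q + 1) (by omega) rfl).toLinearEquiv.length_eq).symm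
    rw [h4, h2, h3, h5] at h1
    have hfin := hT q
    rw [lenZ, h1, ENat.toNat_add (fun e => hfin (by rw [h1, e, top_add])) (fun e => hfin (by rw [h1, e, add_top])),
      ENat.toNat_add (fun e => hfin (by rw [h1, e, top_add, top_add]))
        (fun e => hfin (by rw [h1, e, add_top, top_add]))]
    simp only [B, lenZ]
    rw [add_sub_cancel_right q 1]
    push_cast
    ring
  rw [Finset.sum_congr rfl fun q _ => by rw [key q]]
  have hB : ∀ q, q ≤ a + 1 ∨ b ≤ q → B q = 0 := by
    intro q hq
    have hsub : Subsingleton (LinearMap.range ((F q).mkQ ∘ₗ dd K (q - 1) q)) := by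
      rcases hq with h | h
      · haveI := hX (q - 1) (Or.inl (by omega))
        refine subsingleton_of_forall_eq 0 fun y => ?_
        obtain ⟨w, hw⟩ := y.2
        refine Subtype.ext ?_
        rw [← hw, Subsingleton.elim w 0, map_zero]
        rfl
      · haveI := hX q (Or.inr h)
        haveI : Subsingleton ((K.X q : Type u) ⧸ F q) := (Submodule.mkQ_surjective (F q)).subsingleton
        infer_instance
    simp only [B, lenZ, Module.length_eq_zero, ENat.toNat_zero, Nat.cast_zero]
  have h0 : ∑ q ∈ Finset.Icc a b, sgn (q + 1) * B (q + 1) = ∑ q ∈ Finset.Icc a b, sgn q * B q :=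
    sum_shift (G := fun q => sgn q * B q) fun q hq => by simp [hB q hq]
  simp only [sgn_succ, neg_mul, Finset.sum_neg_distrib] at h0
  simp only [mul_add, Finset.sum_add_distrib]
  linarith [h0]

end Groth.Agent.LC17
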