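import Mathlib

/-!
# Artinian modules killed by a power of the maximal ideal
-/

set_option autoImplicit false

universe u

open IsLocalRing

namespace Groth.Agent.LC17

theorem isFiniteLength_of_isArtinian_of_pow_smul {R : Type u} [CommRing R] [IsLocalRing R] [IsNoetherianRing R] :
    ∀ (k : ℕ) (H : Type u) [AddCommGroup H] [Module R H] [IsArtinian R H],
      (∀ a ∈ maximalIdeal R ^ k, ∀ x : H, a • x = 0) → IsFiniteLength R H := by
  intro k
  induction k with
  | zero =>
    intro H _ _ _ h
    have : Subsingleton H := subsingleton_of_forall_eq 0 fun x => by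
      simpa using h 1 (by simp) x
    exact .of_subsingleton
  | succ k ih =>
    intro H _ _ _ h
    let S : Submodule R H := maximalIdeal R • ⊤
    have h1 := ih S fun a ha x => Subtype.ext (by
      obtain ⟨y, hy⟩ := x
      show a • y = 0
      refine Submodule.smul_induction_on hy (fun b hb z _ => ?_) fun u v hu hv => by
        rw [smul_add, hu, hv, add_zero]
      rw [smul_smul]
      exact h _ (by rw [pow_succ]; exact Ideal.mul_mem_mul ha hb) z)
    have hkill : Module.IsTorsionBySet R (H ⧸ S) (maximalIdeal R : Set R) := by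
      intro x a
      obtain ⟨y, rfl⟩ := Submodule.Quotient.mk_surjective S x
      exact (Submodule.Quotient.mk_smul S (a : R) y).symm.trans
        ((Submodule.Quotient.mk_eq_zero S).2 (Submodule.smul_mem_smul a.2 Submodule.mem_top))
    letI := hkill.module
    haveI : IsScalarTower R (R ⧸ maximalIdeal R) (H ⧸ S) := hkill.isScalarTower
    letI := Ideal.Quotient.field (maximalIdeal R)
    haveI : IsArtinian (R ⧸ maximalIdeal R) (H ⧸ S) := isArtinian_of_tower R inferInstance
    haveI : Module.Finite (R ⧸ maximalIdeal R) (H ⧸ S) :=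
      ((IsSemisimpleModule.finite_tfae (R := R ⧸ maximalIdeal R) (M := H ⧸ S)).out 0 2 rfl rfl).2
        ‹IsArtinian (R ⧸ maximalIdeal R) (H ⧸ S)›
    haveI : Module.Finite R (H ⧸ S) := Module.Finite.trans (R ⧸ maximalIdeal R) (H ⧸ S)
    haveI : IsNoetherian R (H ⧸ S) := inferInstance
    haveI := (isFiniteLength_iff_isNoetherian_isArtinian.1 h1).1
    exact isFiniteLength_iff_isNoetherian_isArtinian.2
      ⟨(isNoetherian_iff_submodule_quotient S).2 ⟨inferInstance, inferInstance⟩, inferInstance⟩

end Groth.Agent.LC17
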