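import Groth.Agent.LC17.GorAnn
import Groth.Agent.LC17.FiniteLengthArtin
import Groth.Agent.LC17.IDepth
import Groth.Agent.LC15.Artin
import Groth.Agent.LC15.Finiteness
import Groth.Agent.EGA4Alg4.CMMod
import Groth.Agent.EGA4Alg4.Depth
import Groth.Agent.Cyc90.CMDim
import Groth.Agent.LC16.CanonDim

/-!
# Generalized Cohen–Macaulay modules
-/

set_option autoImplicit false

universe u

open IsLocalRing Groth.Agent.LC15 Groth.Agent.LC16

namespace Groth.Agent.LC17.GenCM

theorem isFiniteLength_H_iff {R : Type u} [CommRing R] [IsNoetherianRing R] [IsLocalRing R]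
    (i : ℕ) (M : Type u) [AddCommGroup M] [Module R M] [Module.Finite R M] :
    IsFiniteLength R (LocCoh.H (maximalIdeal R) i M) ↔
      maximalIdeal R ≤ (Module.annihilator R (LocCoh.H (maximalIdeal R) i M)).radical := by
  constructor
  · intro h
    have := (isFiniteLength_iff_isNoetherian_isArtinian.1 h).1
    obtain ⟨k, hk⟩ := LC15.exists_pow_smul_H_eq_zero (maximalIdeal R) (i := i) (M := M)
    exact fun x hx => ⟨k, Module.mem_annihilator.2 fun y => hk _ (Ideal.pow_mem_pow hx k) y⟩
  · intro h
    have := LC15.isArtinian_H_maximalIdeal (R := R) i M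
    obtain ⟨k, hk⟩ := Ideal.exists_pow_le_of_le_radical_of_fg h (IsNoetherian.noetherian _)
    exact isFiniteLength_of_isArtinian_of_pow_smul k _ fun a ha x => Module.mem_annihilator.1 (hk ha) x

theorem depth_le_iff_forall {R : Type u} [CommRing R] [IsNoetherianRing R] [IsLocalRing R]
    (M : Type u) [AddCommGroup M] [Module R M] [Module.Finite R M] (k : ℕ) :
    (k : ℕ∞) ≤ LocCoh.depth R M ↔ ∀ j, j < k → Subsingleton (LocCoh.H (maximalIdeal R) j M) :=
  natCast_le_idealDepth_iff (maximalIdeal R) M k

variable {R' R : Type u} [CommRing R'] [LocCoh.IsGorensteinLocalRing R'] [CommRing R] [Algebra R' R]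
  [IsNoetherianRing R] [IsLocalRing R] (hg : Function.Surjective (algebraMap R' R))
  (M : Type u) [AddCommGroup M] [Module R M] [Module.Finite R M]

include hg in
/-- chains between two primes of the right length -/
theorem exists_series_le {P p : PrimeSpectrum R} (hPp : P ≤ p) {n a : ℕ}
    (hP : ringKrullDim (R ⧸ P.asIdeal) = n) (hp : ringKrullDim (R ⧸ p.asIdeal) = a) :
    ∃ l : LTSeries (PrimeSpectrum R), l.length = n - a ∧ l.head = P ∧ l.last = p := by
  have := Gor18.gor_cm R'
  obtain ⟨N, hN⟩ := Gor18.gor_cm.exists_ringKrullDim_eq_nat R'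
  let c := PrimeSpectrum.comap (algebraMap R' R)
  have hdim : ∀ x : PrimeSpectrum R, ringKrullDim (R' ⧸ (c x).asIdeal) = ringKrullDim (R ⧸ x.asIdeal) :=
    fun x => ringKrullDim_eq_of_ringEquiv ((Ideal.quotEquivOfEq (by
      ext y; exact (Ideal.Quotient.eq_zero_iff_mem (I := x.asIdeal) (a := algebraMap R' R y)).symm)).trans
      (RingHom.quotientKerEquivOfSurjective (f := (Ideal.Quotient.mk x.asIdeal).comp (algebraMap R' R))
        (Ideal.Quotient.mk_surjective.comp hg)))
  have hht : ∀ (x : PrimeSpectrum R) (b : ℕ), ringKrullDim (R ⧸ x.asIdeal) = b →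
      ∃ h : ℕ, (c x).asIdeal.height = h ∧ h + b = N := fun x b hb => by
    obtain ⟨h, hh⟩ := ENat.ne_top_iff_exists.1 (Ideal.height_ne_top (c x).2.ne_top)
    refine ⟨h, hh.symm, LC16.CanonLocal.height_add_dim_quotient (c x).asIdeal hN ?_ ((hdim x).trans hb)⟩
    rw [IsLocalization.AtPrime.ringKrullDim_eq_height (c x).asIdeal (Localization.AtPrime (c x).asIdeal), ← hh]
    rfl
  obtain ⟨hP', e1, e1'⟩ := hht P n hP
  obtain ⟨hp', e2, e2'⟩ := hht p a hp
  obtain ⟨s, hs, hsh, hsl⟩ := EGA4H10.exists_saturated (c P) (c p) (Ideal.comap_mono hPp)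
  have hlen := EGA4H10.height_saturated (Cyc90.coverSucc_of_cm inferInstance) s hs
  rw [hsh, hsl, e1, e2] at hlen
  have hlen : hp' = hP' + s.length := by exact_mod_cast hlen
  have hker : ∀ i, RingHom.ker (algebraMap R' R) ≤ (s i).asIdeal := fun i =>
    le_trans (fun x hx => by
      show algebraMap R' R x ∈ P.asIdeal
      rw [RingHom.mem_ker.1 hx]
      exact zero_mem _) (show (c P).asIdeal ≤ (s i).asIdeal from hsh ▸ s.monotone (Fin.zero_le i))
  let f : Fin (s.length + 1) → PrimeSpectrum R := fun i =>
    ⟨(s i).asIdeal.map (algebraMap R' R), Ideal.map_isPrime_of_surjective hg (hker i)⟩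
  have hcf : ∀ i, c (f i) = s i := fun i => PrimeSpectrum.ext (by
    show ((s i).asIdeal.map (algebraMap R' R)).comap (algebraMap R' R) = _
    rw [Ideal.comap_map_of_surjective' _ hg, sup_eq_left]
    exact hker i)
  have hinj : Function.Injective c := PrimeSpectrum.comap_injective_of_surjective _ hg
  refine ⟨⟨s.length, f, fun i => ?_⟩, by show s.length = n - a; omega, hinj ((hcf 0).trans hsh),
    hinj ((hcf (Fin.last _)).trans hsl)⟩
  have h1 : c (f (Fin.castSucc i)) < c (f i.succ) := by
    rw [hcf, hcf]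
    exact s.step i
  exact lt_of_le_of_ne (Ideal.map_mono (le_of_lt (s.step i))) fun e => h1.ne (congrArg c (PrimeSpectrum.ext e))

include hg in
theorem isFiniteLength_below_iff {n : ℕ} (hn : Module.supportDim R M = n) :
    (∀ i : ℕ, i < n → IsFiniteLength R (LocCoh.H (maximalIdeal R) i M)) ↔
      (∀ p ∈ (Module.annihilator R M).minimalPrimes, ringKrullDim (R ⧸ p) = n) ∧
        ∀ (p : Ideal R) [p.IsPrime], p ≠ maximalIdeal R → Module.annihilator R M ≤ p →
          LocCoh.IsCohenMacaulayModule (Localization.AtPrime p) (LocalizedModule p.primeCompl M) := by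
  -- facts at a prime of the support
  have loc : ∀ (p : Ideal R) [p.IsPrime], Module.annihilator R M ≤ p → ∀ a : ℕ,
      ringKrullDim (R ⧸ p) = a → a ≤ n ∧
        Nontrivial (LocalizedModule p.primeCompl M) ∧
        ∃ d e : ℕ, Module.supportDim (Localization.AtPrime p) (LocalizedModule p.primeCompl M) = d ∧
          LocCoh.depth (Localization.AtPrime p) (LocalizedModule p.primeCompl M) = e ∧ e ≤ d ∧ d + a ≤ n := by
    intro p hp hle a ha
    have hsupp : (⟨p, hp⟩ : PrimeSpectrum R) ∈ Module.support R M :=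
      Module.mem_support_iff_of_finite.2 hle
    have hnt : Nontrivial (LocalizedModule p.primeCompl M) := Module.mem_support_iff.1 hsupp
    obtain ⟨d, hd⟩ := EGA4Alg4.exists_supportDim_eq (A := Localization.AtPrime p)
      (M := LocalizedModule p.primeCompl M)
    have h1 := EGA4Alg4.supportDim_localizedModule_add_le M p
    rw [EGA4Alg4.supportDim_quotient_prime (p := ⟨p, hp⟩) hsupp, hd, hn,
      show ringKrullDim (R ⧸ (⟨p, hp⟩ : PrimeSpectrum R).asIdeal) = a from ha] at h1
    have h2 := EGA4Alg4.depth_le_supportDim (A := Localization.AtPrime p)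
      (M := LocalizedModule p.primeCompl M)
    rw [hd] at h2
    have h1' : d + a ≤ n := by exact_mod_cast h1
    refine ⟨by omega, hnt, d, ?_⟩
    generalize LocCoh.depth (Localization.AtPrime p) (LocalizedModule p.primeCompl M) = D at h2 ⊢
    cases D with
    | top =>
      have h3 : (⊤ : ℕ∞) ≤ (d : ℕ∞) := WithBot.coe_le_coe.1 h2
      exact absurd h3 (not_le.2 (ENat.coe_lt_top d))
    | coe e => exact ⟨e, hd, rfl, by exact_mod_cast h2, h1'⟩
  -- the reformulation
  have crit : (∀ i : ℕ, i < n → IsFiniteLength R (LocCoh.H (maximalIdeal R) i M)) ↔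
      ∀ (p : Ideal R) [p.IsPrime], p ≠ maximalIdeal R → Module.annihilator R M ≤ p → ∀ a : ℕ,
        ringKrullDim (R ⧸ p) = a →
        ((n - a : ℕ) : ℕ∞) ≤ LocCoh.depth (Localization.AtPrime p) (LocalizedModule p.primeCompl M) := by
    constructor
    · intro H p hp hpm hle a ha
      refine (depth_le_iff_forall (LocalizedModule p.primeCompl M) (n - a)).2 fun j hj => ?_
      refine (GorAnn.le_radical_annihilator_iff hg M (maximalIdeal R) (j + a)).1
        ((isFiniteLength_H_iff (j + a) M).1 (H (j + a) (by omega))) p (fun h => ?_) j (by rw [ha]; norm_cast)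
      exact hpm (le_antisymm (le_maximalIdeal hp.ne_top) h)
    · intro H i hi
      refine (isFiniteLength_H_iff i M).2 ((GorAnn.le_radical_annihilator_iff hg M (maximalIdeal R) i).2
        fun p hp hJ j hj => ?_)
      by_cases hle : Module.annihilator R M ≤ p
      · obtain ⟨a, ha⟩ := exists_ringKrullDim_quotient_eq hp.ne_top
        rw [ha] at hj
        have hj' : j + a = i := by exact_mod_cast hj
        exact (depth_le_iff_forall (LocalizedModule p.primeCompl M) (n - a)).1
          (H p (fun e => hJ e.ge) hle a ha) j (by omega)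
      · have : Subsingleton (LocalizedModule p.primeCompl M) :=
          (Module.notMem_support_iff (p := ⟨p, hp⟩)).1 fun hs => hle (Module.mem_support_iff_of_finite.1 hs)
        exact LC15.subsingleton_H_of_subsingleton _ _
  rw [crit]
  constructor
  · intro H
    have hCM : ∀ (p : Ideal R) [p.IsPrime], p ≠ maximalIdeal R → Module.annihilator R M ≤ p → ∀ a : ℕ,
        ringKrullDim (R ⧸ p) = a →
        Module.supportDim (Localization.AtPrime p) (LocalizedModule p.primeCompl M) = ((n - a : ℕ) : WithBot ℕ∞) ∧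
        LocCoh.IsCohenMacaulayModule (Localization.AtPrime p) (LocalizedModule p.primeCompl M) := by
      intro p hp hpm hle a ha
      obtain ⟨han, -, d, e, hd, he, hed, hda⟩ := loc p hle a ha
      have h1 := H p hpm hle a ha
      rw [he] at h1
      have h1' : n - a ≤ e := by exact_mod_cast h1
      obtain rfl : e = d := by omega
      obtain rfl : e = n - a := by omega
      exact ⟨hd, by rw [LocCoh.IsCohenMacaulayModule, hd, he]; rfl⟩
    refine ⟨fun p hp => ?_, fun p hp hpm hle => ?_⟩
    · haveI := hp.1.1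
      obtain ⟨a, ha⟩ := exists_ringKrullDim_quotient_eq hp.1.1.ne_top
      obtain ⟨han, hnt, -⟩ := loc p hp.1.2 a ha
      rw [ha]
      by_cases hpm : p = maximalIdeal R
      · subst hpm
        have h0 : Module.supportDim R M ≤ 0 := by
          rw [Module.supportDim, Order.krullDim_nonpos_iff_forall_isMax]
          rintro ⟨q, hq⟩ ⟨q', hq'⟩ h
          have hq1 : q.asIdeal = maximalIdeal R := le_antisymm (le_maximalIdeal q.2.ne_top)
            (hp.2 ⟨q.2, Module.mem_support_iff_of_finite.1 hq⟩ (le_maximalIdeal q.2.ne_top))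
          show q'.asIdeal ≤ q.asIdeal
          rw [hq1]
          exact le_maximalIdeal q'.2.ne_top
        rw [hn] at h0
        have : n = 0 := by exact_mod_cast le_antisymm h0 (by exact_mod_cast Nat.zero_le n)
        exact_mod_cast (show a = n by omega)
      · obtain ⟨hd, -⟩ := hCM p hpm hp.1.2 a ha
        have hzero : Module.supportDim (Localization.AtPrime p) (LocalizedModule p.primeCompl M) ≤ 0 := by
          rw [Ega11.SupportLoc.supportDim_localizedModule_eq, Order.krullDim_nonpos_iff_forall_isMax]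
          rintro ⟨q, hq, hqp⟩ ⟨q', hq', hq'p⟩ h
          have hq1 : q.asIdeal = p := le_antisymm hqp (hp.2 ⟨q.2, Module.mem_support_iff_of_finite.1 hq⟩ hqp)
          show q'.asIdeal ≤ q.asIdeal
          rw [hq1]
          exact hq'p
        rw [hd] at hzero
        have : n - a = 0 := by exact_mod_cast le_antisymm hzero (by exact_mod_cast Nat.zero_le _)
        exact_mod_cast (show a = n by omega)
    · obtain ⟨a, ha⟩ := exists_ringKrullDim_quotient_eq hp.ne_top
      exact (hCM p hpm hle a ha).2
  · rintro ⟨heq, hCM⟩ p hp hpm hle a ha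
    obtain ⟨P, hP, hPp⟩ := Ideal.exists_minimalPrimes_le hle
    haveI := hP.1.1
    obtain ⟨l, hl, hlh, hll⟩ := exists_series_le hg (P := ⟨P, hP.1.1⟩) (p := ⟨p, hp⟩) hPp (heq P hP) ha
    have h := LC16.CanonDim.le_supportDim_localized (M := M) (q := ⟨P, hP.1.1⟩) (p := ⟨p, hp⟩)
      (Module.mem_support_iff_of_finite.2 hP.1.2) l hl hlh.ge hll.le
    rw [show Module.supportDim (Localization.AtPrime p) (LocalizedModule p.primeCompl M) = _ from
      hCM p hpm hle] at h
    exact WithBot.coe_le_coe.1 h

end Groth.Agent.LC17.GenCM
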