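import Groth.Agent.LC16.CanonExists
import Groth.Agent.LC16.CanonLocal
import Groth.Agent.LC17.QuotDim
import Groth.Agent.LC15.ExtCompare

/-!
# Local duality for a quotient of a Gorenstein ring, computed upstairs
-/

set_option autoImplicit false

universe u

open IsLocalRing CategoryTheory Opposite Groth.Agent.LC15 Groth.Agent.LC16

namespace Groth.Agent.LC17.GorExt

theorem height_add_eq {S : Type u} [CommRing S] [LocCoh.IsCohenMacaulayLocalRing S] (I : Ideal S)
    {g d n : ℕ} (hg : I.height = g) (hd : ringKrullDim (S ⧸ I) = d) (hn : ringKrullDim S = n) :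
    g + d = n := by
  have key : ∀ (p : Ideal S) [p.IsPrime], ∃ h a : ℕ,
      p.height = h ∧ ringKrullDim (S ⧸ p) = a ∧ h + a = n := by
    intro p hp
    obtain ⟨h, hh⟩ := ENat.ne_top_iff_exists.1 (Ideal.height_ne_top hp.ne_top)
    obtain ⟨a, ha⟩ := exists_ringKrullDim_quotient_eq hp.ne_top
    refine ⟨h, a, hh.symm, ha, LC16.CanonLocal.height_add_dim_quotient p hn ?_ ha⟩
    rw [IsLocalization.AtPrime.ringKrullDim_eq_height p (Localization.AtPrime p), ← hh]
    rfl
  refine le_antisymm ?_ ?_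
  · obtain ⟨q, hq, hIq, hqd⟩ := exists_prime_ge_of_series (I := I) (k := d) hd.ge
    haveI := hq
    obtain ⟨h, a, hh, ha, e⟩ := key q
    have h1 : g ≤ h := by
      have := Ideal.height_mono hIq
      rw [hg, hh] at this
      exact_mod_cast this
    have h2 : d ≤ a := by
      rw [ha] at hqd
      exact_mod_cast hqd
    omega
  · have hne : I ≠ ⊤ := fun e => by
      rw [e, Ideal.height_top] at hg
      exact ENat.top_ne_coe g hg
    by_contra hlt
    have h1 : ((n - d : ℕ) : ℕ∞) ≤ I.height := by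
      rw [Ideal.height_eq_inf_minimalPrimes]
      refine le_iInf₂ fun p hp => ?_
      haveI := hp.1.1
      obtain ⟨h, a, hh, ha, e⟩ := key p
      have h2 : a ≤ d := by
        have := ringKrullDim_quotient_anti hp.1.2
        rw [hd, ha] at this
        exact_mod_cast this
      rw [hh]
      exact_mod_cast (by omega : n - d ≤ h)
    rw [hg] at h1
    have : n - d ≤ g := by exact_mod_cast h1
    omega

theorem main {S : Type u} [CommRing S] [LocCoh.IsGorensteinLocalRing S] (I : Ideal S) (g : ℕ)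
    (hg : I.height = g) (d : ℕ) (hd : ringKrullDim (S ⧸ I) = d) (E : Type u) [AddCommGroup E]
    [Module S E] (f : ResidueField S →ₗ[S] E) (hf : InjHull.IsInjectiveHull f) :
    Nonempty ((((Ext S (ModuleCat.{u} S) g).obj (op (ModuleCat.of S (S ⧸ I)))).obj (ModuleCat.of S S)
      →ₗ[S] E) ≃ₗ[S] LocCoh.H (maximalIdeal S) d (S ⧸ I)) := by
  have := Gor18.gor_cm S
  obtain ⟨n, hn⟩ := Gor18.gor_cm.exists_ringKrullDim_eq_nat S
  obtain ⟨f₀, hf₀⟩ := Gor18.exists_hull_H S n hn
  obtain ⟨eE, -⟩ := InjHull18.hull_unique hf hf₀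
  have := hf₀.isInjective
  obtain ⟨e⟩ := CanonDual.duality (R := S) (K := S) hn
    (LinearMap.ringLmapEquivSelf S S (LocCoh.H (maximalIdeal S) n S)) g d
    (height_add_eq I hg hd hn) (S ⧸ I)
  exact ⟨LinearEquiv.arrowCongr (LC15.extEquiv (ModuleCat.of S (S ⧸ I)) (ModuleCat.of S S) g) eE ≪≫ₗ e.symm⟩

end Groth.Agent.LC17.GorExt
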