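import Groth.Agent.LC17.GrSections

/-!
# The cokernel of the map to the twisted sections
-/

universe u

open CategoryTheory AlgebraicGeometry TopologicalSpace Opposite GrMod

noncomputable section

namespace Groth.Agent.LC17.GrCoker

open Groth.Agent.EGAProj74.GrT Groth.Agent.LC17 Groth.Agent.LC17.GrSections

variable {A σ : Type u} [CommRing A] [SetLike σ A] [AddSubgroupClass σ A] {𝒜 : ℕ → σ} [GradedRing 𝒜]
  {M τ : Type u} [AddCommGroup M] [Module A M] [SetLike τ M] [AddSubgroupClass τ M] {ℳ : ℕ → τ}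
  [SetLike.GradedSMul 𝒜 ℳ] [DirectSum.Decomposition ℳ]

variable (ℳ) in
/-- the component of integral degree -/
def zcomp (z : ℤ) (m : M) : M :=
  if 0 ≤ z then (DirectSum.decompose ℳ m z.toNat : M) else 0

theorem zcomp_of_mem {i : ℕ} {m : M} (hm : m ∈ ℳ i) (z : ℤ) :
    zcomp ℳ z m = if z = (i : ℤ) then m else 0 := by
  unfold zcomp
  rcases eq_or_ne z (i : ℤ) with rfl | hne
  · rw [if_pos (Int.natCast_nonneg i), if_pos rfl, Int.toNat_natCast, DirectSum.decompose_of_mem_same ℳ hm]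
  · rw [if_neg hne]
    by_cases h0 : 0 ≤ z
    · rw [if_pos h0, DirectSum.decompose_of_mem_ne ℳ hm]
      intro h; exact hne (by omega)
    · rw [if_neg h0]

theorem zcomp_add (z : ℤ) (m m' : M) : zcomp ℳ z (m + m') = zcomp ℳ z m + zcomp ℳ z m' := by
  unfold zcomp
  split <;> simp

theorem zcomp_smul {e : ℕ} {a : A} (ha : a ∈ 𝒜 e) (z : ℤ) (m : M) :
    zcomp ℳ (z + e) (a • m) = a • zcomp ℳ z m := by
  induction m using DirectSum.Decomposition.inductionOn ℳ with
  | zero => simp [zcomp]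
  | homogeneous m =>
    rw [zcomp_of_mem (gsmul_mem 𝒜 ℳ ha m.2), zcomp_of_mem m.2]
    split_ifs with h1 h2 h2
    · rfl
    · exact absurd (by push_cast at h1; omega) h2
    · exact absurd (by push_cast; omega) h1
    · rw [smul_zero]
  | add m m' h h' => rw [smul_add, zcomp_add, zcomp_add, h, h', smul_add]

theorem zcomp_mem {z : ℤ} (m : M) (hz : 0 ≤ z) : zcomp ℳ z m ∈ ℳ z.toNat := by
  unfold zcomp
  rw [if_pos hz]
  exact SetLike.coe_mem _

omit [SetLike.GradedSMul 𝒜 ℳ] in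
theorem exists_finset_sum_zcomp (m : M) :
    ∃ S : Finset ℕ, ∀ T : Finset ℕ, S ⊆ T → ∑ i ∈ T, zcomp ℳ (i : ℤ) m = m := by
  classical
  refine ⟨(DirectSum.decompose ℳ m).support, fun T hT => ?_⟩
  refine Eq.trans ?_ (DirectSum.sum_support_decompose ℳ m)
  refine Eq.symm (Finset.sum_subset_zero_on_sdiff hT (fun i hi => ?_) fun i _ => ?_)
  · obtain ⟨-, hi⟩ := Finset.mem_sdiff.1 hi
    unfold zcomp
    rw [if_pos (Int.natCast_nonneg i), Int.toNat_natCast, DFinsupp.notMem_support_iff.1 hi]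
    rfl
  · unfold zcomp
    rw [if_pos (Int.natCast_nonneg i), Int.toNat_natCast]

theorem exists_gens [IsNoetherianRing A] :
    ∃ (ι : Type u) (_ : Fintype ι) (d : ι → ℕ) (g : ι → A), (∀ a, 0 < d a) ∧ (∀ a, g a ∈ 𝒜 (d a)) ∧
      (HomogeneousIdeal.irrelevant 𝒜).toIdeal ≤ Ideal.span (Set.range g) := by
  classical
  let S : Set A := {f | ∃ d, 0 < d ∧ f ∈ 𝒜 d}
  obtain ⟨s, hs, hs'⟩ := (Submodule.fg_span_iff_fg_span_finset_subset S).1 (IsNoetherian.noetherian (Ideal.span S))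
  choose d hd hg using fun a : s => hs a.2
  refine ⟨s, inferInstance, d, fun a => (a : A), hd, hg, GrAlpha.irrelevant_le_of_forall fun e f he hf => ?_⟩
  rw [Subtype.range_coe_subtype]
  have h1 : f ∈ Ideal.span S := Ideal.subset_span ⟨e, he, hf⟩
  rw [Ideal.span, hs'] at h1
  simpa using h1

variable [IsNoetherianRing A]

theorem psi_surjective : Function.Surjective (psi 𝒜 ℳ) := by
  classical
  intro T
  obtain ⟨ι, _, d, g, hd, hg, hgen⟩ := exists_gens (𝒜 := 𝒜)
  have hcovP : ∀ x : ProjectiveSpectrum 𝒜, ∃ a, g a ∉ x.asHomogeneousIdeal := fun x => by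
    by_contra h
    push Not at h
    exact x.not_irrelevant_le fun r hr => (Ideal.span_le.2 (by rintro _ ⟨a, rfl⟩; exact h a)) (hgen hr)
  have hcovU : cone 𝒜 ≤ ⨆ a, dOpen A (g a) := fun q hq => by
    by_contra h
    refine hq (SetLike.coe_subset_coe.2 (hgen.trans (Ideal.span_le.2 ?_)))
    rintro _ ⟨a, rfl⟩
    by_contra ha
    exact h (Opens.mem_iSup.2 ⟨a, ha⟩)
  -- a common exponent with exact compatibility
  choose k₀ m₀ hm₀ using fun a => exists_num M (tres M (dOpen_le (hd a) (hg a)) T)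
  set K₀ := Finset.univ.sup k₀
  have hm₁ex : ∀ a, ∃ m', g a ^ K₀ • tres M (dOpen_le (hd a) (hg a)) T = ttoOpen M (dOpen A (g a)) m' :=
    fun a => ⟨g a ^ (K₀ - k₀ a) • m₀ a, by
      rw [map_smul, ← hm₀, smul_smul, ← pow_add,
        Nat.sub_add_cancel (Finset.le_sup (f := k₀) (Finset.mem_univ a))]⟩
  choose m₁ hm₁ using hm₁ex
  have hjex : ∀ a b, ∃ j, (g a * g b) ^ j • (g b ^ K₀ • m₁ a - g a ^ K₀ • m₁ b) = 0 := fun a b => by
    refine exists_pow_smul_eq_zero_of_toOpen M ?_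
    have ha : dOpen A (g a * g b) ≤ dOpen A (g a) := PrimeSpectrum.basicOpen_mul_le_left _ _
    have hb : dOpen A (g a * g b) ≤ dOpen A (g b) := PrimeSpectrum.basicOpen_mul_le_right _ _
    have e1 := congrArg (tres M ha) (hm₁ a)
    have e2 := congrArg (tres M hb) (hm₁ b)
    rw [tres_smul, tres_tres, tres_ttoOpen] at e1 e2
    show ttoOpen M (dOpen A (g a * g b)) _ = 0
    rw [map_sub, map_smul, map_smul, ← e1, ← e2, smul_comm, sub_self]
  choose j hj using hjex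
  set N := Finset.univ.sup fun ab : ι × ι => j ab.1 ab.2
  set K := K₀ + N
  let m : ι → M := fun a => g a ^ N • m₁ a
  have hm : ∀ a, g a ^ K • tres M (dOpen_le (hd a) (hg a)) T = ttoOpen M (dOpen A (g a)) (m a) := fun a => by
    rw [show m a = g a ^ N • m₁ a from rfl, map_smul, ← hm₁, smul_smul, ← pow_add, add_comm N]
  have hcompat : ∀ a b, g b ^ K • m a = g a ^ K • m b := fun a b => by
    obtain ⟨c, hc⟩ := Nat.exists_eq_add_of_le (Finset.le_sup (f := fun ab : ι × ι => j ab.1 ab.2)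
      (Finset.mem_univ (a, b)) : j a b ≤ N)
    rw [← sub_eq_zero]
    refine Eq.trans ?_ ((congrArg ((g a * g b) ^ c • ·) (hj a b)).trans (smul_zero _))
    have hc' : N = j a b + c := hc
    simp only [m, K, smul_sub, smul_smul]
    rw [hc']
    congr 2 <;> ring
  -- the homogeneous pieces
  let c : ι → ℤ → M := fun a n => zcomp ℳ ((K * d a : ℕ) + n) (m a)
  have hgK : ∀ a, g a ^ K ∈ 𝒜 (K * d a) := fun a => by simpa using SetLike.pow_mem_graded K (hg a)
  have hccompat : ∀ a b n, g b ^ K • c a n = g a ^ K • c b n := fun a b n => by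
    rw [← zcomp_smul (hgK b), ← zcomp_smul (hgK a), hcompat a b]
    congr 1
    ring
  choose pick hpick using hcovP
  have hindep : ∀ (n : ℤ) (x : ProjectiveSpectrum 𝒜) (a : ι) (ha : g a ∉ x.asHomogeneousIdeal),
      frac x (c (pick x) n) (g (pick x) ^ K) (pow_notMem (hpick x) K) = frac x (c a n) (g a ^ K) (pow_notMem ha K) :=
    fun n x a ha => frac_congr (hccompat _ _ n)
  have hczero : ∀ a n, ¬ (0 : ℤ) ≤ (K * d a : ℕ) + n → c a n = 0 := fun a n h => by
    simp only [c, zcomp, if_neg h]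
  have hmemTA : ∀ (n : ℤ) (x : ProjectiveSpectrum 𝒜) (a : ι) (ha : g a ∉ x.asHomogeneousIdeal),
      frac x (c a n) (g a ^ K) (pow_notMem ha K) ∈ tildeAt 𝒜 ℳ n x := fun n x a ha => by
    by_cases h : (0 : ℤ) ≤ (K * d a : ℕ) + n
    · exact frac_mem_tildeAt x (zcomp_mem _ h) (hgK a) _ (Int.toNat_of_nonneg h)
    · rw [show frac x (c a n) (g a ^ K) (pow_notMem ha K) = 0 from by
        rw [frac, hczero a n h]; exact LocalizedModule.zero_mk _]
      exact zero_mem _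
  let s : ∀ n : ℤ, sect 𝒜 ℳ n (op ⊤) := fun n =>
    ⟨fun x => ⟨frac x.1 (c (pick x.1) n) (g (pick x.1) ^ K) (pow_notMem (hpick x.1) K), hmemTA n x.1 _ (hpick x.1)⟩,
      fun x => by
        have hd' : ∀ a, ∃ i, c a n ∈ ℳ i ∧ ((i : ℤ) = (K * d a : ℕ) + n ∨ c a n = 0) := fun a => by
          by_cases h : (0 : ℤ) ≤ (K * d a : ℕ) + n
          · exact ⟨_, zcomp_mem _ h, Or.inl (Int.toNat_of_nonneg h)⟩
          · exact ⟨0, by rw [hczero a n h]; exact zero_mem _, Or.inr (hczero a n h)⟩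
        obtain ⟨i, hi, hi'⟩ := hd' (pick x.1)
        exact ⟨ProjectiveSpectrum.basicOpen 𝒜 (g (pick x.1)), hpick x.1, homOfLE le_top, i, _, ⟨_, hi⟩,
          ⟨_, hgK (pick x.1)⟩, fun y => pow_notMem y.2 K, hi', fun y => hindep n y.1 _ y.2⟩⟩
  have hpsi : ∀ (n : ℤ) (a : ι), g a ^ K • tres M (dOpen_le (hd a) (hg a)) (psiFun (s n)) =
      ttoOpen M (dOpen A (g a)) (c a n) := fun n a => by
    by_cases h : (0 : ℤ) ≤ (K * d a : ℕ) + n
    · exact psiFun_spec (s n) (d a) (g a) K (c a n) (hd a) (hg a)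
        ⟨⟨_, zcomp_mem _ h, (Int.toNat_of_nonneg h).trans (by push_cast; ring)⟩, fun x hx => hindep n x a hx⟩
    · obtain ⟨i, hi⟩ : ∃ i : ℕ, (i : ℤ) = ((K + n.natAbs : ℕ) : ℤ) * d a + n := by
        refine ⟨(((K + n.natAbs : ℕ) : ℤ) * d a + n).toNat, Int.toNat_of_nonneg ?_⟩
        have h1 : (n.natAbs : ℤ) ≤ ((K + n.natAbs : ℕ) : ℤ) * d a := by
          exact_mod_cast (Nat.le_add_left _ K).trans (Nat.le_mul_of_pos_right _ (hd a))
        omega
      have h2 := psiFun_spec (s n) (d a) (g a) (K + n.natAbs) 0 (hd a) (hg a)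
        ⟨⟨i, zero_mem _, hi⟩, fun x hx => (hindep n x a hx).trans (frac_congr (by rw [hczero a n h, smul_zero, smul_zero]))⟩
      rw [map_zero] at h2
      rw [smul_injective M _ _ h2, smul_zero, hczero a n h, map_zero]
  choose S hS using fun a => exists_finset_sum_zcomp (ℳ := ℳ) (m a)
  let Z : Finset ℤ := Finset.univ.biUnion fun a => (S a).image fun i : ℕ => (i : ℤ) - ((K * d a : ℕ) : ℤ)
  have hsum : ∀ a, ∑ n ∈ Z, c a n = m a := fun a => by
    set T' := (Z.filter fun n : ℤ => (0 : ℤ) ≤ (K * d a : ℕ) + n).image fun n : ℤ => (((K * d a : ℕ) : ℤ) + n).toNat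
    refine Eq.trans ?_ (hS a T' fun i hi => Finset.mem_image.2 ⟨(i : ℤ) - (K * d a : ℕ),
      Finset.mem_filter.2 ⟨Finset.mem_biUnion.2 ⟨a, Finset.mem_univ a, Finset.mem_image_of_mem _ hi⟩, by omega⟩,
      by omega⟩)
    rw [Finset.sum_image fun p hp q hq e => by
      have := (Finset.mem_filter.1 hp).2
      have := (Finset.mem_filter.1 hq).2
      have e : ((K * d a : ℕ) + p : ℤ).toNat = ((K * d a : ℕ) + q : ℤ).toNat := e
      omega]
    rw [← Finset.sum_filter_of_ne (s := Z) (p := fun n => (0 : ℤ) ≤ (K * d a : ℕ) + n)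
      fun n _ hn => not_not.1 fun h => hn (hczero a n h)]
    refine Finset.sum_congr rfl fun n hn => ?_
    rw [Int.toNat_of_nonneg (Finset.mem_filter.1 hn).2]
  refine ⟨∑ n ∈ Z, DirectSum.of (fun n : ℤ => TSec 𝒜 ℳ n) n (s n), ?_⟩
  have heq : psi 𝒜 ℳ (∑ n ∈ Z, DirectSum.of (fun n : ℤ => TSec 𝒜 ℳ n) n (s n)) = ∑ n ∈ Z, psiFun (s n) := by
    rw [map_sum]
    exact Finset.sum_congr rfl fun n _ => DirectSum.toAddMonoid_of _ n _
  rw [heq]
  refine sub_eq_zero.1 (eq_zero_of_local M (fun a => dOpen A (g a)) (fun a => dOpen_le (hd a) (hg a)) hcovU _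
    fun a => ?_)
  refine smul_injective M _ K ?_
  rw [map_sub, smul_sub, map_sum, Finset.smul_sum, Finset.sum_congr rfl fun n _ => hpsi n a, ← map_sum,
    hsum a, hm a, sub_self]

theorem sectionsDT_toDT (m : M) :
    sectionsDT (HomogeneousIdeal.irrelevant 𝒜).toIdeal M (LocCoh.toDT _ M m) = ttoOpen M (cone 𝒜) m := by
  unfold sectionsDT
  rw [LinearEquiv.trans_apply, LinearEquiv.symm_apply_eq]
  exact LC16.DT.map_toDT (ttoOpen M (cone 𝒜)) m

theorem main : Nonempty ((DirectSum ℤ (fun n : ℤ => TSec 𝒜 ℳ n) ⧸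
    AddSubgroup.closure (⋃ i : ℕ, Set.range (fun m : ℳ i =>
      DirectSum.of (fun n : ℤ => TSec 𝒜 ℳ n) (i : ℤ) (GrMod.alpha 𝒜 ℳ i m)))) ≃+
    LocCoh.H (HomogeneousIdeal.irrelevant 𝒜).toIdeal 1 M) := by
  classical
  set I := (HomogeneousIdeal.irrelevant 𝒜).toIdeal
  let e := sectionsDT I M
  let P : DirectSum ℤ (fun n : ℤ => TSec 𝒜 ℳ n) →+ LocCoh.DT I M :=
    e.symm.toLinearMap.toAddMonoidHom.comp (psi 𝒜 ℳ)
  have hP : Function.Bijective P := e.symm.bijective.comp ⟨psi_injective, psi_surjective⟩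
  let q : DirectSum ℤ (fun n : ℤ => TSec 𝒜 ℳ n) →+ LocCoh.DT I M ⧸ LinearMap.range (LocCoh.toDT I M) :=
    (LinearMap.range (LocCoh.toDT I M)).mkQ.toAddMonoidHom.comp P
  have hgen : ∀ (i : ℕ) (m : ℳ i),
      P (DirectSum.of (fun n : ℤ => TSec 𝒜 ℳ n) (i : ℤ) (GrMod.alpha 𝒜 ℳ i m)) = LocCoh.toDT I M (m : M) := by
    intro i m
    show e.symm (psi 𝒜 ℳ _) = _
    rw [LinearEquiv.symm_apply_eq]
    refine ((DirectSum.toAddMonoid_of (fun n => AddMonoidHom.mk' (fun s : TSec 𝒜 ℳ n => psiFun (n := n) s)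
      fun s t => psiFun_add s t) (i : ℤ) (GrMod.alpha 𝒜 ℳ i m)).trans ?_)
    exact (psiFun_globalOf m).trans (sectionsDT_toDT (m : M)).symm
  set C := AddSubgroup.closure (⋃ i : ℕ, Set.range (fun m : ℳ i =>
      DirectSum.of (fun n : ℤ => TSec 𝒜 ℳ n) (i : ℤ) (GrMod.alpha 𝒜 ℳ i m)))
  have hker : q.ker = C := by
    refine le_antisymm (fun x hx => ?_) ((AddSubgroup.closure_le _).2 ?_)
    · obtain ⟨m, hm⟩ := (Submodule.Quotient.mk_eq_zero _).1 hx
      have key : ∀ m : M, ∃ y ∈ C, P y = LocCoh.toDT I M m := fun m => by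
        induction m using DirectSum.Decomposition.inductionOn ℳ with
        | zero => exact ⟨0, zero_mem _, by rw [map_zero, map_zero]⟩
        | homogeneous m =>
          exact ⟨_, AddSubgroup.subset_closure (Set.mem_iUnion.2 ⟨_, m, rfl⟩), hgen _ m⟩
        | add m m' h h' =>
          obtain ⟨y, hy, hy'⟩ := h
          obtain ⟨z, hz, hz'⟩ := h'
          exact ⟨y + z, add_mem hy hz, by rw [map_add, map_add, hy', hz']⟩
      obtain ⟨y, hy, hy'⟩ := key m
      exact hP.1 (hy'.trans hm) ▸ hy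
    · intro x hx
      obtain ⟨i, m, rfl⟩ := Set.mem_iUnion.1 hx
      exact (Submodule.Quotient.mk_eq_zero _).2 ⟨(m : M), (hgen i m).symm⟩
  obtain ⟨e1⟩ := LC16.DT.exists_coker_equiv_H1 (I := I) (M := M)
  exact ⟨((QuotientAddGroup.quotientAddEquivOfEq hker.symm).trans
    (QuotientAddGroup.quotientKerEquivOfSurjective q
      ((Submodule.mkQ_surjective _).comp hP.2))).trans e1.toAddEquiv⟩

end Groth.Agent.LC17.GrCoker

end
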