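import Groth.Agent.LC17.NulAlg
import Groth.Agent.CAlg1.SkFlat
import Groth.Agent.Cyc90.DimFormula
import Mathlib.RingTheory.ReesAlgebra
import Mathlib.RingTheory.Ideal.KrullsHeightTheorem

/-!
# Heights in the associated graded ring and depths of the conormal powers
-/

set_option autoImplicit false

universe u

open Polynomial Groth.Agent.LC17 Groth.Agent.LC15

namespace Groth.Agent.LC17.GrConormal

variable {R : Type u} [CommRing R] (I : Ideal R)

/-- the augmentation of the Rees algebra -/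
noncomputable def eps : ↥(reesAlgebra I) →+* R :=
  Polynomial.constantCoeff.comp (reesAlgebra I).val.toRingHom

theorem eps_apply (f : ↥(reesAlgebra I)) : eps I f = (f : R[X]).coeff 0 := rfl

theorem eps_algebraMap (r : R) : eps I (algebraMap R ↥(reesAlgebra I) r) = r := by
  rw [eps_apply]; exact Polynomial.coeff_C_zero

/-- a homogeneous element -/
noncomputable def mon (n : ℕ) (a : R) (ha : a ∈ I ^ n) : ↥(reesAlgebra I) :=
  ⟨monomial n a, reesAlgebra.monomial_mem.mpr ha⟩

/-- the homogeneous component -/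
noncomputable def cmp (n : ℕ) (f : ↥(reesAlgebra I)) : ↥(reesAlgebra I) :=
  mon I n ((f : R[X]).coeff n) (f.2 n)

theorem coe_cmp (n : ℕ) (f : ↥(reesAlgebra I)) :
    ((cmp I n f : ↥(reesAlgebra I)) : R[X]) = monomial n ((f : R[X]).coeff n) := rfl

theorem sum_cmp (f : ↥(reesAlgebra I)) : ∑ n ∈ (f : R[X]).support, cmp I n f = f :=
  Subtype.ext (by
    rw [AddSubmonoidClass.coe_finsetSum]
    exact (f : R[X]).as_sum_support.symm)

theorem coeff_mem_smul {q : Ideal R} {f : ↥(reesAlgebra I)}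
    (hf : f ∈ q.map (algebraMap R ↥(reesAlgebra I))) (n : ℕ) : (f : R[X]).coeff n ∈ q * I ^ n := by
  induction hf using Submodule.closure_induction with
  | zero => simp
  | add x y _ _ hx hy => rw [Subalgebra.coe_add, coeff_add]; exact add_mem hx hy
  | smul_mem g x hx =>
    obtain ⟨c, hc, rfl⟩ := hx
    rw [smul_eq_mul, Subalgebra.coe_mul, show ((algebraMap R ↥(reesAlgebra I) c : ↥(reesAlgebra I)) : R[X]) = C c from rfl,
      coeff_mul_C]
    rw [mul_comm q]
    exact Ideal.mul_mem_mul (g.2 n) hc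

theorem cmp_mem_map {q : Ideal R} {f : ↥(reesAlgebra I)}
    (hf : f ∈ q.map (algebraMap R ↥(reesAlgebra I))) (n : ℕ) :
    cmp I n f ∈ q.map (algebraMap R ↥(reesAlgebra I)) := by
  suffices ∀ r ∈ q * I ^ n, ∃ g : ↥(reesAlgebra I), g ∈ q.map (algebraMap R ↥(reesAlgebra I)) ∧
      (g : R[X]) = monomial n r by
    obtain ⟨g, hg, hgr⟩ := this _ (coeff_mem_smul I hf n)
    rwa [show cmp I n f = g from Subtype.ext hgr.symm]
  intro r hr
  induction hr using Submodule.smul_induction_on' with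
  | smul c hc a ha =>
    refine ⟨algebraMap R _ c * mon I n a ha, Ideal.mul_mem_right _ _ (Ideal.mem_map_of_mem _ hc), ?_⟩
    show C c * monomial n a = monomial n (c • a)
    rw [C_mul_monomial, smul_eq_mul]
  | add x hx y hy hgx hgy =>
    obtain ⟨g, hg, e⟩ := hgx
    obtain ⟨g', hg', e'⟩ := hgy
    exact ⟨g + g', add_mem hg hg', by rw [Subalgebra.coe_add, e, e', map_add]⟩

theorem eps_map_le {q : Ideal R} : q.map (algebraMap R ↥(reesAlgebra I)) ≤ q.comap (eps I) :=
  Ideal.map_le_iff_le_comap.2 fun r hr => by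
    rw [Ideal.mem_comap, Ideal.mem_comap, eps_algebraMap]; exact hr

/-- minimal primes over an extended ideal are homogeneous -/
theorem cmp_mem_of_minimal {q : Ideal R} {Q : Ideal ↥(reesAlgebra I)}
    (hQ : Q ∈ (q.map (algebraMap R ↥(reesAlgebra I))).minimalPrimes) {f : ↥(reesAlgebra I)} (hf : f ∈ Q) (n : ℕ) :
    cmp I n f ∈ Q := by
  classical
  haveI := hQ.1.1
  let Qh : Ideal ↥(reesAlgebra I) :=
    { carrier := {f | ∀ n, cmp I n f ∈ Q}
      zero_mem' := fun n => by
        rw [show cmp I n 0 = 0 from Subtype.ext (by simp [coe_cmp])]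
        exact zero_mem _
      add_mem' := fun {x y} hx hy n => by
        rw [show cmp I n (x + y) = cmp I n x + cmp I n y from Subtype.ext (by simp [coe_cmp])]
        exact add_mem (hx n) (hy n)
      smul_mem' := fun g x hx n => by
        have : cmp I n (g * x) = ∑ ij ∈ Finset.HasAntidiagonal.antidiagonal n, cmp I ij.1 g * cmp I ij.2 x := Subtype.ext (by
          rw [coe_cmp, Subalgebra.coe_mul, coeff_mul, map_sum, AddSubmonoidClass.coe_finsetSum]
          refine Finset.sum_congr rfl fun ij hij => ?_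
          rw [Subalgebra.coe_mul, coe_cmp, coe_cmp, monomial_mul_monomial, Finset.HasAntidiagonal.mem_antidiagonal.1 hij])
        rw [smul_eq_mul, this]
        exact Ideal.sum_mem _ fun ij _ => Ideal.mul_mem_left _ _ (hx ij.2) }
  have hle : Qh ≤ Q := fun g hg => by
    rw [← sum_cmp I g]
    exact Ideal.sum_mem _ fun n _ => hg n
  have hprime : Qh.IsPrime := by
    refine ⟨fun e => hQ.1.1.ne_top (top_le_iff.1 (e ▸ hle)), fun {g h} hgh => ?_⟩
    by_contra hc
    push Not at hc
    obtain ⟨hg, hh⟩ := hc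
    have hg' : ∃ i, cmp I i g ∉ Q := not_forall.1 hg
    have hh' : ∃ j, cmp I j h ∉ Q := not_forall.1 hh
    let i := Nat.find hg'
    let j := Nat.find hh'
    have key : cmp I (i + j) (g * h) = ∑ ij ∈ Finset.HasAntidiagonal.antidiagonal (i + j), cmp I ij.1 g * cmp I ij.2 h :=
      Subtype.ext (by
        rw [coe_cmp, Subalgebra.coe_mul, coeff_mul, map_sum, AddSubmonoidClass.coe_finsetSum]
        refine Finset.sum_congr rfl fun ij hij => ?_
        rw [Subalgebra.coe_mul, coe_cmp, coe_cmp, monomial_mul_monomial, Finset.HasAntidiagonal.mem_antidiagonal.1 hij])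
    have hm := hgh (i + j)
    rw [key, ← Finset.add_sum_erase _ _ (Finset.HasAntidiagonal.mem_antidiagonal.2 (rfl : (i, j).1 + (i, j).2 = i + j))] at hm
    have hrest : ∑ x ∈ (Finset.HasAntidiagonal.antidiagonal (i + j)).erase (i, j), cmp I x.1 g * cmp I x.2 h ∈ Q := by
      refine Ideal.sum_mem _ fun x hx => ?_
      obtain ⟨hne, hx⟩ := Finset.mem_erase.1 hx
      rw [Finset.HasAntidiagonal.mem_antidiagonal] at hx
      by_cases h1 : x.1 < i
      · exact Ideal.mul_mem_right _ _ (not_not.1 (Nat.find_min hg' h1))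
      · have h2 : x.2 < j := by
          by_contra h2
          exact hne (Prod.ext (by simp only; omega) (by simp only; omega))
        exact Ideal.mul_mem_left _ _ (not_not.1 (Nat.find_min hh' h2))
    exact (hQ.1.1.mem_or_mem ((Ideal.add_mem_iff_left _ hrest).1 hm)).elim (Nat.find_spec hg') (Nat.find_spec hh')
  exact hQ.2 ⟨hprime, fun x hx n => hQ.1.2 (cmp_mem_map I hx n)⟩ hle hf n

variable [IsDomain R] [IsNoetherianRing R]

theorem algebraMap_injective : Function.Injective (algebraMap R ↥(reesAlgebra I)) := fun a b h => by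
  have := congrArg (eps I) h
  rwa [eps_algebraMap, eps_algebraMap] at this

instance : FaithfulSMul R ↥(reesAlgebra I) :=
  (faithfulSMul_iff_algebraMap_injective _ _).2 (algebraMap_injective I)

theorem trdeg_rees (hI : I ≠ ⊥) : Algebra.trdeg R ↥(reesAlgebra I) = 1 := by
  obtain ⟨a, ha, ha0⟩ := Submodule.exists_mem_ne_zero_of_ne_bot hI
  refine le_antisymm ?_ ?_
  · rw [← Polynomial.trdeg_of_isDomain (R := R)]
    exact trdeg_le_of_injective (reesAlgebra I).val Subtype.val_injective
  · let t := mon I 1 a (by rwa [pow_one])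
    have ht : Transcendental R t := by
      intro halg
      have h1 : IsAlgebraic R ((reesAlgebra I).val t) := halg.algHom _
      have hX : Transcendental R (monomial 1 a : R[X]) := by
        rw [← C_mul_X_eq_monomial, transcendental_iff_injective]
        intro f g hfg
        rw [← sub_eq_zero] at hfg ⊢
        rw [← map_sub] at hfg
        rw [Polynomial.aeval_def] at hfg
        exact (Polynomial.comp_eq_zero_iff.1 hfg).resolve_right fun hc => by
          have := congrArg Polynomial.natDegree hc.2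
          rw [Polynomial.natDegree_C_mul_X a ha0, Polynomial.natDegree_C] at this
          exact one_ne_zero this
      exact hX h1
    have h1 : AlgebraicIndependent R (fun _ : PUnit.{u + 1} => t) :=
      (algebraicIndependent_unique_type_iff).2 ht
    simpa using h1.cardinalMk_le_trdeg

theorem exists_pow_mul_mem_of_minimal {S : Type u} [CommRing S] {J P : Ideal S} (hP : P ∈ J.minimalPrimes)
    {x : S} (hx : x ∈ P) : ∃ (k : ℕ) (u : S), u ∉ P ∧ u * x ^ k ∈ J := by
  haveI := hP.1.1
  by_contra hno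
  push Not at hno
  have hdisj : Disjoint (J : Set S) ↑(P.primeCompl ⊔ Submonoid.powers x) := by
    rw [Set.disjoint_left]
    intro v hvJ hv
    obtain ⟨u, hu, _, ⟨k, rfl⟩, rfl⟩ := Submonoid.mem_sup.mp hv
    exact hno k u hu hvJ
  obtain ⟨Q, hQ, hJQ, hQd⟩ := Ideal.exists_le_prime_disjoint J _ hdisj
  rw [Set.disjoint_left] at hQd
  have hQP : Q ≤ P := fun y hy => by
    by_contra hyP
    exact hQd hy (SetLike.le_def.mp le_sup_left (show y ∈ P.primeCompl from hyP))
  exact hQd (hP.2 ⟨hQ, hJQ⟩ hQP hx) (SetLike.le_def.mp le_sup_right (Submonoid.mem_powers x))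

/-- A minimal prime of the fibre does not contain all elements of degree one. -/
theorem exists_mon_notMem (hI : I ≠ ⊥) {p : Ideal R} [p.IsPrime] (hp : I ≤ p) {Q : Ideal ↥(reesAlgebra I)}
    (hQ : Q ∈ (p.map (algebraMap R ↥(reesAlgebra I))).minimalPrimes)
    (hQp : Q.comap (algebraMap R ↥(reesAlgebra I)) = p) :
    ∃ (a : R) (ha : a ∈ I ^ 1), mon I 1 a ha ∉ Q := by
  classical
  by_contra hc
  push Not at hc
  haveI := hQ.1.1
  let J : Ideal ↥(reesAlgebra I) := Ideal.span {g | ∃ (a : R) (ha : a ∈ I ^ 1), mon I 1 a ha = g}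
  have hJQ : J ≤ Q := Ideal.span_le.2 (by rintro _ ⟨a, ha, rfl⟩; exact hc a ha)
  let K : Ideal ↥(reesAlgebra I) :=
    { carrier := {r | ∃ u ∈ Q.primeCompl, u * r ∈ p.map (algebraMap R ↥(reesAlgebra I))}
      zero_mem' := ⟨1, one_mem _, by simp⟩
      add_mem' := by
        rintro x y ⟨u, hu, hx⟩ ⟨v, hv, hy⟩
        refine ⟨u * v, mul_mem hu hv, ?_⟩
        rw [mul_add]
        exact add_mem (by rw [mul_comm u v, mul_assoc]; exact Ideal.mul_mem_left _ v hx)
          (by rw [mul_assoc]; exact Ideal.mul_mem_left _ u hy)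
      smul_mem' := by
        rintro c x ⟨u, hu, hx⟩
        exact ⟨u, hu, by rw [smul_eq_mul, mul_left_comm]; exact Ideal.mul_mem_left _ c hx⟩ }
  have hrad : J ≤ K.radical := fun x hx => by
    obtain ⟨k, u, hu, hux⟩ := exists_pow_mul_mem_of_minimal hQ (hJQ hx)
    exact ⟨k, u, hu, hux⟩
  obtain ⟨M, hM⟩ := Ideal.exists_pow_le_of_le_radical_of_fg hrad (IsNoetherian.noetherian J)
  have hmon : ∀ (n : ℕ) (r : R) (hr : r ∈ I ^ n), mon I n r hr ∈ J ^ n := by
    intro n
    induction n with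
    | zero => intro r hr; rw [pow_zero, Ideal.one_eq_top]; trivial
    | succ n ih =>
      intro r hr
      suffices ∀ r ∈ I ^ n * I, ∃ g ∈ J ^ (n + 1), (g : R[X]) = monomial (n + 1) r by
        obtain ⟨g, hg, e⟩ := this r (by rwa [← pow_succ])
        rwa [show mon I (n + 1) r hr = g from Subtype.ext e.symm]
      intro r hr
      induction hr using Submodule.smul_induction_on' with
      | smul x hx y hy =>
        refine ⟨mon I n x hx * mon I 1 y (by rwa [pow_one]), ?_, ?_⟩
        · rw [pow_succ]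
          exact Ideal.mul_mem_mul (ih x hx) (Ideal.subset_span ⟨y, _, rfl⟩)
        · show monomial n x * monomial 1 y = monomial (n + 1) (x • y)
          rw [monomial_mul_monomial, smul_eq_mul]
      | add x hx y hy hgx hgy =>
        obtain ⟨g, hg, e⟩ := hgx
        obtain ⟨g', hg', e'⟩ := hgy
        exact ⟨g + g', add_mem hg hg', by rw [Subalgebra.coe_add, e, e', map_add]⟩
  have hkey : ∀ r ∈ I ^ M, ∃ s ∈ p.primeCompl, s * r ∈ p * I ^ M := fun r hr => by
    obtain ⟨u, hu, hur⟩ := hM (hmon M r hr)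
    refine ⟨eps I u, fun hmem => hu ?_, ?_⟩
    · rw [← sum_cmp I u]
      refine Ideal.sum_mem _ fun n _ => ?_
      rcases n with _ | n
      · have h1 : (eps I u) ∈ Q.comap (algebraMap R ↥(reesAlgebra I)) := hQp.symm ▸ hmem
        rwa [show cmp I 0 u = algebraMap R ↥(reesAlgebra I) (eps I u) from Subtype.ext (by
          rw [coe_cmp, eps_apply, monomial_zero_left]; rfl)]
      · suffices ∀ r ∈ I ^ n * I, ∃ g ∈ Q, (g : R[X]) = monomial (n + 1) r by
          obtain ⟨g, hg, e⟩ := this _ (by rw [← pow_succ]; exact u.2 (n + 1))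
          rwa [show cmp I (n + 1) u = g from Subtype.ext e.symm]
        intro r hr
        induction hr using Submodule.smul_induction_on' with
        | smul x hx y hy =>
          refine ⟨mon I n x hx * mon I 1 y (by rwa [pow_one]), Ideal.mul_mem_left _ _ (hc _ _), ?_⟩
          show monomial n x * monomial 1 y = monomial (n + 1) (x • y)
          rw [monomial_mul_monomial, smul_eq_mul]
        | add x hx y hy hgx hgy =>
          obtain ⟨g, hg, e⟩ := hgx
          obtain ⟨g', hg', e'⟩ := hgy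
          exact ⟨g + g', add_mem hg hg', by rw [Subalgebra.coe_add, e, e', map_add]⟩
    · have h1 := coeff_mem_smul I hur M
      have h2 := coeff_mul_monomial (u : R[X]) M 0 r
      rw [zero_add] at h2
      rwa [Subalgebra.coe_mul, show ((mon I M r hr : ↥(reesAlgebra I)) : R[X]) = monomial M r from rfl,
        h2, ← eps_apply] at h1
  let Rp := Localization.AtPrime p
  let N : Ideal Rp := (I ^ M).map (algebraMap R Rp)
  have hN : N ≤ (IsLocalRing.maximalIdeal Rp) • N := by
    refine Ideal.map_le_iff_le_comap.2 fun r hr => ?_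
    obtain ⟨s, hs, hsr⟩ := hkey r hr
    have h1 : algebraMap R Rp (s * r) ∈ IsLocalRing.maximalIdeal Rp * N := by
      rw [← Localization.AtPrime.map_eq_maximalIdeal, ← Ideal.map_mul]
      exact Ideal.mem_map_of_mem _ hsr
    rw [map_mul] at h1
    rw [Ideal.mem_comap]
    show algebraMap R Rp r ∈ IsLocalRing.maximalIdeal Rp * N
    exact (Ideal.unit_mul_mem_iff_mem _ (IsLocalization.map_units Rp ⟨s, hs⟩)).1 h1
  have hN0 : N = ⊥ := Submodule.eq_bot_of_le_smul_of_le_jacobson_bot (IsLocalRing.maximalIdeal Rp) N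
    (IsNoetherian.noetherian N) hN (IsLocalRing.maximalIdeal_le_jacobson ⊥)
  obtain ⟨a, ha, ha0⟩ := Submodule.exists_mem_ne_zero_of_ne_bot hI
  have h1 : algebraMap R Rp (a ^ M) = 0 := by
    have : algebraMap R Rp (a ^ M) ∈ N := Ideal.mem_map_of_mem _ (Ideal.pow_mem_pow ha M)
    rwa [hN0, Ideal.mem_bot] at this
  exact pow_ne_zero M ha0 ((IsLocalization.injective Rp p.primeCompl_le_nonZeroDivisors) (h1.trans (map_zero _).symm))

theorem height_le_quot_add_one {p : Ideal R} [p.IsPrime] (hp : I ≤ p) {Q : Ideal ↥(reesAlgebra I)} [Q.IsPrime]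
    (hIQ : I.map (algebraMap R ↥(reesAlgebra I)) ≤ Q) {a : R} (ha : a ∈ I ^ 1) (hat : mon I 1 a ha ∉ Q) :
    Q.height ≤ (Q.map (Ideal.Quotient.mk (I.map (algebraMap R ↥(reesAlgebra I))))).height + 1 := by
  set S' := ↥(reesAlgebra I)
  let x : S' := algebraMap R S' a
  have hxQ : x ∈ Q := hIQ (Ideal.mem_map_of_mem _ (by rwa [pow_one] at ha))
  refine (Ideal.height_le_height_add_one_of_mem hxQ).trans (add_le_add ?_ le_rfl)
  set J := I.map (algebraMap R S')
  haveI hQ1 : (Q.map (Ideal.Quotient.mk (Ideal.span {x}))).IsPrime :=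
    Ideal.isPrime_map_quotientMk_of_isPrime ((Ideal.span_singleton_le_iff_mem _).2 hxQ)
  haveI hQ2 : (Q.map (Ideal.Quotient.mk J)).IsPrime := Ideal.isPrime_map_quotientMk_of_isPrime hIQ
  rw [PrimeSpectrum.height_eq_orderHeight ⟨_, hQ1⟩, PrimeSpectrum.height_eq_orderHeight ⟨_, hQ2⟩]
  refine Order.height_le fun l hl => ?_
  have hle : ∀ i, (l i).asIdeal.comap (Ideal.Quotient.mk (Ideal.span {x})) ≤ Q := fun i => by
    have h1 : (l i).asIdeal ≤ Q.map (Ideal.Quotient.mk (Ideal.span {x})) := by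
      have h0 := LTSeries.monotone l (Fin.le_last i)
      have hl' : l (Fin.last _) = ⟨_, hQ1⟩ := hl
      rw [hl'] at h0
      exact h0
    refine (Ideal.comap_mono h1).trans (le_of_eq ?_)
    rw [Ideal.comap_map_quotientMk, sup_eq_right.2 ((Ideal.span_singleton_le_iff_mem _).2 hxQ)]
  have hJ : ∀ i, J ≤ (l i).asIdeal.comap (Ideal.Quotient.mk (Ideal.span {x})) := fun i => by
    refine Ideal.map_le_iff_le_comap.2 fun b hb => ?_
    have hb' : b ∈ I ^ 1 := by rwa [pow_one]
    haveI : ((l i).asIdeal.comap (Ideal.Quotient.mk (Ideal.span {x}))).IsPrime := Ideal.IsPrime.comap _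
    have hx : x ∈ (l i).asIdeal.comap (Ideal.Quotient.mk (Ideal.span {x})) := by
      rw [Ideal.mem_comap, Ideal.Quotient.eq_zero_iff_mem.2 (Ideal.mem_span_singleton_self x)]
      exact zero_mem _
    have e : algebraMap R S' b * mon I 1 a ha = x * mon I 1 b hb' := Subtype.ext (by
      show C b * monomial 1 a = C a * monomial 1 b
      rw [C_mul_monomial, C_mul_monomial, mul_comm])
    have h2 := Ideal.mul_mem_right (mon I 1 b hb') _ hx
    rw [← e] at h2
    exact (Ideal.IsPrime.mem_or_mem inferInstance h2).resolve_right fun h => hat (hle i h)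
  let g : Fin (l.length + 1) → PrimeSpectrum (S' ⧸ J) := fun i =>
    ⟨((l i).asIdeal.comap (Ideal.Quotient.mk (Ideal.span {x}))).map (Ideal.Quotient.mk J),
      Ideal.isPrime_map_quotientMk_of_isPrime (hJ i)⟩
  have hback : ∀ i, (g i).asIdeal.comap (Ideal.Quotient.mk J) =
      (l i).asIdeal.comap (Ideal.Quotient.mk (Ideal.span {x})) := fun i => by
    show Ideal.comap _ (Ideal.map _ _) = _
    rw [Ideal.comap_map_quotientMk, sup_eq_right.2 (hJ i)]
  let l' : LTSeries (PrimeSpectrum (S' ⧸ J)) := ⟨l.length, g, fun i => by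
    have hst : l i.castSucc < l i.succ := l.step i
    refine lt_of_le_not_ge (Ideal.map_mono (Ideal.comap_mono hst.le)) fun h => hst.not_ge ?_
    have h1 := Ideal.comap_mono (f := Ideal.Quotient.mk J) h
    rw [hback, hback] at h1
    have h2 := Ideal.map_mono (f := Ideal.Quotient.mk (Ideal.span {x})) h1
    rwa [Ideal.map_comap_of_surjective _ Ideal.Quotient.mk_surjective,
      Ideal.map_comap_of_surjective _ Ideal.Quotient.mk_surjective] at h2⟩
  refine Order.length_le_height (p := l') ?_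
  exact Ideal.map_mono (hle _)

theorem height_map_add_height_le {R : Type u} [CommRing R] [IsNoetherianRing R] (I p : Ideal R) [p.IsPrime]
    (hp : I ≤ p) : (p.map (Ideal.Quotient.mk I)).height + I.height ≤ p.height := by
  haveI hQ : (p.map (Ideal.Quotient.mk I)).IsPrime := Ideal.isPrime_map_quotientMk_of_isPrime hp
  obtain ⟨n, hn⟩ := ENat.ne_top_iff_exists.1 (Ideal.height_ne_top (I := p.map (Ideal.Quotient.mk I)) hQ.ne_top)
  rw [← hn]
  obtain ⟨l, hl, hlen⟩ := Order.exists_series_of_le_height (⟨_, hQ⟩ : PrimeSpectrum (R ⧸ I)) (n := n)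
    (by rw [← PrimeSpectrum.height_eq_orderHeight]; exact hn.le)
  let l' : LTSeries (PrimeSpectrum R) := l.map (fun P => ⟨P.asIdeal.comap (Ideal.Quotient.mk I), inferInstance⟩)
    fun a b hab => lt_of_le_not_ge (Ideal.comap_mono hab.le) fun h => hab.not_ge (by
      have := Ideal.map_mono (f := Ideal.Quotient.mk I) h
      rwa [Ideal.map_comap_of_surjective _ Ideal.Quotient.mk_surjective,
        Ideal.map_comap_of_surjective _ Ideal.Quotient.mk_surjective] at this)
  have h0 : I ≤ l'.head.asIdeal := fun r hr => by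
    show Ideal.Quotient.mk I r ∈ l.head.asIdeal
    rw [Ideal.Quotient.eq_zero_iff_mem.2 hr]
    exact zero_mem _
  have h1 : Order.height l'.head + l'.length ≤ Order.height l'.last := by
    obtain ⟨e, he⟩ : ∃ e : ℕ, Order.height l'.head = (e : ℕ∞) := by
      obtain ⟨e, he⟩ := ENat.ne_top_iff_exists.1 (Ideal.height_ne_top (I := l'.head.asIdeal) l'.head.isPrime.ne_top)
      exact ⟨e, by rw [← PrimeSpectrum.height_eq_orderHeight, he]⟩
    obtain ⟨q, hq, hqlen⟩ := Order.exists_series_of_le_height l'.head (n := e) he.ge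
    refine le_of_eq_of_le ?_ ((Order.length_le_height_last (p := q.smash l' hq)).trans (by rw [RelSeries.last_smash]))
    rw [RelSeries.smash_length, he, hqlen, Nat.cast_add]
  rw [← PrimeSpectrum.height_eq_orderHeight, ← PrimeSpectrum.height_eq_orderHeight] at h1
  have h2 : l'.last.asIdeal = p := by
    simp only [l', LTSeries.last_map]
    rw [show RelSeries.last l = (⟨_, hQ⟩ : PrimeSpectrum (R ⧸ I)) from hl]
    show (p.map (Ideal.Quotient.mk I)).comap _ = p
    rw [Ideal.comap_map_quotientMk, sup_eq_right.2 hp]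
  rw [h2, show l'.length = n from hlen] at h1
  rw [add_comm]
  exact (add_le_add (Ideal.height_mono h0) le_rfl).trans h1

theorem toNat_trdeg_eq {A B : Type u} [CommRing A] [CommRing B] [IsDomain A] [IsDomain B] [Algebra A B] [Algebra.FiniteType A B] :
    ((Cardinal.toNat (Algebra.trdeg A B) : ℕ) : Cardinal.{u}) = Algebra.trdeg A B :=
  Cardinal.cast_toNat_of_lt_aleph0 trdeg_lt_aleph0_of_finiteType

/-- The dimension inequality through the closed fibre. -/
theorem height_le_add_dim {A B : Type u} [CommRing A] [CommRing B] [Algebra A B] [IsNoetherianRing A]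
    [IsNoetherianRing B] (p : Ideal A) [p.IsPrime] (P : Ideal B) [P.IsPrime] [P.LiesOver p] :
    ((P.height : ℕ∞) : WithBot ℕ∞) ≤ ((p.height : ℕ∞) : WithBot ℕ∞) + ringKrullDim (B ⧸ p.map (algebraMap A B)) := by
  have h := Ideal.height_le_height_add_of_liesOver p P
  haveI : (P.map (Ideal.Quotient.mk (p.map (algebraMap A B)))).IsPrime :=
    Ideal.isPrime_map_quotientMk_of_isPrime (Ideal.map_le_iff_le_comap.2 (Ideal.LiesOver.over (p := p) (P := P)).le)
  refine le_trans (WithBot.coe_le_coe.2 h) ?_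
  rw [WithBot.coe_add]
  exact add_le_add le_rfl (Ideal.height_le_ringKrullDim_of_ne_top (Ideal.IsPrime.ne_top inferInstance))

theorem dim_fibre_quot_le {A B : Type u} [CommRing A] [CommRing B] [Algebra A B] (p m : Ideal A)
    (Q : Ideal B) [Q.LiesOver p] :
    ringKrullDim ((B ⧸ Q) ⧸ (m.map (Ideal.Quotient.mk p)).map (algebraMap (A ⧸ p) (B ⧸ Q))) ≤
      ringKrullDim (B ⧸ m.map (algebraMap A B)) := by
  refine ringKrullDim_le_of_surjective (Ideal.Quotient.lift _
    ((Ideal.Quotient.mk ((m.map (Ideal.Quotient.mk p)).map (algebraMap (A ⧸ p) (B ⧸ Q)))).comp (Ideal.Quotient.mk Q))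
    fun f hf => ?_) fun y => ?_
  · refine (Ideal.map_le_iff_le_comap.2 fun r hr => ?_ : m.map (algebraMap A B) ≤ RingHom.ker _) hf
    exact Ideal.Quotient.eq_zero_iff_mem.2 (Ideal.mem_map_of_mem _ (Ideal.mem_map_of_mem _ hr))
  · obtain ⟨y, rfl⟩ := Ideal.Quotient.mk_surjective y
    obtain ⟨f, rfl⟩ := Ideal.Quotient.mk_surjective y
    exact ⟨Ideal.Quotient.mk _ f, rfl⟩

variable [IsLocalRing R]

/-- The key bound for a minimal prime of the fibre over `p`. -/
theorem height_le_add (huc : CAlg.IsUniversallyCatenary R) (hI : I ≠ ⊥) (hIm : I ≤ IsLocalRing.maximalIdeal R)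
    {p : Ideal R} [p.IsPrime] (hp : I ≤ p) {Q : Ideal ↥(reesAlgebra I)}
    (hQ : Q ∈ (p.map (algebraMap R ↥(reesAlgebra I))).minimalPrimes)
    (hQp : Q.comap (algebraMap R ↥(reesAlgebra I)) = p) :
    ((p.height : ℕ∞) : WithBot ℕ∞) ≤
      (((Q.map (Ideal.Quotient.mk (I.map (algebraMap R ↥(reesAlgebra I))))).height : ℕ∞) : WithBot ℕ∞) +
      ringKrullDim (↥(reesAlgebra I) ⧸ (IsLocalRing.maximalIdeal R).map (algebraMap R ↥(reesAlgebra I))) := by
  let m := IsLocalRing.maximalIdeal R
  haveI := hQ.1.1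
  haveI hQl : Q.LiesOver p := ⟨hQp.symm⟩
  let P : Ideal ↥(reesAlgebra I) := m.comap (eps I)
  haveI : P.IsPrime := Ideal.IsPrime.comap _
  haveI hPl : P.LiesOver m := ⟨by
    ext r
    show r ∈ m ↔ eps I (algebraMap R ↥(reesAlgebra I) r) ∈ m
    rw [eps_algebraMap]⟩
  have hQP : Q ≤ P := fun f hf => by
    have h1 := cmp_mem_of_minimal I hQ hf 0
    rw [show cmp I 0 f = algebraMap R ↥(reesAlgebra I) (eps I f) from Subtype.ext (by
      rw [coe_cmp, eps_apply, monomial_zero_left]; rfl)] at h1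
    exact IsLocalRing.le_maximalIdeal (Ideal.IsPrime.ne_top ‹p.IsPrime›) (hQp ▸ h1 : eps I f ∈ p)
  have f1 := Cyc90.height_add_trdeg_eq R huc ↥(reesAlgebra I) p Q
  have f2 := Cyc90.height_add_trdeg_eq R huc ↥(reesAlgebra I) m P
  rw [trdeg_rees I hI] at f1 f2
  haveI : Algebra.FiniteType (R ⧸ p) (↥(reesAlgebra I) ⧸ Q) := by
    haveI : Algebra.FiniteType R (↥(reesAlgebra I) ⧸ Q) :=
      Algebra.FiniteType.of_surjective (Ideal.Quotient.mkₐ R Q) Ideal.Quotient.mk_surjective
    exact Algebra.FiniteType.of_restrictScalars_finiteType R _ _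
  have hP0 : Algebra.trdeg (R ⧸ m) (↥(reesAlgebra I) ⧸ P) = 0 := by
    haveI : Algebra.IsAlgebraic (R ⧸ m) (↥(reesAlgebra I) ⧸ P) := ⟨fun x => by
      obtain ⟨f, rfl⟩ := Ideal.Quotient.mk_surjective x
      have : Ideal.Quotient.mk P f = algebraMap (R ⧸ m) (↥(reesAlgebra I) ⧸ P) (Ideal.Quotient.mk m (eps I f)) := by
        show _ = Ideal.Quotient.mk P (algebraMap R ↥(reesAlgebra I) (eps I f))
        refine Ideal.Quotient.eq.2 ?_
        show eps I (f - algebraMap R ↥(reesAlgebra I) (eps I f)) ∈ m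
        rw [map_sub, eps_algebraMap, sub_self]
        exact zero_mem _
      rw [this]
      exact isAlgebraic_algebraMap _⟩
    exact trdeg_eq_zero
  rw [hP0, add_zero] at f2
  obtain ⟨hp', hh⟩ : ∃ a : ℕ, (p.height : ℕ∞) = a := ⟨_, (ENat.natCast_toNat (Ideal.height_ne_top ‹p.IsPrime›.ne_top)).symm⟩
  obtain ⟨hm', hhm⟩ : ∃ a : ℕ, (m.height : ℕ∞) = a := ⟨_, (ENat.natCast_toNat
    (Ideal.height_ne_top (IsLocalRing.maximalIdeal.isMaximal R).ne_top)).symm⟩
  obtain ⟨hQ', hhQ⟩ : ∃ a : ℕ, (Q.height : ℕ∞) = a := ⟨_, (ENat.natCast_toNat (Ideal.height_ne_top hQ.1.1.ne_top)).symm⟩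
  obtain ⟨hP', hhP⟩ : ∃ a : ℕ, (P.height : ℕ∞) = a := ⟨_, (ENat.natCast_toNat
    (Ideal.height_ne_top (Ideal.IsPrime.ne_top inferInstance))).symm⟩
  rw [← toNat_trdeg_eq (A := R ⧸ p) (B := ↥(reesAlgebra I) ⧸ Q), hhQ, hh, Cardinal.ofENat_nat, Cardinal.ofENat_nat] at f1
  rw [hhP, hhm, Cardinal.ofENat_nat, Cardinal.ofENat_nat] at f2
  set δ := Cardinal.toNat (Algebra.trdeg (R ⧸ p) (↥(reesAlgebra I) ⧸ Q))
  have f1' : hQ' + δ = hp' + 1 := by exact_mod_cast f1
  have f2' : hP' = hm' + 1 := by exact_mod_cast f2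
  haveI hPq : (P.map (Ideal.Quotient.mk Q)).IsPrime := Ideal.isPrime_map_quotientMk_of_isPrime hQP
  haveI hmp : (m.map (Ideal.Quotient.mk p)).IsPrime :=
    Ideal.isPrime_map_quotientMk_of_isPrime (IsLocalRing.le_maximalIdeal (Ideal.IsPrime.ne_top ‹p.IsPrime›))
  have g1 := Cyc90.height_comap_eq_add (huc.2 ↥(reesAlgebra I) inferInstance) (Ideal.Quotient.mk Q) Ideal.Quotient.mk_surjective
    (P.map (Ideal.Quotient.mk Q))
  rw [Ideal.comap_map_quotientMk, sup_eq_right.2 hQP, Ideal.mk_ker, hhP, hhQ] at g1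
  have g2 := Cyc90.height_comap_eq_add (huc.2 R inferInstance) (Ideal.Quotient.mk p) Ideal.Quotient.mk_surjective
    (m.map (Ideal.Quotient.mk p))
  rw [Ideal.comap_map_quotientMk,
    sup_eq_right.2 (IsLocalRing.le_maximalIdeal (Ideal.IsPrime.ne_top ‹p.IsPrime›)), Ideal.mk_ker, hhm, hh] at g2
  obtain ⟨u, hu⟩ : ∃ a : ℕ, ((P.map (Ideal.Quotient.mk Q)).height : ℕ∞) = a :=
    ⟨_, (ENat.natCast_toNat (Ideal.height_ne_top hPq.ne_top)).symm⟩
  obtain ⟨v, hv⟩ : ∃ a : ℕ, ((m.map (Ideal.Quotient.mk p)).height : ℕ∞) = a :=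
    ⟨_, (ENat.natCast_toNat (Ideal.height_ne_top hmp.ne_top)).symm⟩
  rw [hu] at g1
  rw [hv] at g2
  have g1' : hP' = hQ' + u := by exact_mod_cast g1
  have g2' : hm' = hp' + v := by exact_mod_cast g2
  haveI : (P.map (Ideal.Quotient.mk Q)).LiesOver (m.map (Ideal.Quotient.mk p)) := ⟨by
    refine Ideal.comap_injective_of_surjective (Ideal.Quotient.mk p) Ideal.Quotient.mk_surjective ?_
    rw [Ideal.comap_map_quotientMk, sup_eq_right.2 (IsLocalRing.le_maximalIdeal (Ideal.IsPrime.ne_top ‹p.IsPrime›)),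
      Ideal.under_def, Ideal.comap_comap,
      show (algebraMap (R ⧸ p) (↥(reesAlgebra I) ⧸ Q)).comp (Ideal.Quotient.mk p) =
        (Ideal.Quotient.mk Q).comp (algebraMap R ↥(reesAlgebra I)) from rfl,
      ← Ideal.comap_comap, Ideal.comap_map_quotientMk, sup_eq_right.2 hQP]
    exact hPl.over⟩
  haveI : IsNoetherianRing (↥(reesAlgebra I) ⧸ Q) := inferInstance
  have g3 := (height_le_add_dim (m.map (Ideal.Quotient.mk p)) (P.map (Ideal.Quotient.mk Q))).trans
    (add_le_add le_rfl (dim_fibre_quot_le p m Q))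
  rw [hu, hv] at g3
  obtain ⟨a, ha, hat⟩ := exists_mon_notMem I hI hp hQ hQp
  have g5 := height_le_quot_add_one I hp
    ((Ideal.map_mono hp).trans hQ.1.2 : I.map (algebraMap R ↥(reesAlgebra I)) ≤ Q) ha hat
  rw [hhQ] at g5
  cases hl : ringKrullDim (↥(reesAlgebra I) ⧸ m.map (algebraMap R ↥(reesAlgebra I))) with
  | bot =>
    rw [hl, WithBot.add_bot] at g3
    exact absurd g3 (by simp)
  | coe w =>
    rw [hl] at g3
    cases w with
    | top =>
      cases (Q.map (Ideal.Quotient.mk (I.map (algebraMap R ↥(reesAlgebra I))))).height <;> exact le_top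
    | coe w =>
      cases hz : (Q.map (Ideal.Quotient.mk (I.map (algebraMap R ↥(reesAlgebra I))))).height with
      | top => exact le_top
      | coe z =>
        rw [hz] at g5
        have g3' : u ≤ v + w := by exact_mod_cast g3
        have g5' : hQ' ≤ z + 1 := by exact_mod_cast g5
        rw [hh]
        exact_mod_cast (show hp' ≤ z + w by omega)

theorem idealDepth_bound (huc : CAlg.IsUniversallyCatenary R) (hIm : I ≤ IsLocalRing.maximalIdeal R) (r : ℕ)
    (hS : LocCoh.HasSk r (↥(reesAlgebra I) ⧸ I.map (algebraMap R ↥(reesAlgebra I)))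
      (↥(reesAlgebra I) ⧸ I.map (algebraMap R ↥(reesAlgebra I))))
    (p : Ideal R) [p.IsPrime] (hp : I ≤ p) (d : ℕ) (hdr : d ≤ r)
    (hd : (d : WithBot ℕ∞) + ringKrullDim (↥(reesAlgebra I) ⧸ (IsLocalRing.maximalIdeal R).map (algebraMap R ↥(reesAlgebra I))) ≤
      ((p.height : ℕ∞) : WithBot ℕ∞))
    (hI : I ≠ ⊥) (i : ℕ) (hi : i < d) :
    Nul p.primeCompl (LocCoh.H p i (↥(reesAlgebra I) ⧸ I.map (algebraMap R ↥(reesAlgebra I)))) := by
  set S' := ↥(reesAlgebra I)
  refine nul_H_of_depth_algebra (B := S' ⧸ I.map (algebraMap R S')) p.primeCompl p d _ (fun W hW hWd => ?_) i hi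
  haveI : IsNoetherianRing (S' ⧸ I.map (algebraMap R S')) := inferInstance
  let Q'' := W.asIdeal.comap (Ideal.Quotient.mk (I.map (algebraMap R S')))
  have hup : p.map (algebraMap R S') ≤ Q'' := Ideal.map_le_iff_le_comap.2 fun x hx => hW (Ideal.mem_map_of_mem _ hx)
  obtain ⟨Q, hQ, hQle⟩ := Ideal.exists_minimalPrimes_le (show p.map (algebraMap R S') ≤ Q'' from hup)
  have hQp : Q.comap (algebraMap R S') = p := by
    refine le_antisymm (fun x hx => ?_) (Ideal.map_le_iff_le_comap.1 hQ.1.2)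
    by_contra hxp
    exact Set.disjoint_left.1 hWd (show algebraMap R (S' ⧸ I.map (algebraMap R S')) x ∈ W.asIdeal from hQle hx)
      ⟨x, hxp, rfl⟩
  haveI := hQ.1.1
  have hIQ : I.map (algebraMap R S') ≤ Q := (Ideal.map_mono hp).trans hQ.1.2
  have h1 := height_le_add I huc hI hIm hp hQ hQp
  have h2 : (Q.map (Ideal.Quotient.mk (I.map (algebraMap R S')))).height ≤ W.asIdeal.height := by
    refine Ideal.height_mono ((Ideal.map_mono hQle).trans ?_)
    exact Ideal.map_comap_le
  have h3 : (d : ℕ∞) ≤ W.asIdeal.height := by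
    refine le_trans ?_ h2
    have hL : (0 : WithBot ℕ∞) ≤ ringKrullDim (S' ⧸ (IsLocalRing.maximalIdeal R).map (algebraMap R S')) := by
      haveI : Nontrivial (S' ⧸ (IsLocalRing.maximalIdeal R).map (algebraMap R S')) :=
        Ideal.Quotient.nontrivial_iff.2 (ne_top_of_le_ne_top (Ideal.IsPrime.ne_top
          (Ideal.IsPrime.comap (eps I) (K := IsLocalRing.maximalIdeal R))) (eps_map_le I))
      exact ringKrullDim_nonneg_of_nontrivial
    cases hz : (Q.map (Ideal.Quotient.mk (I.map (algebraMap R S')))).height with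
    | top => exact le_top
    | coe z =>
      rw [hz] at h1
      have h4 := hd.trans h1
      cases hl : ringKrullDim (S' ⧸ (IsLocalRing.maximalIdeal R).map (algebraMap R S')) with
      | bot => rw [hl] at hL; simp at hL
      | coe w =>
        rw [hl] at h4
        cases w with
        | top =>
          have : ((⊤ : ℕ∞) : WithBot ℕ∞) ≤ ((p.height : ℕ∞) : WithBot ℕ∞) := by
            refine le_trans ?_ hd
            rw [hl]
            exact le_add_of_nonneg_left (by simp)
          exact absurd (top_le_iff.1 (WithBot.coe_le_coe.1 this)) (Ideal.height_ne_top (Ideal.IsPrime.ne_top ‹_›))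
        | coe w =>
          have : d + w ≤ z + w := by exact_mod_cast h4
          exact_mod_cast (show d ≤ z by omega)
  exact le_trans (le_min (by exact_mod_cast hdr) h3) ((CAlg1.hasSk_self_iff r).mp hS W.asIdeal)

end Groth.Agent.LC17.GrConormal
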