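import Groth.Agent.LC17.PunctSections
import Groth.Agent.LC16.DTH
import Mathlib.AlgebraicGeometry.Morphisms.Affine

/-!
# Affineness of punctured spectra of cohomological dimension one
-/

set_option autoImplicit false

universe u

open CategoryTheory AlgebraicGeometry Opposite TopologicalSpace

namespace Groth.Agent.LC17

variable {R : Type u} [CommRing R] (a : Ideal R) (M : Type u) [AddCommGroup M] [Module R M]

/-- sections over the punctured spectrum are saturated -/
theorem exists_section_of_hom (n : ℕ)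
    (φ : ↥(a ^ n) →ₗ[R] (tsheaf M).presheaf.obj (op (LocCoh.puncturedOpen R a))) :
    ∃ s : (tsheaf M).presheaf.obj (op (LocCoh.puncturedOpen R a)), ∀ c : ↥(a ^ n), φ c = (c : R) • s := by
  have hsf : ∀ f : a, ∃ t : (tsheaf M).presheaf.obj (op (PrimeSpectrum.basicOpen f.1)),
      f.1 ^ n • t = tres M (le_puncturedOpen a f.2) (φ ⟨f.1 ^ n, Ideal.pow_mem_pow f.2 n⟩) := fun f => by
    have := isLocalized M f.1
    exact ((Module.End.isUnit_iff _).1 (IsLocalizedModule.map_units (ttoOpen M (PrimeSpectrum.basicOpen f.1))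
      (⟨f.1 ^ n, n, rfl⟩ : Submonoid.powers f.1))).2 _
  choose t ht using hsf
  have hcomm : ∀ (c d : R) (hc : c ∈ a ^ n) (hd : d ∈ a ^ n), d • φ ⟨c, hc⟩ = c • φ ⟨d, hd⟩ := fun c d hc hd => by
    rw [← map_smul, ← map_smul]
    exact congrArg φ (Subtype.ext (mul_comm d c))
  let U : a → (Spec (CommRingCat.of R)).Opens := fun f => PrimeSpectrum.basicOpen f.1
  have hcompat : TopCat.Presheaf.IsCompatible (tsheaf M).presheaf U t := by
    intro f g
    show tres M inf_le_left (t f) = tres M inf_le_right (t g)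
    have e1 : (PrimeSpectrum.basicOpen (f.1 * g.1) : Opens (PrimeSpectrum R)) ≤ U f ⊓ U g :=
      le_of_eq (PrimeSpectrum.basicOpen_mul f.1 g.1)
    have e2 : U f ⊓ U g ≤ (PrimeSpectrum.basicOpen (f.1 * g.1) : Opens (PrimeSpectrum R)) :=
      le_of_eq (PrimeSpectrum.basicOpen_mul f.1 g.1).symm
    have h0 : tres M e1 (tres M inf_le_left (t f) - tres M inf_le_right (t g)) = 0 := by
      refine smul_injective M _ n ?_
      rw [map_sub, tres_tres, tres_tres, smul_sub, mul_pow, sub_eq_zero]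
      rw [mul_smul, mul_smul, smul_comm (f.1 ^ n) (g.1 ^ n) (tres M _ (t f)),
        ← tres_tres M (inf_le_left (a := U f) (b := U g)) e1, ← tres_tres M (inf_le_right (a := U f) (b := U g)) e1,
        ← tres_smul M e1 (f.1 ^ n), ← tres_smul M inf_le_left (f.1 ^ n), ht, tres_tres, tres_tres, ← tres_smul,
        ← tres_smul M e1 (g.1 ^ n), ← tres_smul M inf_le_right (g.1 ^ n), ht, tres_tres, tres_tres, ← tres_smul,
        hcomm (f.1 ^ n) (g.1 ^ n) (Ideal.pow_mem_pow f.2 n) (Ideal.pow_mem_pow g.2 n)]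
    have h1 := congrArg (tres M e2) h0
    rw [tres_tres, map_zero] at h1
    rw [← sub_eq_zero]
    refine (?_ : _ = tres M (le_refl (U f ⊓ U g)) _).trans h1
    exact (ConcreteCategory.congr_hom ((tsheaf M).presheaf.map_id (op (U f ⊓ U g))) _).symm
  obtain ⟨s, hs, -⟩ := (tsheaf M).existsUnique_gluing' U (LocCoh.puncturedOpen R a)
    (fun f => homOfLE (le_puncturedOpen a f.2)) (fun q hq => by
      obtain ⟨f, hf, hqf⟩ := exists_basicOpen_le_of_mem a hq
      exact Opens.mem_iSup.2 ⟨⟨f, hf⟩, hqf⟩) t hcompat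
  refine ⟨s, fun c => sub_eq_zero.1 (eq_zero_of_basic a M _ fun f hf => ?_)⟩
  refine smul_injective M _ n ?_
  have hs' : tres M (le_puncturedOpen a hf) s = t ⟨f, hf⟩ := hs ⟨f, hf⟩
  rw [map_sub, tres_smul, hs', smul_sub, sub_eq_zero, ← tres_smul,
    hcomm c.1 (f ^ n) c.2 (Ideal.pow_mem_pow hf n), tres_smul, smul_comm (f ^ n) (c : R), ht ⟨f, hf⟩]

variable [IsNoetherianRing R]

theorem ttoOpen_surj_DT : Function.Surjective (LocCoh.toDT a
    ((tsheaf M).presheaf.obj (op (LocCoh.puncturedOpen R a)))) := by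
  intro x
  obtain ⟨n, φ, rfl⟩ := LC16.DT.inc_surjective x
  obtain ⟨s, hs⟩ := exists_section_of_hom a M n φ
  refine ⟨s, LC16.DT.eq_of_smul_eq n fun c hc => ?_⟩
  rw [← map_smul, ← hs ⟨c, hc⟩]
  exact (LC16.DT.smul_inc_eq_toDT φ ⟨c, hc⟩).symm

theorem ttoOpen_inj_DT : Function.Injective (LocCoh.toDT a
    ((tsheaf M).presheaf.obj (op (LocCoh.puncturedOpen R a)))) := by
  rw [← LinearMap.ker_eq_bot, LC16.DT.ker_toDT, eq_bot_iff]
  rintro s ⟨n, hn⟩
  exact (Submodule.mem_bot _).2 (section_eq_zero_of_pow_smul a M s n hn)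

/-- sections over the punctured spectrum are the ideal transform -/
noncomputable def sectionsDT :
    LocCoh.DT a M ≃ₗ[R] (tsheaf M).presheaf.obj (op (LocCoh.puncturedOpen R a)) :=
  (LC16.DT.mapEquiv (I := a) (ttoOpen M (LocCoh.puncturedOpen R a))
    (fun m hm => (toOpen_punctured_eq_zero_iff a M m).1 hm)
    (fun x => by
      obtain ⟨s, rfl⟩ := Submodule.Quotient.mk_surjective _ x
      obtain ⟨n, hn⟩ := exists_pow_smul_mem_range a M s
      exact ⟨n, fun c hc => (Submodule.Quotient.mk_smul _ c s).symm.trans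
        ((Submodule.Quotient.mk_eq_zero _).2 (hn c hc))⟩)) ≪≫ₗ
    (LinearEquiv.ofBijective _ ⟨ttoOpen_inj_DT a M, ttoOpen_surj_DT a M⟩).symm

/-- `cd ≤ 1` gives an affine punctured spectrum -/
theorem isAffine_punctured (hcd : LocCoh.CdLE R a 1) :
    IsAffine (↑(LocCoh.puncturedOpen R a) : Scheme.{u}) := by
  set U : (Spec (CommRingCat.of R)).Opens := LocCoh.puncturedOpen R a with hU
  let θ : R →+* Γ((↑U : Scheme.{u}), ⊤) :=
    (U.ι.appTop).hom.comp (Scheme.ΓSpecIso (CommRingCat.of R)).inv.hom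
  have htop : a • (⊤ : Submodule R ((tsheaf R).presheaf.obj (op U))) = ⊤ := by
    have h := LC16.DT.smul_top_of_rightExact (LC16.DT.rightExact_iff_cdLE.2 hcd)
    have h' := congrArg (Submodule.map (sectionsDT a R).toLinearMap) h
    rwa [Submodule.map_smul'', Submodule.map_top, LinearEquiv.range] at h'
  let e : (tsheaf R).presheaf.obj (op U) →+ Γ((↑U : Scheme.{u}), ⊤) :=
    AddMonoidHom.mk' (fun x => ((Spec (CommRingCat.of R)).presheaf.map
      (homOfLE (le_of_eq U.ι_image_top)).op).hom x) (fun x y => map_add _ x y)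
  have hsmul : ∀ (c : R) (x : (tsheaf R).presheaf.obj (op U)), e (c • x) = θ c * e x := by
    intro c x
    let x' : Γ(Spec (CommRingCat.of R), U) := x
    show ((Spec (CommRingCat.of R)).presheaf.map (homOfLE (le_of_eq U.ι_image_top)).op).hom
      (((Spec (CommRingCat.of R)).presheaf.map U.leTop.op).hom
        ((Scheme.ΓSpecIso (CommRingCat.of R)).inv c) * x') = _
    rw [map_mul]
    congr 1
  have hspan : Ideal.span (θ '' (a : Set R)) = ⊤ := by
    rw [Ideal.eq_top_iff_one]
    have key : ∀ x : (tsheaf R).presheaf.obj (op U), x ∈ a • (⊤ : Submodule R _) →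
        e x ∈ Ideal.span (θ '' (a : Set R)) := fun x hx => by
      induction hx using Submodule.smul_induction_on' with
      | smul c hc y _ => rw [hsmul]; exact Ideal.mul_mem_right _ _ (Ideal.subset_span ⟨c, hc, rfl⟩)
      | add y _ z _ hy hz => rw [map_add]; exact add_mem hy hz
    obtain ⟨x, hx⟩ : ∃ x, e x = 1 :=
      ⟨((Spec (CommRingCat.of R)).presheaf.map (homOfLE (le_of_eq U.ι_image_top.symm)).op).hom 1, by
        show ((Spec (CommRingCat.of R)).presheaf.map _).hom (((Spec (CommRingCat.of R)).presheaf.map _).hom 1) = 1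
        exact (congrArg _ (map_one _)).trans (map_one _)⟩
    exact hx ▸ key x (htop.ge Submodule.mem_top)
  refine isAffine_of_isAffineOpen_basicOpen _ hspan ?_
  rintro _ ⟨f, hf, rfl⟩
  rw [show θ f = U.ι.appTop ((Scheme.ΓSpecIso (CommRingCat.of R)).inv f) from rfl,
    ← Scheme.preimage_basicOpen_top]
  rw [← U.ι.isAffineOpen_iff_of_isOpenImmersion, Scheme.Hom.image_preimage_eq_opensRange_inf,
    Scheme.Opens.opensRange_ι, basicOpen_eq_of_affine']
  erw [CommRingCat.inv_hom_apply]
  exact (inf_eq_right.2 (le_puncturedOpen a hf)).symm ▸ IsAffineOpen.Spec_basicOpen (R := CommRingCat.of R) f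

end Groth.Agent.LC17
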