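import Groth.Agent.LC17.GrAlpha
import Groth.Agent.LC17.PunctAffine

/-!
# Twisted sections on Proj and sections over the punctured affine cone
-/

universe u

open CategoryTheory AlgebraicGeometry TopologicalSpace Opposite GrMod

noncomputable section

namespace Groth.Agent.LC17.GrSections

open Groth.Agent.EGAProj74.GrT Groth.Agent.LC17

variable {A σ : Type u} [CommRing A] [SetLike σ A] [AddSubgroupClass σ A] {𝒜 : ℕ → σ}
  [GradedRing 𝒜] {M τ : Type u} [AddCommGroup M] [Module A M] [SetLike τ M] [AddSubgroupClass τ M] {ℳ : ℕ → τ}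
  [SetLike.GradedSMul 𝒜 ℳ] [DirectSum.Decomposition ℳ]

variable (𝒜) in
/-- the punctured cone -/
abbrev cone : (Spec (CommRingCat.of A)).Opens :=
  LocCoh.puncturedOpen A (HomogeneousIdeal.irrelevant 𝒜).toIdeal

variable (𝒜 M) in
/-- sections over the punctured cone -/
abbrev CSec : Type u := (tsheaf M).presheaf.obj (op (cone 𝒜))

variable (A) in
/-- basic opens of the affine cone -/
abbrev dOpen (f : A) : (Spec (CommRingCat.of A)).Opens := PrimeSpectrum.basicOpen f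

theorem dOpen_le {d : ℕ} (hd : 0 < d) {f : A} (hf : f ∈ 𝒜 d) : dOpen A f ≤ cone 𝒜 :=
  le_puncturedOpen _ (HomogeneousIdeal.mem_irrelevant_of_mem 𝒜 hd hf)

theorem le_iSup_dOpen :
    cone 𝒜 ≤ ⨆ p : {p : ℕ × A // 0 < p.1 ∧ p.2 ∈ 𝒜 p.1}, dOpen A p.1.2 := by
  intro q hq
  by_contra hne
  refine hq (SetLike.coe_subset_coe.2 (GrAlpha.irrelevant_le_of_forall fun d f hd hf => ?_))
  by_contra hfq
  exact hne (Opens.mem_iSup.2 ⟨⟨(d, f), hd, hf⟩, hfq⟩)

theorem csec_ext {s t : CSec 𝒜 M} (h : ∀ (d : ℕ) (f : A) (hd : 0 < d) (hf : f ∈ 𝒜 d),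
    tres M (dOpen_le hd hf) s = tres M (dOpen_le hd hf) t) : s = t := by
  refine sub_eq_zero.1 (eq_zero_of_local M (fun p : {p : ℕ × A // 0 < p.1 ∧ p.2 ∈ 𝒜 p.1} => dOpen A p.1.2)
    (fun p => dOpen_le p.2.1 p.2.2) le_iSup_dOpen _ fun p => ?_)
  rw [map_sub, sub_eq_zero]
  exact h _ _ p.2.1 p.2.2

variable {n : ℤ}

/-- a representation of a twisted section over a standard open -/
def Rep (s : sect 𝒜 ℳ n (op ⊤)) (d : ℕ) (f : A) (k : ℕ) (m : M) : Prop :=
  (∃ i : ℕ, m ∈ ℳ i ∧ (i : ℤ) = k * d + n) ∧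
    ∀ (x : ProjectiveSpectrum 𝒜) (hx : f ∉ x.asHomogeneousIdeal),
      (s.1 ⟨x, trivial⟩).1 = frac x m (f ^ k) (pow_notMem hx k)

theorem exists_rep (s : sect 𝒜 ℳ n (op ⊤)) {d : ℕ} (hd : 0 < d) {f : A} (hf : f ∈ 𝒜 d) :
    ∃ k m, Rep s d f k m := by
  obtain ⟨k, i, m, hm, hi, hs⟩ := exists_frac_eq hd hf
    (GrMod.res 𝒜 ℳ n (U := op ⊤) (V := op (ProjectiveSpectrum.basicOpen 𝒜 f)) (homOfLE le_top).op s)
  exact ⟨k, m, ⟨i, hm, hi⟩, fun x hx => hs ⟨x, hx⟩⟩

omit [DirectSum.Decomposition ℳ] in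
theorem rep_raise {s : sect 𝒜 ℳ n (op ⊤)} {d : ℕ} {f : A} (hf : f ∈ 𝒜 d) {k : ℕ} {m : M}
    (h : Rep s d f k m) (j : ℕ) : Rep s d f (k + j) (f ^ j • m) := by
  obtain ⟨⟨i, hm, hi⟩, hs⟩ := h
  refine ⟨⟨j * d + i, gsmul_mem 𝒜 ℳ (by simpa using SetLike.pow_mem_graded j hf) hm,
    by push_cast; linear_combination hi⟩, fun x hx => (hs x hx).trans (frac_congr ?_)⟩
  rw [smul_smul, pow_add]

theorem rep_agree {s : sect 𝒜 ℳ n (op ⊤)} {d e : ℕ} (hd : 0 < d) {f g : A}
    (hf : f ∈ 𝒜 d) (hg : g ∈ 𝒜 e) {k l : ℕ} {m m' : M} (h : Rep s d f k m) (h' : Rep s e g l m') :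
    ∃ N, (f * g) ^ N • (g ^ l • m - f ^ k • m') = 0 := by
  obtain ⟨⟨i, hm, hi⟩, hs⟩ := h
  obtain ⟨⟨i', hm', hi'⟩, hs'⟩ := h'
  refine exists_pow_smul_eq_zero 𝒜 ℳ (Nat.add_pos_left hd e) (SetLike.mul_mem_graded hf hg)
    (j := l * e + i) ?_ fun x hx => ?_
  · refine sub_mem (gsmul_mem 𝒜 ℳ (by simpa using SetLike.pow_mem_graded l hg) hm) ?_
    have he : l * e + i = k * d + i' := by
      have : ((l * e + i : ℕ) : ℤ) = ((k * d + i' : ℕ) : ℤ) := by
        push_cast; linear_combination hi - hi'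
      exact_mod_cast this
    rw [he]
    exact gsmul_mem 𝒜 ℳ (by simpa using SetLike.pow_mem_graded k hf) hm'
  · have hxf : f ∉ x.asHomogeneousIdeal := fun e => hx (Ideal.mul_mem_right _ _ e)
    have hxg : g ∉ x.asHomogeneousIdeal := fun e => hx (Ideal.mul_mem_left _ _ e)
    exact frac_eq_iff.mp ((hs x hxf).symm.trans (hs' x hxg))

/-- the correspondence between twisted sections and sections over the cone -/
def Corr (s : sect 𝒜 ℳ n (op ⊤)) (t : CSec 𝒜 M) : Prop :=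
  ∀ (d : ℕ) (f : A) (k : ℕ) (m : M) (hd : 0 < d) (hf : f ∈ 𝒜 d), Rep s d f k m →
    f ^ k • tres M (dOpen_le hd hf) t = ttoOpen M (dOpen A f) m

theorem corr_unique {s : sect 𝒜 ℳ n (op ⊤)} {t t' : CSec 𝒜 M} (h : Corr s t) (h' : Corr s t') : t = t' :=
  csec_ext fun d f hd hf => by
    obtain ⟨k, m, hr⟩ := exists_rep s hd hf
    refine sub_eq_zero.1 (smul_injective M _ k ?_)
    rw [smul_sub, h d f k m hd hf hr, h' d f k m hd hf hr, sub_self]

theorem agree_dOpen {f g : A} {k l : ℕ} {m m' : M} {N : ℕ} (hN : (f * g) ^ N • (g ^ l • m - f ^ k • m') = 0)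
    {W : (Spec (CommRingCat.of A)).Opens} (hW : W ≤ dOpen A (f * g)) (hWf : W ≤ dOpen A f) (hWg : W ≤ dOpen A g)
    (t : (tsheaf M).presheaf.obj (op (dOpen A f))) (t' : (tsheaf M).presheaf.obj (op (dOpen A g)))
    (ht : f ^ k • t = ttoOpen M (dOpen A f) m) (ht' : g ^ l • t' = ttoOpen M (dOpen A g) m')
    (hle : dOpen A (f * g) ≤ W) : tres M hWf t = tres M hWg t' := by
  have h1 : tres M hle (tres M hWf t) - tres M hle (tres M hWg t') = 0 := by
    have e1 : f ^ k • tres M hle (tres M hWf t) = ttoOpen M (dOpen A (f * g)) m := by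
      rw [tres_tres, ← tres_smul, ht, tres_ttoOpen]
    have e2 : g ^ l • tres M hle (tres M hWg t') = ttoOpen M (dOpen A (f * g)) m' := by
      rw [tres_tres, ← tres_smul, ht', tres_ttoOpen]
    refine smul_injective M _ (k + l + N) ?_
    rw [smul_sub]
    nth_rw 1 [show (f * g) ^ (k + l + N) = ((f * g) ^ N * g ^ (k + l) * f ^ l) * f ^ k by ring]
    rw [mul_smul _ (f ^ k), e1, show (f * g) ^ (k + l + N) = ((f * g) ^ N * f ^ (k + l) * g ^ k) * g ^ l by ring,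
      mul_smul _ (g ^ l), e2, ← map_smul, ← map_smul, ← map_sub,
      show ((f * g) ^ N * g ^ (k + l) * f ^ l) • m - ((f * g) ^ N * f ^ (k + l) * g ^ k) • m' =
        (f ^ l * g ^ k) • (f * g) ^ N • (g ^ l • m - f ^ k • m') by
          simp only [smul_sub, smul_smul]; congr 2 <;> ring,
      hN, smul_zero, map_zero]
  have h2 := congrArg (tres M hW) (sub_eq_zero.1 h1)
  rw [tres_tres, tres_tres, tres_tres, tres_tres] at h2
  exact h2

theorem exists_corr (s : sect 𝒜 ℳ n (op ⊤)) : ∃ t : CSec 𝒜 M, Corr s t := by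
  let P := {p : ℕ × A // 0 < p.1 ∧ p.2 ∈ 𝒜 p.1}
  choose k m hr using fun p : P => exists_rep s p.2.1 p.2.2
  have hex : ∀ p : P, ∃ t : (tsheaf M).presheaf.obj (op (dOpen A p.1.2)),
      p.1.2 ^ k p • t = ttoOpen M (dOpen A p.1.2) (m p) := fun p => by
    have := isLocalized M p.1.2
    exact ((Module.End.isUnit_iff _).1 (IsLocalizedModule.map_units (ttoOpen M (dOpen A p.1.2))
      (⟨p.1.2 ^ k p, k p, rfl⟩ : Submonoid.powers p.1.2))).2 _
  choose t ht using hex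
  let U : P → (Spec (CommRingCat.of A)).Opens := fun p => dOpen A p.1.2
  have hcompat : TopCat.Presheaf.IsCompatible (tsheaf M).presheaf U t := by
    intro p q
    obtain ⟨N, hN⟩ := rep_agree p.2.1 p.2.2 q.2.2 (hr p) (hr q)
    exact agree_dOpen hN (le_of_eq (PrimeSpectrum.basicOpen_mul p.1.2 q.1.2).symm) inf_le_left inf_le_right
      (t p) (t q) (ht p) (ht q) (le_of_eq (PrimeSpectrum.basicOpen_mul p.1.2 q.1.2))
  obtain ⟨T, hT, -⟩ := (tsheaf M).existsUnique_gluing' U (cone 𝒜)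
    (fun p => homOfLE (dOpen_le p.2.1 p.2.2)) le_iSup_dOpen t hcompat
  refine ⟨T, fun d f l m' hd hf hr' => ?_⟩
  have hT' : tres M (dOpen_le hd hf) T = t ⟨(d, f), hd, hf⟩ := hT ⟨(d, f), hd, hf⟩
  set p : P := ⟨(d, f), hd, hf⟩
  obtain ⟨N, hN⟩ := rep_agree (f := p.1.2) (g := f) hd hf hf (hr p) hr'
  rw [hT']
  refine sub_eq_zero.1 (smul_injective M _ (k p + N + N) ?_)
  rw [smul_sub, smul_smul, show f ^ (k p + N + N) * f ^ l = (f ^ (N + N) * f ^ l) * f ^ k p by ring, mul_smul,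
    ht p, ← map_smul, ← map_smul, ← map_sub,
    show (f ^ (N + N) * f ^ l) • m p - f ^ (k p + N + N) • m' = (p.1.2 * f) ^ N • (f ^ l • m p - p.1.2 ^ k p • m') by
      show _ = (f * f) ^ N • (f ^ l • m p - f ^ k p • m')
      simp only [smul_sub, smul_smul]; congr 2 <;> ring,
    hN, map_zero]

/-- the section over the cone attached to a twisted section -/
def psiFun (s : sect 𝒜 ℳ n (op ⊤)) : CSec 𝒜 M := (exists_corr s).choose

theorem psiFun_spec (s : sect 𝒜 ℳ n (op ⊤)) : Corr s (psiFun s) := (exists_corr s).choose_spec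

theorem corr_eq {s : sect 𝒜 ℳ n (op ⊤)} {t : CSec 𝒜 M}
    (h : ∀ (d : ℕ) (f : A) (hd : 0 < d) (hf : f ∈ 𝒜 d), ∃ k m, Rep s d f k m ∧
      f ^ k • tres M (dOpen_le hd hf) t = ttoOpen M (dOpen A f) m) : psiFun s = t :=
  csec_ext fun d f hd hf => by
    obtain ⟨k, m, hr, ht⟩ := h d f hd hf
    refine sub_eq_zero.1 (smul_injective M _ k ?_)
    rw [smul_sub, psiFun_spec s d f k m hd hf hr, ht, sub_self]

theorem psiFun_add (s t : sect 𝒜 ℳ n (op ⊤)) : psiFun (s + t) = psiFun s + psiFun t := by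
  refine corr_eq fun d f hd hf => ?_
  obtain ⟨k, m, hs⟩ := exists_rep s hd hf
  obtain ⟨l, m', ht⟩ := exists_rep t hd hf
  have hs' := rep_raise hf hs l
  have ht' := rep_raise hf ht k
  rw [add_comm l k] at ht'
  obtain ⟨⟨i, hi, hie⟩, hsx⟩ := hs'
  obtain ⟨⟨i', hi', hie'⟩, htx⟩ := ht'
  refine ⟨k + l, f ^ l • m + f ^ k • m', ⟨⟨i, add_mem hi ?_, hie⟩, fun x hx => ?_⟩, ?_⟩
  · obtain rfl : i = i' := by
      have : (i : ℤ) = i' := by rw [hie, hie']
      exact_mod_cast this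
    exact hi'
  · show (s.1 ⟨x, trivial⟩).1 + (t.1 ⟨x, trivial⟩).1 = _
    rw [hsx x hx, htx x hx]
    exact ((LocalizedModule.mk_add_mk).trans (by
      rw [LocalizedModule.mk_eq]
      exact ⟨1, by simp only [one_smul, Submonoid.smul_def, Submonoid.coe_mul, smul_add, smul_smul, mul_assoc]⟩))
  · rw [map_add, smul_add]
    nth_rw 1 [show f ^ (k + l) = f ^ l * f ^ k by ring]
    rw [show f ^ (k + l) = f ^ k * f ^ l by ring, mul_smul, mul_smul, psiFun_spec s d f k m hd hf hs,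
      psiFun_spec t d f l m' hd hf ht, map_add, map_smul, map_smul]

variable (𝒜 ℳ) in
/-- global twisted sections -/
abbrev TSec (n : ℤ) : Type u := ((GrMod.tilde 𝒜 ℳ n).val.obj (op ⊤) : Type u)

variable (𝒜 ℳ) in
/-- twisted sections to sections over the cone -/
def psi : DirectSum ℤ (fun n : ℤ => TSec 𝒜 ℳ n) →+ CSec 𝒜 M :=
  DirectSum.toAddMonoid fun n =>
    AddMonoidHom.mk' (fun s : TSec 𝒜 ℳ n => psiFun (n := n) s) fun s t => psiFun_add s t

theorem psiFun_globalOf {i : ℕ} (m : ℳ i) : psiFun (globalOf 𝒜 ℳ m) = ttoOpen M (cone 𝒜) (m : M) := by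
  refine corr_eq fun d f hd hf => ⟨0, (m : M), ⟨⟨i, m.2, by simp⟩, fun x hx => ?_⟩, ?_⟩
  · show frac x (m : M) 1 _ = _
    exact frac_congr (by rw [pow_zero, one_smul])
  · rw [pow_zero, one_smul, tres_ttoOpen]

omit [AddSubgroupClass σ A] [GradedRing 𝒜] [SetLike.GradedSMul 𝒜 ℳ] in
theorem eq_zero_of_sum_eq_zero {ι : Type*} (S : Finset ι) (z : ι → M) (e : ι → ℕ)
    (hz : ∀ a ∈ S, z a ∈ ℳ (e a)) (he : Set.InjOn e S) (h : ∑ a ∈ S, z a = 0) : ∀ a ∈ S, z a = 0 := by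
  classical
  intro a ha
  have key := congrArg (fun y : M => (DirectSum.decompose ℳ y (e a) : M)) h
  rw [DirectSum.decompose_sum, DirectSum.decompose_zero] at key
  erw [DFinsupp.finsetSum_apply] at key
  rw [AddSubmonoidClass.coe_finsetSum] at key
  change _ = ((0 : ℳ (e a)) : M) at key
  rw [ZeroMemClass.coe_zero] at key
  rw [Finset.sum_eq_single a (fun b hb hba => DirectSum.decompose_of_mem_ne ℳ (hz b hb)
    fun e' => hba (he hb ha e')) (fun h' => absurd ha h'), DirectSum.decompose_of_mem_same ℳ (hz a ha)] at key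
  exact key

theorem psi_injective : Function.Injective (psi 𝒜 ℳ) := by
  classical
  refine (injective_iff_map_eq_zero _).2 fun x hx => DFinsupp.ext fun n => sect_ext fun y => ?_
  by_cases hn : n ∈ DFinsupp.support x
  swap
  · rw [DFinsupp.notMem_support_iff.1 hn]; rfl
  obtain ⟨d, f, hd, hf, hfy⟩ := exists_pos_notMem 𝒜 y.1
  choose k m hr using fun l : ℤ => exists_rep (x l) hd hf
  set K := (DFinsupp.support x).sup k
  let m' : ℤ → M := fun l => f ^ (K - k l) • m l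
  have hr' : ∀ l ∈ DFinsupp.support x, Rep (x l) d f K (m' l) := fun l hl => by
    have := rep_raise hf (hr l) (K - k l)
    rwa [Nat.add_sub_cancel' (Finset.le_sup (f := k) hl)] at this
  have h1 : ttoOpen M (dOpen A f) (∑ l ∈ DFinsupp.support x, m' l) = 0 := by
    rw [map_sum]
    refine Eq.trans (Finset.sum_congr rfl fun l hl => (psiFun_spec (x l) d f K (m' l) hd hf (hr' l hl)).symm) ?_
    rw [← Finset.smul_sum, ← map_sum]
    have h2 : psi 𝒜 ℳ x = ∑ l ∈ DFinsupp.support x, psiFun (x l) := by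
      conv_lhs => rw [← DirectSum.sum_support_of x, map_sum]
      exact Finset.sum_congr rfl fun l _ => DirectSum.toAddMonoid_of _ l (x l)
    rw [← h2, hx, map_zero, smul_zero]
  obtain ⟨j, hj⟩ := exists_pow_smul_eq_zero_of_toOpen M h1
  rw [Finset.smul_sum] at hj
  choose! e he hee using fun l hl => (hr' l hl).1
  have h3 := eq_zero_of_sum_eq_zero (ℳ := ℳ) (DFinsupp.support x) (fun l => f ^ j • m' l) (fun l => j * d + e l)
    (fun l hl => gsmul_mem 𝒜 ℳ (by simpa using SetLike.pow_mem_graded j hf) (he l hl))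
    (fun a ha b hb hab => by
      have h4 := hee a ha
      have h5 := hee b hb
      have : (e a : ℤ) = e b := by exact_mod_cast Nat.add_left_cancel hab
      omega) hj n hn
  show ((x n).1 y).1 = 0
  rw [show ((x n).1 y).1 = frac y.1 (m' n) (f ^ K) (pow_notMem hfy K) from (hr' n hn).2 y.1 hfy,
    frac_eq_zero_iff]
  exact ⟨f ^ j, pow_notMem hfy j, h3⟩

end Groth.Agent.LC17.GrSections

end
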