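import Groth.Agent.LC17.CompareLE
import Groth.Agent.LC15.Dim
import Groth.Agent.LC16.ChangeRings
import Mathlib.RingTheory.KrullDimension.NonZeroDivisors
import Mathlib.RingTheory.Localization.Ideal
import Mathlib.LinearAlgebra.DirectSum.Finsupp
import Mathlib.LinearAlgebra.TensorProduct.RightExactness

/-!
The top local cohomology functor `H^d_I`, `d = dim R`.
-/

set_option autoImplicit false

universe u

open Groth.Agent.LC15
open scoped TensorProduct

namespace Groth.Agent.LC17

variable {R : Type u} [CommRing R] [IsNoetherianRing R]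

lemma ringKrullDim_away_le [IsLocalRing R] {x : R} (hx : x ∈ IsLocalRing.maximalIdeal R) {d : ℕ}
    (hd : ringKrullDim R ≤ (d : WithBot ℕ∞)) (L : Type u) [CommRing L] [Algebra R L]
    [IsLocalization.Away x L] (k : ℕ) (hk : (k : WithBot ℕ∞) ≤ ringKrullDim L) : k < d := by
  obtain ⟨l, hl⟩ := Order.le_krullDim_iff.mp hk
  let f : PrimeSpectrum L → PrimeSpectrum R := PrimeSpectrum.comap (algebraMap R L)
  have hlast : f l.last < IsLocalRing.closedPoint R := by
    refine lt_of_le_of_ne (IsLocalRing.le_maximalIdeal Ideal.IsPrime.ne_top') fun e => ?_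
    have h1 : x ∈ (f l.last).asIdeal := e ▸ hx
    exact l.last.isPrime.ne_top (Ideal.eq_top_of_isUnit_mem _ h1
      (IsLocalization.map_units L (⟨x, Submonoid.mem_powers x⟩ : Submonoid.powers x)))
  have hmono : StrictMono f := fun p q h => by
    refine lt_of_le_of_ne (Ideal.comap_mono h.le) fun e => h.ne (PrimeSpectrum.ext ?_)
    rw [← IsLocalization.map_comap (Submonoid.powers x) L p.asIdeal,
      ← IsLocalization.map_comap (Submonoid.powers x) L q.asIdeal]
    exact congrArg (Ideal.map _) (congrArg PrimeSpectrum.asIdeal e)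
  let l' := (l.map f hmono).snoc (IsLocalRing.closedPoint R) hlast
  have h2 : ((l'.length : ℕ) : WithBot ℕ∞) ≤ (d : WithBot ℕ∞) := (Order.LTSeries.length_le_krullDim l').trans hd
  have h3 : l'.length ≤ d := by exact_mod_cast h2
  simp [l', hl] at h3
  omega

/-- above the dimension, local cohomology of modules over `R_x` vanishes -/
lemma subsingleton_H_localized_top [IsLocalRing R] {x : R} (hx : x ∈ IsLocalRing.maximalIdeal R)
    {d : ℕ} (hd : ringKrullDim R ≤ (d : WithBot ℕ∞)) (a : Ideal R) {i : ℕ} (hi : d ≤ i)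
    (M : Type u) [AddCommGroup M] [Module R M] :
    Subsingleton (LocCoh.H a i (LocalizedModule (Submonoid.powers x) M)) := by
  set L := Localization (Submonoid.powers x)
  haveI : IsNoetherianRing L := IsLocalization.isNoetherianRing (Submonoid.powers x) L inferInstance
  rcases subsingleton_or_nontrivial L with hL | hL
  · haveI : Subsingleton (LocalizedModule (Submonoid.powers x) M) := Module.subsingleton L _
    exact subsingleton_H_of_subsingleton a i
  haveI : Nonempty (PrimeSpectrum L) := inferInstance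
  have h0 : ((0 : ℕ) : WithBot ℕ∞) ≤ ringKrullDim L := by
    rw [Nat.cast_zero]; exact Order.krullDim_nonneg_iff.mpr inferInstance
  have hpos : 0 < d := ringKrullDim_away_le hx hd L 0 h0
  have hdim : ringKrullDim L ≤ ((d - 1 : ℕ) : WithBot ℕ∞) := by
    refine iSup_le fun l => ?_
    have h1 := ringKrullDim_away_le hx hd L l.length (Order.LTSeries.length_le_krullDim l)
    exact_mod_cast (show l.length ≤ d - 1 by omega)
  obtain ⟨φ, -⟩ := LC16.ChangeRings.exists_equiv (R' := L) a i (LocalizedModule (Submonoid.powers x) M)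
  haveI := cdLE_of_ringKrullDim_le (a.map (algebraMap R L)) hdim
    (LocalizedModule (Submonoid.powers x) M) i (by omega)
  exact φ.symm.toEquiv.subsingleton

/-- the top local cohomology is surjected upon by that of larger ideals -/
theorem subsingleton_H_top_of_le [IsLocalRing R] {I J : Ideal R} (h : I ≤ J)
    (hJ : J ≤ IsLocalRing.maximalIdeal R) {d : ℕ} (hd : ringKrullDim R ≤ (d : WithBot ℕ∞))
    (M : Type u) [AddCommGroup M] [Module R M] (hs : Subsingleton (LocCoh.H J d M)) :
    Subsingleton (LocCoh.H I d M) := by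
  classical
  obtain ⟨s, hspan⟩ := (IsNoetherian.noetherian J : Submodule.FG J)
  suffices H : ∀ t : Finset R, t ⊆ s → Subsingleton (LocCoh.H (I ⊔ Ideal.span (t : Set R)) d M) →
      Subsingleton (LocCoh.H I d M) by
    refine H s subset_rfl ?_
    rwa [show I ⊔ Ideal.span (s : Set R) = J from (congrArg (I ⊔ ·) hspan).trans (sup_eq_right.mpr h)]
  intro t
  induction t using Finset.induction with
  | empty =>
    intro _ h0
    rwa [Finset.coe_empty, Ideal.span_empty, sup_bot_eq] at h0
  | insert x t _ ih =>
    intro ht h0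
    refine ih ((Finset.subset_insert x t).trans ht) ?_
    rw [Finset.coe_insert, Ideal.span_insert, sup_comm (Ideal.span {x}), ← sup_assoc] at h0
    have hx : x ∈ IsLocalRing.maximalIdeal R :=
      hJ (hspan ▸ Submodule.subset_span (ht (Finset.mem_insert_self x t)))
    haveI := subsingleton_H_localized_top hx hd (I ⊔ Ideal.span (t : Set R)) le_rfl M
    refine subsingleton_of_forall_eq 0 fun y => ?_
    obtain ⟨z, rfl⟩ := (exact_Hle_muX _ x d M y).1 (Subsingleton.elim _ _)
    rw [Subsingleton.elim z 0, map_zero]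

lemma exists_prime_dim_one [IsLocalRing R] {I : Ideal R} (h : 0 < ringKrullDim (R ⧸ I)) :
    ∃ P : Ideal R, P.IsPrime ∧ I ≤ P ∧ ringKrullDim (R ⧸ P) = 1 := by
  rw [ringKrullDim_quotient, Order.krullDim_pos_iff] at h
  obtain ⟨⟨x, hx⟩, ⟨y, hy⟩, hxy⟩ := h
  have hne : x.asIdeal ≠ IsLocalRing.maximalIdeal R := fun e =>
    (show x.asIdeal < y.asIdeal from hxy).not_ge (e ▸ IsLocalRing.le_maximalIdeal y.isPrime.ne_top)
  obtain ⟨P, ⟨hP, hIP, hPm⟩, hmax⟩ := set_has_maximal_iff_noetherian.mpr ‹IsNoetherianRing R›
    {P : Ideal R | P.IsPrime ∧ I ≤ P ∧ P ≠ IsLocalRing.maximalIdeal R}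
    ⟨x.asIdeal, x.isPrime, hx, hne⟩
  haveI := hP
  refine ⟨P, hP, hIP, le_antisymm ?_ ?_⟩
  · rw [ringKrullDim_quotient, Order.krullDim_le_one_iff]
    rintro ⟨q, hq⟩
    by_cases hqm : q.asIdeal = IsLocalRing.maximalIdeal R
    · exact Or.inr fun r hr => (show r.1.asIdeal ≤ q.asIdeal from
        hqm ▸ IsLocalRing.le_maximalIdeal r.1.isPrime.ne_top)
    · have hqP : q.asIdeal = P := by
        rcases (show P ≤ q.asIdeal from hq).eq_or_lt with e | hlt
        · exact e.symm
        · exact absurd hlt (hmax q.asIdeal ⟨q.isPrime, hIP.trans hq, hqm⟩)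
      exact Or.inl fun r hr => (show q.asIdeal ≤ r.1.asIdeal from hqP ▸ r.2)
  · rw [ringKrullDim_quotient, Order.one_le_krullDim_iff]
    exact ⟨⟨⟨P, hP⟩, fun _ h => h⟩, ⟨IsLocalRing.closedPoint R, IsLocalRing.le_maximalIdeal hP.ne_top⟩,
      lt_of_le_of_ne (IsLocalRing.le_maximalIdeal hP.ne_top) fun e =>
        hPm (congrArg (fun z => z.1.asIdeal) e)⟩

section RightExact

variable (I : Ideal R) (d : ℕ)

omit [IsNoetherianRing R] in
lemma mapRange_ses {ι M N L : Type u} [AddCommGroup M] [Module R M] [AddCommGroup N] [Module R N]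
    [AddCommGroup L] [Module R L] {f : M →ₗ[R] N} {g : N →ₗ[R] L} (hf : Function.Injective f)
    (hfg : Function.Exact f g) (hg : Function.Surjective g) :
    Function.Injective (Finsupp.mapRange.linearMap (α := ι) f) ∧
      Function.Exact (Finsupp.mapRange.linearMap (α := ι) f) (Finsupp.mapRange.linearMap (α := ι) g) ∧
      Function.Surjective (Finsupp.mapRange.linearMap (α := ι) g) := by
  classical
  refine ⟨fun a b h => Finsupp.ext fun j => hf (DFunLike.congr_fun h j), fun y => ⟨fun hy => ?_, ?_⟩,
    fun y => Finsupp.mapRange_surjective g (map_zero g) hg y⟩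
  · choose x hx using fun j => (hfg (y j)).1 (DFunLike.congr_fun hy j)
    refine ⟨Finsupp.onFinset y.support x fun j hj => Finsupp.mem_support_iff.2 fun h0 => hj ?_,
      Finsupp.ext hx⟩
    exact hf (by rw [hx, h0, map_zero])
  · rintro ⟨x, rfl⟩
    ext j
    exact hfg.apply_apply_eq_zero (x j)

/-- the canonical map `⊕ H(M) → H(⊕ M)` -/
noncomputable def sumH (ι : Type u) (i : ℕ) (M : Type u) [AddCommGroup M] [Module R M] :
    (ι →₀ LocCoh.H I i M) →ₗ[R] LocCoh.H I i (ι →₀ M) :=
  Finsupp.lsum R fun j => Hmap I i (Finsupp.lsingle j)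

lemma sumH_bijective (ι : Type u) : ∀ (i : ℕ) (M : Type u) [AddCommGroup M] [Module R M],
    Function.Bijective (sumH I ι i M) := by
  classical
  intro i M _ _
  refine ⟨fun a b hab => Finsupp.ext fun j => ?_, ?_⟩
  · have h1 : ∀ c : ι →₀ LocCoh.H I i M, Hmap I i (Finsupp.lapply j) (sumH I ι i M c) = c j := by
      intro c
      induction c using Finsupp.induction_linear with
      | zero => simp
      | add c c' hc hc' => rw [map_add, map_add, hc, hc', Finsupp.add_apply]
      | single k y =>
        rw [sumH, Finsupp.lsum_single, ← LinearMap.comp_apply, ← Hmap_comp]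
        by_cases hkj : k = j
        · subst hkj
          rw [show Finsupp.lapply k ∘ₗ (Finsupp.lsingle k : M →ₗ[R] ι →₀ M) = LinearMap.id from
            LinearMap.ext fun m => by simp, Hmap_id, LinearMap.id_apply, Finsupp.single_eq_same]
        · rw [show Finsupp.lapply j ∘ₗ (Finsupp.lsingle k : M →ₗ[R] ι →₀ M) = 0 from
            LinearMap.ext fun m => by simp [Finsupp.single_apply, hkj], Hmap_zero,
            LinearMap.zero_apply, Finsupp.single_apply, if_neg hkj]
    rw [← h1 a, hab, h1 b]
  induction i generalizing M with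
  | zero =>
    intro y
    have hy : (H0equiv I _ y : ι →₀ M) ∈ gamma I (ι →₀ M) := (H0equiv I _ y).2
    refine ⟨∑ j ∈ (H0equiv I _ y : ι →₀ M).support, Finsupp.single j ((H0equiv I M).symm
      ⟨(H0equiv I _ y : ι →₀ M) j, map_mem_gamma (Finsupp.lapply j) hy⟩), ?_⟩
    apply h0_injective
    rw [map_sum, map_sum]
    conv_rhs => rw [← H0equiv_coe, ← Finsupp.sum_single (H0equiv I _ y : ι →₀ M)]
    refine Finset.sum_congr rfl fun j _ => ?_
    rw [sumH, Finsupp.lsum_single, h0_Hmap, ← H0equiv_coe, LinearEquiv.apply_symm_apply,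
      Finsupp.lsingle_apply]
  | succ i ih =>
    intro y
    obtain ⟨E, _, _, f, hf, _⟩ := exists_injective_embedding (R := R) M
    haveI := injective_finsupp (R := R) ι E
    have hfg := LinearMap.exact_map_mkQ_range f
    have hg := Submodule.mkQ_surjective (LinearMap.range f)
    obtain ⟨hf', hfg', hg'⟩ := mapRange_ses (ι := ι) hf hfg hg
    obtain ⟨z, rfl⟩ := Hδ_surjective I i hf' hfg' hg' (subsingleton_H_succ_of_injective I i) y
    obtain ⟨c, rfl⟩ := ih _ z
    induction c using Finsupp.induction_linear with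
    | zero => exact ⟨0, by simp⟩
    | add c c' hc hc' =>
      obtain ⟨w, hw⟩ := hc
      obtain ⟨w', hw'⟩ := hc'
      exact ⟨w + w', by rw [map_add, hw, hw', map_add, map_add]⟩
    | single k w =>
      refine ⟨Finsupp.single k (Hδ I i hf hfg hg w), ?_⟩
      simp only [sumH, Finsupp.lsum_single]
      refine Hmap_Hδ_naturality hf hfg hg hf' hfg' hg' _ (Finsupp.lsingle k) _ ?_ ?_ w
      · ext m j
        simp [Finsupp.mapRange.linearMap_apply]
      · ext m j
        simp [Finsupp.mapRange.linearMap_apply]

/-- `H^d(R) ⊗ M → H^d(M)` -/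
noncomputable def tensorToH (M : Type u) [AddCommGroup M] [Module R M] :
    LocCoh.H I d R ⊗[R] M →ₗ[R] LocCoh.H I d M :=
  TensorProduct.lift (LinearMap.mk₂ R (fun t m => Hmap I d (LinearMap.toSpanSingleton R M m) t)
    (fun t t' m => map_add _ t t') (fun r t m => map_smul _ r t)
    (fun t m m' => by rw [← LinearMap.add_apply, ← Hmap_add]; congr 2; ext; simp)
    (fun r t m => by rw [← LinearMap.smul_apply, ← Hmap_smul]; congr 2; ext; simp))

omit [IsNoetherianRing R] in
lemma tensorToH_nat {M N : Type u} [AddCommGroup M] [Module R M] [AddCommGroup N] [Module R N]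
    (f : M →ₗ[R] N) (v : LocCoh.H I d R ⊗[R] M) :
    tensorToH I d N (f.lTensor _ v) = Hmap I d f (tensorToH I d M v) := by
  induction v using TensorProduct.induction_on with
  | zero => simp
  | add a b ha hb => rw [map_add, map_add, ha, hb, map_add, map_add]
  | tmul t m =>
    rw [LinearMap.lTensor_tmul]
    show Hmap I d _ t = Hmap I d f (Hmap I d _ t)
    rw [← LinearMap.comp_apply, ← Hmap_comp]
    congr 2
    ext
    simp

lemma tensorToH_bijective_free (ι : Type u) : Function.Bijective (tensorToH I d (ι →₀ R)) := by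
  classical
  have h : tensorToH I d (ι →₀ R) =
      sumH I ι d R ∘ₗ (TensorProduct.finsuppScalarRight R R (LocCoh.H I d R) ι).toLinearMap := by
    refine TensorProduct.ext' fun t v => ?_
    induction v using Finsupp.induction_linear with
    | zero => simp
    | add a b ha hb => rw [TensorProduct.tmul_add, map_add, map_add, ha, hb]
    | single k r =>
      rw [LinearMap.comp_apply, LinearEquiv.coe_coe,
        TensorProduct.finsuppScalarRight_apply_tmul, Finsupp.sum_single_index (by simp), sumH,
        Finsupp.lsum_single, map_smul]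
      show Hmap I d _ t = _
      rw [show LinearMap.toSpanSingleton R (ι →₀ R) (Finsupp.single k r) = r • Finsupp.lsingle k from
        LinearMap.ext_ring (by simp), Hmap_smul, LinearMap.smul_apply]
  rw [h]
  exact (sumH_bijective I ι d R).comp (LinearEquiv.bijective _)

variable {I d} (hcd : LocCoh.CdLE R I d)

include hcd in
lemma tensorToH_surjective (M : Type u) [AddCommGroup M] [Module R M] :
    Function.Surjective (tensorToH I d M) := by
  intro y
  let p : (M →₀ R) →ₗ[R] M := Finsupp.linearCombination R (id : M → M)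
  obtain ⟨z, rfl⟩ := (H_exact₃ I d (M := LinearMap.ker p) (N := M →₀ R) (L := M) (LinearMap.ker p).subtype_injective
    (LinearMap.exact_subtype_ker_map p)
    (show Function.Surjective p from Finsupp.linearCombination_id_surjective R M) y).1
    (@Subsingleton.elim _ (hcd _ (d + 1) (Nat.lt_succ_self d)) _ _)
  obtain ⟨v, rfl⟩ := (tensorToH_bijective_free I d M).2 z
  exact ⟨p.lTensor _ v, tensorToH_nat I d p v⟩

include hcd in
theorem tensorToH_bijective (M : Type u) [AddCommGroup M] [Module R M] :
    Function.Bijective (tensorToH I d M) := by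
  refine ⟨(injective_iff_map_eq_zero _).2 fun w hw => ?_, tensorToH_surjective hcd M⟩
  let p : (M →₀ R) →ₗ[R] M := Finsupp.linearCombination R (id : M → M)
  have hp : Function.Surjective p := Finsupp.linearCombination_id_surjective R M
  obtain ⟨v, rfl⟩ := LinearMap.lTensor_surjective (LocCoh.H I d R) hp w
  rw [tensorToH_nat] at hw
  obtain ⟨z, hz⟩ := (H_exact₂ I d (M := LinearMap.ker p) (N := M →₀ R) (L := M) (LinearMap.ker p).subtype_injective
    (LinearMap.exact_subtype_ker_map p) hp _).1 hw
  obtain ⟨k, rfl⟩ := tensorToH_surjective hcd _ z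
  rw [← tensorToH_nat] at hz
  rw [← (tensorToH_bijective_free I d M).1 hz, ← LinearMap.comp_apply, ← LinearMap.lTensor_comp,
    (LinearMap.exact_subtype_ker_map p).linearMap_comp_eq_zero, LinearMap.lTensor_zero,
    LinearMap.zero_apply]

end RightExact

end Groth.Agent.LC17
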