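import Groth.Agent.LC17.QuotDim
import Groth.Agent.LC15.TopCoh
import Groth.Agent.LC17.TopLC
import Groth.Agent.LC17.LocalDepth
import Groth.Agent.LC16.ChangeRings
import Groth.Agent.S11642
import Groth.Agent.CAlg7.Chevalley
import Groth.Agent.CAlg1.CohenStructure
import Groth.Agent.EGA4Alg4.IntegralDim
import Groth.Agent.EGA4H10.CompleteJ2
import Groth.Agent.Gor18.Poly
import Groth.Agent.S0342
import Groth.Agent.S0343
import Groth.Agent.S9829
import Mathlib.FieldTheory.Minpoly.IsIntegrallyClosed
import Mathlib.RingTheory.IntegralClosure.IsIntegral.AlmostIntegral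

/-!
# Top local cohomology of complete local domains at primes of dimension one
-/

set_option autoImplicit false

universe u

open IsLocalRing CategoryTheory Groth.Agent.LC15

namespace Groth.Agent.LC17

section Symbolic

variable {R : Type u} [CommRing R] (p : Ideal R) [p.IsPrime]

/-- the symbolic power -/
noncomputable def symbPow (m : ℕ) : Ideal R :=
  ((maximalIdeal (Localization.AtPrime p)) ^ m).comap (algebraMap R (Localization.AtPrime p))

theorem pow_le_symbPow (m : ℕ) : p ^ m ≤ symbPow p m := by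
  refine Ideal.map_le_iff_le_comap.1 ?_
  rw [Ideal.map_pow, Localization.AtPrime.map_eq_maximalIdeal]

theorem symbPow_antitone : Antitone (symbPow p) := fun _ _ h =>
  Ideal.comap_mono (Ideal.pow_le_pow_right h)

theorem symbPow_le (m : ℕ) (hm : 1 ≤ m) : symbPow p m ≤ p := by
  exact (Ideal.comap_mono (Ideal.pow_le_self (by omega))).trans
    (Localization.AtPrime.comap_maximalIdeal (I := p)).le

theorem mem_symbPow_of_mul_mem {m : ℕ} {a z : R} (ha : a ∉ p) (h : a * z ∈ symbPow p m) :
    z ∈ symbPow p m := by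
  rw [symbPow, Ideal.mem_comap, map_mul] at h
  exact (Ideal.unit_mul_mem_iff_mem _
    (IsLocalization.map_units (Localization.AtPrime p) (⟨a, ha⟩ : p.primeCompl))).1 h

theorem iInf_symbPow [IsDomain R] [IsNoetherianRing R] : ⨅ m, symbPow p m = ⊥ := by
  rw [eq_bot_iff]
  intro z hz
  rw [Submodule.mem_iInf] at hz
  have h : algebraMap R (Localization.AtPrime p) z ∈ ⨅ m, maximalIdeal (Localization.AtPrime p) ^ m :=
    Submodule.mem_iInf _ |>.2 fun m => hz m
  rw [Ideal.iInf_pow_eq_bot_of_isLocalRing _ (maximalIdeal.isMaximal _).ne_top, Ideal.mem_bot] at h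
  rw [Ideal.mem_bot]
  exact IsLocalization.injective (Localization.AtPrime p) p.primeCompl_le_nonZeroDivisors
    (h.trans (map_zero _).symm)

theorem exists_notMem_mul_mem {t : ℕ} {z : R} (hz : z ∈ symbPow p t) : ∃ s ∉ p, s * z ∈ p ^ t := by
  rw [symbPow, Ideal.mem_comap, ← Localization.AtPrime.map_eq_maximalIdeal, ← Ideal.map_pow,
    IsLocalization.algebraMap_mem_map_algebraMap_iff p.primeCompl] at hz
  obtain ⟨s, hs, hsz⟩ := hz
  exact ⟨s, hs, hsz⟩

variable [IsNoetherianRing R] [IsLocalRing R]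

theorem maximalIdeal_le_radical_of_dim_one (hp : ringKrullDim (R ⧸ p) = 1) {s : R} (hs : s ∉ p)
    {K : Ideal R} (hsK : s ∈ K) (hpK : p ≤ K.radical) : maximalIdeal R ≤ K.radical := by
  rw [Ideal.radical_eq_sInf]
  refine le_sInf fun Q hQ => ?_
  haveI := hQ.2
  by_contra hm
  have hlt : p < Q := lt_of_le_of_ne (hpK.trans (hQ.2.radical_le_iff.2 hQ.1)) fun e => hs (e ▸ hQ.1 hsK)
  have hlt2 : Q < maximalIdeal R := lt_of_le_of_ne (le_maximalIdeal hQ.2.ne_top) fun e => hm e.ge
  have h1 := (add_le_add_left (ringKrullDim_quotient_add_one_le hlt2) 1).trans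
    (ringKrullDim_quotient_add_one_le hlt)
  rw [hp, ringKrullDim_eq_zero_of_isField ((Ideal.Quotient.maximal_ideal_iff_isField_quotient _).1
    (maximalIdeal.isMaximal R))] at h1
  norm_num at h1

theorem exists_pow_mul_mem (hp : ringKrullDim (R ⧸ p) = 1) (t : ℕ) :
    ∃ c : ℕ, ∀ a ∈ maximalIdeal R ^ c, ∀ z ∈ symbPow p t, a * z ∈ p ^ t := by
  have key : maximalIdeal R ≤ ((p ^ t).colon (symbPow p t : Set R)).radical := by
    obtain ⟨G, hG⟩ := IsNoetherian.noetherian (symbPow p t)
    have hmem : ∀ g ∈ G, g ∈ symbPow p t := fun g hg => hG ▸ Submodule.subset_span hg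
    choose s hs hsg using fun g : ↥G => exists_notMem_mul_mem p (hmem g.1 g.2)
    have hsK : ∏ g, s g ∈ (p ^ t).colon (symbPow p t : Set R) := by
      rw [Submodule.mem_colon]
      intro z hz
      rw [SetLike.mem_coe, ← hG] at hz
      induction hz using Submodule.span_induction with
      | mem g hg =>
        classical
        rw [smul_eq_mul, ← Finset.prod_erase_mul Finset.univ _ (Finset.mem_univ ⟨g, hg⟩), mul_assoc]
        exact Ideal.mul_mem_left _ _ (hsg ⟨g, hg⟩)
      | zero => rw [smul_zero]; exact zero_mem _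
      | add a b _ _ ha hb => rw [smul_add]; exact add_mem ha hb
      | smul a b _ hb => rw [smul_comm]; exact Submodule.smul_mem _ a hb
    refine maximalIdeal_le_radical_of_dim_one p hp ?_ hsK fun a ha => ⟨t, ?_⟩
    · exact fun h => by
        obtain ⟨g, -, hg⟩ := Ideal.IsPrime.prod_mem_iff.1 h
        exact hs g hg
    · rw [Submodule.mem_colon]
      intro z _
      exact Ideal.mul_mem_right z _ (Ideal.pow_mem_pow ha t)
  obtain ⟨c, hc⟩ := Ideal.exists_pow_le_of_le_radical_of_fg key (IsNoetherian.noetherian _)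
  exact ⟨c, fun a ha z hz => Submodule.mem_colon.1 (hc ha) z hz⟩

theorem exists_symbPow_le_pow [IsDomain R] [IsAdicComplete (maximalIdeal R) R]
    (hp : ringKrullDim (R ⧸ p) = 1) (t : ℕ) : ∃ m, t ≤ m ∧ symbPow p m ≤ p ^ t := by
  obtain ⟨c, hc⟩ := exists_pow_mul_mem p hp t
  obtain ⟨k, hk⟩ := (maximalIdeal R).exists_pow_inf_eq_pow_smul (M := R) (symbPow p t)
  obtain ⟨m, hm⟩ := CAlg7.exists_le_pow (symbPow p) (symbPow_antitone p) (iInf_symbPow p) (c + k)
  refine ⟨max m t, le_max_right _ _, fun z hz => ?_⟩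
  have h1 : z ∈ symbPow p t := symbPow_antitone p (le_max_right m t) hz
  have h2 : z ∈ maximalIdeal R ^ (c + k) := hm (symbPow_antitone p (le_max_left m t) hz)
  have h3 : z ∈ maximalIdeal R ^ (c + k) • (⊤ : Submodule R R) ⊓ symbPow p t :=
    ⟨by rw [smul_eq_mul, ← Ideal.one_eq_top, mul_one]; exact h2, h1⟩
  rw [hk (c + k) (by omega), Nat.add_sub_cancel] at h3
  refine (?_ : maximalIdeal R ^ c • (maximalIdeal R ^ k • ⊤ ⊓ symbPow p t) ≤ p ^ t) h3
  exact Submodule.smul_le.2 fun a ha w hw => hc a ha w hw.2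

end Symbolic

/-- Vanishing for complete Gorenstein domains. -/
theorem subsingleton_H_top_gorenstein (B : Type u) [CommRing B] [IsDomain B]
    [LocCoh.IsGorensteinLocalRing B] [IsAdicComplete (maximalIdeal B) B] (n : ℕ)
    (hn : ringKrullDim B = n) (p : Ideal B) [p.IsPrime] (hp : ringKrullDim (B ⧸ p) = 1) :
    Subsingleton (LocCoh.H p n B) := by
  refine subsingleton_of_forall_eq 0 fun y => ?_
  obtain ⟨t, x, rfl⟩ := toH_surj p n B y
  obtain ⟨m, htm, hm⟩ := exists_symbPow_le_pow p hp (t + 1)
  have htm' : t ≤ m := by omega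
  rw [← toH_precomp p n B htm' x]
  let S := symbPow p m
  have hSt : S ≤ p ^ t := hm.trans (Ideal.pow_le_pow_right (Nat.le_succ t))
  haveI : Nontrivial (B ⧸ S) := Ideal.Quotient.nontrivial_iff.2 fun e =>
    Ideal.IsPrime.ne_top ‹p.IsPrime› (top_le_iff.1 (e ▸ symbPow_le p m (by omega)))
  obtain ⟨a, ha, hap⟩ : ∃ a ∈ maximalIdeal B, a ∉ p := by
    by_contra h
    push Not at h
    have e : p = maximalIdeal B := le_antisymm (le_maximalIdeal (Ideal.IsPrime.ne_top ‹_›)) h
    subst e
    rw [ringKrullDim_eq_zero_of_isField ((Ideal.Quotient.maximal_ideal_iff_isField_quotient _).1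
      (maximalIdeal.isMaximal B))] at hp
    exact zero_ne_one hp
  have hdepth : 0 < LocCoh.depth B (B ⧸ S) := by
    have hg : gamma (maximalIdeal B) (B ⧸ S) = ⊥ := by
      rw [eq_bot_iff]
      intro z hz
      obtain ⟨k, hk⟩ := hz
      obtain ⟨z, rfl⟩ := Ideal.Quotient.mk_surjective z
      have h1 : a ^ k • Ideal.Quotient.mk S z = 0 := hk _ (Ideal.pow_mem_pow ha k)
      rw [Algebra.smul_def, Ideal.Quotient.algebraMap_eq, ← map_mul, Ideal.Quotient.eq_zero_iff_mem] at h1
      rw [Submodule.mem_bot, Ideal.Quotient.eq_zero_iff_mem]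
      exact mem_symbPow_of_mul_mem p (fun h => hap (Ideal.IsPrime.mem_of_pow_mem ‹_› k h)) h1
    rw [← subsingleton_H0_iff] at hg
    rw [pos_iff_ne_zero, ← ENat.one_le_iff_ne_zero, ← Nat.cast_one, LocCoh.depth,
      natCast_le_idealDepth_iff]
    intro i hi
    obtain rfl : i = 0 := by omega
    exact hg
  haveI := (S11642.result B n hn (B ⧸ S)).1 hdepth
  have hα : p ^ m ≤ Submodule.comap LinearMap.id S := fun z hz => pow_le_symbPow p m hz
  have hβ : S ≤ Submodule.comap LinearMap.id (p ^ t) := fun z hz => hSt hz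
  let α : quotPow p m ⟶ ModuleCat.of B (B ⧸ S) :=
    ModuleCat.ofHom (Submodule.mapQ (p ^ m) S LinearMap.id hα)
  let β : ModuleCat.of B (B ⧸ S) ⟶ quotPow p t :=
    ModuleCat.ofHom (Submodule.mapQ S (p ^ t) LinearMap.id hβ)
  have hq : qmap p htm' = α ≫ β := ModuleCat.hom_ext (LinearMap.ext fun z => by
    obtain ⟨r, rfl⟩ := Submodule.Quotient.mk_surjective _ z
    exact qmap_mk p htm' r)
  rw [hq, ← Abelian.Ext.mk₀_comp_mk₀, Abelian.Ext.comp_assoc_of_second_deg_zero,
    Subsingleton.elim ((Abelian.Ext.mk₀ β).comp x (zero_add n)) 0, Abelian.Ext.comp_zero, map_zero]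

theorem regular_powerSeries_of_or {Λ : Type u} [CommRing Λ] (hΛ : IsField Λ ∨ CAlg.IsCohenRing Λ) (k : ℕ) :
    ∃ _ : IsRegularLocalRing (MvPowerSeries (Fin k) Λ),
      IsAdicComplete (maximalIdeal (MvPowerSeries (Fin k) Λ)) (MvPowerSeries (Fin k) Λ) := by
  rcases hΛ with h | h
  · letI := h.toField
    haveI : IsAdicComplete (maximalIdeal Λ) Λ := by
      rw [IsLocalRing.maximalIdeal_eq_bot]; infer_instance
    exact ⟨(Cohen12.regular_powerSeries (W := Λ) k 0
      (by rw [IsLocalRing.maximalIdeal_eq_bot, Ideal.span_singleton_eq_bot.2 rfl])).1,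
      Cohen12.isAdicComplete_powerSeries k⟩
  · obtain ⟨_, _, _, -⟩ := id h
    obtain ⟨h1, h2, -⟩ := Cohen12.regular_powerSeries_cohen (W := Λ) k (Or.inr h)
    exact ⟨h1, h2⟩

/-- Vanishing at a prime of dimension one in a complete local domain. -/
theorem subsingleton_H_top_of_dim_one {R : Type u} [CommRing R] [IsDomain R] [IsNoetherianRing R]
    [IsLocalRing R] [IsAdicComplete (maximalIdeal R) R] (n : ℕ) (hn : ringKrullDim R = n)
    (P : Ideal R) [P.IsPrime] (hP : ringKrullDim (R ⧸ P) = 1) (M : Type u) [AddCommGroup M]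
    [Module R M] : Subsingleton (LocCoh.H P n M) := by
  classical
  obtain ⟨Λ, _, k, f, hΛ, hfi, hff, -⟩ := CAlg1.exists_finite_injective R
  obtain ⟨_, hcA⟩ := regular_powerSeries_of_or hΛ k
  haveI := hcA
  let A := MvPowerSeries (Fin k) Λ
  haveI : IsDomain A := hfi.isDomain f
  haveI : IsIntegrallyClosed A := S9829.result A
  letI : Algebra A R := f.toAlgebra
  haveI : Module.Finite A R := hff
  haveI : Algebra.IsIntegral A R := Algebra.IsIntegral.of_finite A R
  haveI : Module.IsTorsionFree A R := Module.isTorsionFree_iff_algebraMap_injective.2 hfi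
  -- an element of `P` separating it from the other primes over the same prime
  set q := P.comap (algebraMap A R) with hq
  have hfin := (q.map (algebraMap A R)).finite_minimalPrimes_of_isNoetherianRing R
  obtain ⟨y, hy, hys⟩ : ∃ y ∈ P, ∀ Q ∈ hfin.toFinset.filter (fun Q => ¬ P ≤ Q), y ∉ Q := by
    by_contra hcon
    push Not at hcon
    set s := hfin.toFinset.filter (fun Q => ¬ P ≤ Q)
    have hsub : (P : Set R) ⊆ ⋃ Q ∈ (↑s : Set (Ideal R)), ((Q : Ideal R) : Set R) := fun a ha => by
      obtain ⟨Q, hQ, haQ⟩ := hcon a ha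
      exact Set.mem_biUnion hQ haQ
    obtain ⟨Q, hQ, hle⟩ := (Ideal.subset_union_prime (R := R) ⊥ ⊥ fun Q hQ _ _ =>
      (hfin.mem_toFinset.1 (Finset.mem_filter.1 hQ).1).1.1).1 hsub
    exact (Finset.mem_filter.1 hQ).2 hle
  have hint : IsIntegral A y := Algebra.IsIntegral.isIntegral y
  let Bs : Subalgebra A R := Algebra.adjoin A {y}
  haveI : IsNoetherian A R := isNoetherian_of_isNoetherianRing_of_finite A R
  haveI : Module.Finite A Bs := Module.Finite.of_injective Bs.val.toLinearMap Subtype.val_injective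
  haveI : Algebra.IsIntegral A Bs := Algebra.IsIntegral.of_finite A Bs
  haveI : IsNoetherianRing Bs := IsNoetherianRing.of_finite A Bs
  haveI : Module.Finite Bs R := Module.Finite.of_restrictScalars_finite A Bs R
  haveI : Algebra.IsIntegral Bs R := Algebra.IsIntegral.of_finite Bs R
  have hBi : Function.Injective (algebraMap Bs R) := Subtype.val_injective
  haveI : IsLocalRing Bs := by
    refine IsLocalRing.of_unique_max_ideal ⟨(maximalIdeal R).comap (algebraMap Bs R),
      Ideal.isMaximal_comap_of_isIntegral_of_isMaximal _, fun m hm => ?_⟩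
    obtain ⟨Q, -, hQ, hQc⟩ := Ideal.exists_ideal_over_prime_of_isIntegral (S := R) m ⊥
      (by rw [← RingHom.ker_eq_comap_bot, (RingHom.injective_iff_ker_eq_bot _).mp hBi]; exact bot_le)
    haveI := hQ
    haveI := hm
    have hQm : Q.IsMaximal := Ideal.isMaximal_of_isIntegral_of_isMaximal_comap Q (hQc.symm ▸ hm)
    rw [← hQc, IsLocalRing.eq_maximalIdeal hQm]
  haveI : IsAdicComplete (maximalIdeal Bs) Bs := EGA4H10.isAdicComplete_maximalIdeal_of_finite A Bs
  have hdimB : ringKrullDim Bs = n := by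
    rw [← hn, EGA4Alg4.ringKrullDim_eq_of_integral Bs R hBi]
  -- the hypersurface
  haveI : LocCoh.IsGorensteinLocalRing Bs := by
    set g := minpoly A y with hg
    have hgm : g.Monic := minpoly.monic hint
    let φ : Polynomial A →ₐ[A] Bs :=
      (Polynomial.aeval y).codRestrict Bs fun z => Polynomial.aeval_mem_adjoin_singleton A y
    have hφs : Function.Surjective φ := fun z => by
      have hz : (z : R) ∈ Algebra.adjoin A {y} := z.2
      rw [Algebra.adjoin_singleton_eq_range_aeval, AlgHom.mem_range] at hz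
      obtain ⟨w, hw⟩ := hz
      exact ⟨w, Subtype.ext hw⟩
    have hker : RingHom.ker φ.toRingHom = Ideal.span {g} := by
      rw [← minpoly.ker_eval hint]
      ext z
      simp only [RingHom.mem_ker]
      exact ⟨fun h => congrArg Subtype.val h, fun h => Subtype.ext h⟩
    let e : (Polynomial A ⧸ Ideal.span {g}) ≃+* Bs :=
      (Ideal.quotEquivOfEq hker.symm).trans (RingHom.quotientKerEquivOfSurjective hφs)
    haveI : IsLocalRing (Polynomial A ⧸ Ideal.span {g}) := e.symm.isLocalRing
    set Mx := (maximalIdeal (Polynomial A ⧸ Ideal.span {g})).comap (Ideal.Quotient.mk (Ideal.span {g}))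
    haveI : LocCoh.IsGorensteinLocalRing A := S0342.result A
    haveI : LocCoh.IsGorensteinRing A := Gor18.gorRing_of_gor A
    haveI : LocCoh.IsGorensteinRing (Polynomial A) := Gor18.gorRing_polynomial A
    haveI hgor : LocCoh.IsGorensteinLocalRing (Localization.AtPrime Mx) :=
      LocCoh.IsGorensteinRing.isGorensteinLocalRing_localization Mx
    have hreg : IsSMulRegular (Localization.AtPrime Mx)
        (algebraMap (Polynomial A) (Localization.AtPrime Mx) g) := by
      haveI : IsDomain (Localization.AtPrime Mx) :=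
        IsLocalization.isDomain_localization Mx.primeCompl_le_nonZeroDivisors
      refine IsSMulRegular.of_ne_zero ?_
      rw [ne_eq, ← map_zero (algebraMap (Polynomial A) (Localization.AtPrime Mx))]
      exact fun h => hgm.ne_zero
        (IsLocalization.injective _ Mx.primeCompl_le_nonZeroDivisors h)
    have h1 := (Gor18.gor_atPrime_quotient_iff (maximalIdeal (Polynomial A ⧸ Ideal.span {g})) hreg).2 hgor
    have h2 : Function.Bijective (algebraMap (Polynomial A ⧸ Ideal.span {g})
        (Localization.AtPrime (maximalIdeal (Polynomial A ⧸ Ideal.span {g})))) :=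
      (IsLocalization.atUnits _ (maximalIdeal (Polynomial A ⧸ Ideal.span {g})).primeCompl
        (fun z hz => not_not.1 fun hu => hz ((mem_maximalIdeal _).2 hu))).bijective
    haveI := h1
    haveI := Gor18.gor_of_ringEquiv (RingEquiv.ofBijective _ h2).symm
    exact Gor18.gor_of_ringEquiv e
  -- the prime downstairs
  set p := P.comap (algebraMap Bs R) with hpdef
  have hp1 : ringKrullDim (Bs ⧸ p) = 1 := by
    rw [← hP]
    exact (EGA4Alg4.ringKrullDim_eq_of_integral (Bs ⧸ p) (R ⧸ P)
      (Ideal.algebraMap_quotient_injective (I := P))).symm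
  have hvB : Subsingleton (LocCoh.H p n Bs) := subsingleton_H_top_gorenstein Bs n hdimB p hp1
  have hvBall : Subsingleton (LocCoh.H p n M) :=
    LC15.cdLT_of_support p hdimB.le Bs (fun Q _ _ => by
      rw [Module.mem_support_iff_exists_annihilator]
      exact ⟨1, by
        intro z hz
        rw [Submodule.mem_annihilator_span_singleton, smul_eq_mul, mul_one] at hz
        rw [hz]; exact zero_mem _⟩) hvB M n le_rfl
  obtain ⟨φ, -⟩ := LC16.ChangeRings.exists_equiv (R' := R) p n M
  haveI := hvBall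
  haveI : Subsingleton (LocCoh.H (p.map (algebraMap Bs R)) n M) := φ.toEquiv.subsingleton
  have hmapP : p.map (algebraMap Bs R) ≤ P := Ideal.map_comap_le
  have hPrad : P ≤ (p.map (algebraMap Bs R)).radical := by
    rw [Ideal.radical_eq_sInf]
    refine le_sInf fun Q hQ => ?_
    haveI := hQ.2
    by_contra hPQ
    have hqQ : q.map (algebraMap A R) ≤ Q := by
      refine le_trans ?_ hQ.1
      rw [Ideal.map_le_iff_le_comap]
      intro a ha
      show algebraMap A R a ∈ p.map (algebraMap Bs R)
      rw [IsScalarTower.algebraMap_apply A Bs R]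
      refine Ideal.mem_map_of_mem _ ?_
      rw [hpdef, Ideal.mem_comap, ← IsScalarTower.algebraMap_apply]
      exact ha
    obtain ⟨Q0, hQ0, hQ0Q⟩ := Ideal.exists_minimalPrimes_le hqQ
    haveI := hQ0.1.1
    by_cases hPQ0 : P ≤ Q0
    · exact hPQ (hPQ0.trans hQ0Q)
    refine hys Q0 (Finset.mem_filter.2 ⟨hfin.mem_toFinset.2 hQ0, hPQ0⟩) ?_
    -- `Q` lies over `p` up to a larger prime, so contains `y`; push down to `Q0`
    have hyQ : y ∈ Q := hQ.1 (by
      have : (⟨y, Algebra.subset_adjoin rfl⟩ : Bs) ∈ p := by rw [hpdef, Ideal.mem_comap]; exact hy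
      exact Ideal.mem_map_of_mem (algebraMap Bs R) this)
    by_cases hQeq : Q0 = Q
    · exact hQeq ▸ hyQ
    exfalso
    have hlt : Q0 < Q := lt_of_le_of_ne hQ0Q hQeq
    have hc0 : Q0.comap (algebraMap A R) < Q.comap (algebraMap A R) := Ideal.IsIntegral.comap_lt_comap hlt
    have hqc : q ≤ Q0.comap (algebraMap A R) := Ideal.map_le_iff_le_comap.1 hQ0.1.2
    -- `q` has coheight one
    have hq1 : ringKrullDim (A ⧸ q) = 1 := by
      rw [← hP]
      exact (EGA4Alg4.ringKrullDim_eq_of_integral (A ⧸ q) (R ⧸ P)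
        (Ideal.algebraMap_quotient_injective (I := P))).symm
    have h3 := ringKrullDim_quotient_add_one_le hc0
    have h4 : ringKrullDim (A ⧸ Q0.comap (algebraMap A R)) ≤ 1 :=
      hq1 ▸ ringKrullDim_quotient_anti hqc
    rcases eq_or_lt_of_le hqc with heq | hqlt
    · have hQm : Q.comap (algebraMap A R) = maximalIdeal A := by
        by_contra hne
        have h5 := (add_le_add_left (ringKrullDim_quotient_add_one_le
          (lt_of_le_of_ne (le_maximalIdeal (Ideal.IsPrime.ne_top inferInstance)) hne)) 1).trans (h3.trans h4)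
        rw [ringKrullDim_eq_zero_of_isField ((Ideal.Quotient.maximal_ideal_iff_isField_quotient _).1
          (maximalIdeal.isMaximal A))] at h5
        norm_num at h5
      haveI : (Q.comap (algebraMap A R)).IsMaximal := hQm ▸ maximalIdeal.isMaximal A
      have hQmax : Q = maximalIdeal R :=
        IsLocalRing.eq_maximalIdeal (Ideal.isMaximal_of_isIntegral_of_isMaximal_comap (R := A) Q inferInstance)
      exact hPQ (hQmax ▸ le_maximalIdeal (Ideal.IsPrime.ne_top ‹_›))
    · have h5 := (add_le_add_left (ringKrullDim_quotient_add_one_le hc0) 1).trans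
        ((ringKrullDim_quotient_add_one_le hqlt).trans hq1.le)
      obtain ⟨c, hc⟩ := exists_ringKrullDim_quotient_eq (I := Q.comap (algebraMap A R))
        (Ideal.IsPrime.ne_top inferInstance)
      rw [hc] at h5
      have : c + 1 + 1 ≤ 1 := by exact_mod_cast h5
      omega
  exact (Equiv.ofBijective _ (LC15.HofLE_bijective_radical hmapP n (M := M) hPrad)).subsingleton

/-- Hartshorne–Lichtenbaum vanishing for complete local domains. -/
theorem subsingleton_H_top_of_domain {R : Type u} [CommRing R] [IsDomain R] [IsNoetherianRing R]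
    [IsLocalRing R] [IsAdicComplete (maximalIdeal R) R] (n : ℕ) (hn : ringKrullDim R = n)
    (I : Ideal R) (h : 0 < ringKrullDim (R ⧸ I)) (M : Type u) [AddCommGroup M] [Module R M]
    (i : ℕ) (hi : n ≤ i) : Subsingleton (LocCoh.H I i M) := by
  obtain ⟨P, hP, hIP, hP1⟩ := exists_prime_dim_one h
  haveI := hP
  exact LC15.subsingleton_H_top_of_le I hn hIP
    ((le_maximalIdeal hP.ne_top).trans (maximalIdeal_le_jacobson _))
    (fun W _ _ => subsingleton_H_top_of_dim_one n hn P hP1 W) M i hi

end Groth.Agent.LC17
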