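import Groth.Agent.LC17.KDim

set_option autoImplicit false

universe u

open CategoryTheory CategoryTheory.Limits TensorProduct
open scoped Pointwise

namespace Groth.Agent.LC17

variable {A : Type u} [CommRing A]

lemma subsingleton_quot_one (M : Type u) [AddCommGroup M] [Module A M] :
    Subsingleton (QuotSMulTop (1 : A) M) :=
  Submodule.Quotient.subsingleton_iff.mpr (one_smul A (⊤ : Submodule A M))

lemma hlen_quot_pow_le (l : List A) (M : Type u) [AddCommGroup M] [Module A M] (f : A)
    (hreg : IsSMulRegular M f) (q : ℤ) : ∀ n : ℕ,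
    hlen l (QuotSMulTop (f ^ n) M) q ≤ (n : ℕ∞) * hlen l (QuotSMulTop f M) q
  | 0 => by
    rw [pow_zero]
    haveI := subsingleton_quot_one (A := A) M
    rw [hlen_subsingleton]
    simp
  | n + 1 => by
    have hle1 : f • (⊤ : Submodule A M) ≥ f ^ (n + 1) • (⊤ : Submodule A M) := fun x hx => by
      obtain ⟨y, -, rfl⟩ := (Submodule.mem_smul_pointwise_iff_exists _ _ _).mp hx
      exact (Submodule.mem_smul_pointwise_iff_exists _ _ _).mpr
        ⟨f ^ n • y, trivial, by rw [← mul_smul, ← pow_succ']⟩
    let a : QuotSMulTop (f ^ n) M →ₗ[A] QuotSMulTop (f ^ (n + 1)) M :=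
      Submodule.mapQ _ _ (LinearMap.lsmul A M f) fun x hx => by
        obtain ⟨y, -, rfl⟩ := (Submodule.mem_smul_pointwise_iff_exists _ _ _).mp hx
        exact (Submodule.mem_smul_pointwise_iff_exists _ _ _).mpr
          ⟨y, trivial, by rw [pow_succ', mul_smul]; rfl⟩
    let b : QuotSMulTop (f ^ (n + 1)) M →ₗ[A] QuotSMulTop f M := Submodule.factor hle1
    have ha : Function.Injective a := by
      rw [← LinearMap.ker_eq_bot, eq_bot_iff]
      intro x hx
      obtain ⟨x, rfl⟩ := Submodule.Quotient.mk_surjective _ x
      obtain ⟨y, -, hy⟩ := (Submodule.mem_smul_pointwise_iff_exists _ _ _).mp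
        ((Submodule.Quotient.mk_eq_zero _).mp hx)
      rw [pow_succ', mul_smul] at hy
      exact (Submodule.Quotient.mk_eq_zero _).mpr
        ((Submodule.mem_smul_pointwise_iff_exists _ _ _).mpr ⟨y, trivial, hreg hy⟩)
    have hab : Function.Exact a b := fun x => by
      obtain ⟨x, rfl⟩ := Submodule.Quotient.mk_surjective _ x
      constructor
      · intro hx
        obtain ⟨y, -, hy⟩ := (Submodule.mem_smul_pointwise_iff_exists _ _ _).mp
          ((Submodule.Quotient.mk_eq_zero _).mp hx)
        exact ⟨Submodule.Quotient.mk y, congrArg Submodule.Quotient.mk hy⟩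
      · rintro ⟨y, hy⟩
        obtain ⟨y, rfl⟩ := Submodule.Quotient.mk_surjective _ y
        rw [← hy]
        exact (Submodule.Quotient.mk_eq_zero _).mpr
          ((Submodule.mem_smul_pointwise_iff_exists _ _ _).mpr ⟨y, trivial, rfl⟩)
    refine (hlen_le_add l a b ha (Submodule.factor_surjective hle1) hab q).trans ?_
    rw [Nat.cast_succ, add_mul, one_mul]
    exact add_le_add_left (hlen_quot_pow_le l M f hreg q n) _

/-- length of the degree `q` term is bounded -/
lemma length_KM_X_le : ∀ (l : List A) (M : Type u) [AddCommGroup M] [Module A M] (q : ℤ),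
    Module.length A ((KM l M).X q : Type u) ≤ ((2 ^ l.length : ℕ) : ℕ∞) * Module.length A M
  | [], M, _, _, q => by
    by_cases hq : q = 0
    · subst hq
      rw [(tX (Koszul.koszul A []) (ModuleCat.of A M) 0).length_eq,
        ((Groth.Agent.Koszul19.nilZero (A := A)).rTensor M).length_eq, (TensorProduct.lid A M).length_eq]
      simp
    · haveI := subsingleton_KM_X ([] : List A) M q (by simp; omega)
      simp [Module.length_eq_zero]
  | f :: l, M, _, _, q => by
    have c := tensorData (Groth.Agent.Koszul19.consData f l) (ModuleCat.of A M)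
    rw [(c.e q (q + 1) rfl).length_eq, Module.length_prod]
    refine (add_le_add (length_KM_X_le l M (q + 1)) (length_KM_X_le l M q)).trans ?_
    rw [← add_mul, List.length_cons, pow_succ, Nat.mul_two, Nat.cast_add]

lemma hlen_le_X (l : List A) (M : Type u) [AddCommGroup M] [Module A M] (q : ℤ) :
    hlen l M q ≤ ((2 ^ l.length : ℕ) : ℕ∞) * Module.length A M := by
  refine le_trans ?_ (length_KM_X_le l M q)
  rw [hlen, length_homology (KM l M) (q - 1) q (q + 1) (by omega) rfl]
  exact (Module.length_le_of_surjective _ (Submodule.mkQ_surjective _)).trans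
    (Module.length_le_of_injective _ (Submodule.subtype_injective _))

variable [IsNoetherianRing A]

lemma exists_bound_aux : ∀ (n : ℕ) (l : List A), l.length = n → ∀ (M : Type u) [AddCommGroup M]
    [Module A M] [Module.Finite A M], Good l M → ∀ d : ℕ, Module.supportDim A M ≤ (d : WithBot ℕ∞) →
    ∃ c : ℕ, ∀ m : ℕ, 0 < m → ∀ i : ℕ,
      hlen (l.map (· ^ m)) M (-(i : ℤ)) ≤ ((c * m ^ min (n - i) d : ℕ) : ℕ∞) := by
  intro n
  induction n using Nat.strong_induction_on with
  | _ n IH =>
    intro l hl M _ _ hfin hG d hd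
    suffices H : ∀ (N : Type u) [AddCommGroup N] [Module A N] [Module.Finite A N],
        Module.support A N ⊆ Module.support A M → ∃ c : ℕ, ∀ m : ℕ, 0 < m → ∀ i : ℕ,
          hlen (l.map (· ^ m)) N (-(i : ℤ)) ≤ ((c * m ^ min (n - i) d : ℕ) : ℕ∞) from H M subset_rfl
    intro N _ _ hN
    induction hN using IsNoetherianRing.induction_on_isQuotientEquivQuotientPrime A with
    | subsingleton N => exact fun _ => ⟨0, fun m _ i => by rw [hlen_subsingleton]; simp⟩
    | quotient N p e =>
      intro hsub
      have hG' := hG.mono hsub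
      by_cases hall : ∃ f ∈ l, f ∉ p.asIdeal
      · obtain ⟨f, hfl, hf⟩ := hall
        classical
        have hperm := List.perm_cons_erase hfl
        set l' := l.erase f with hl'
        have hlen' : l'.length + 1 = n := by rw [← hl, hperm.length_eq, List.length_cons]
        have hreg := isSMulRegular_quotient e hf
        have hG'' : Good l' (QuotSMulTop f N) := (hG'.perm hperm).tail
        have hq : ∀ m : ℕ, 0 < m → ∀ i : ℕ, hlen (l.map (· ^ m)) N (-(i : ℤ)) ≤
            (m : ℕ∞) * hlen (l'.map (· ^ m)) (QuotSMulTop f N) (-(i : ℤ)) := fun m hm i => by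
          rw [hlen_perm (hperm.map _) N, List.map_cons, hlen_cons_regular _ (f ^ m) N (hreg.pow m)]
          exact hlen_quot_pow_le _ N f hreg _ m
        have key : ∀ e' : ℕ, Module.supportDim A (QuotSMulTop f N) ≤ (e' : WithBot ℕ∞) →
            e' + 1 = d → ∃ c : ℕ, ∀ m : ℕ, 0 < m → ∀ i : ℕ,
              hlen (l.map (· ^ m)) N (-(i : ℤ)) ≤ ((c * m ^ min (n - i) d : ℕ) : ℕ∞) := by
          intro e' he' hed
          obtain ⟨c, hc⟩ := IH l'.length (by omega) l' rfl _ hG'' e' he'
          refine ⟨c, fun m hm i => ?_⟩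
          by_cases hi : i ≤ l'.length
          · refine (hq m hm i).trans ((mul_le_mul_right (hc m hm i) _).trans ?_)
            rw [← Nat.cast_mul]
            refine Nat.cast_le.mpr ?_
            rw [show min (n - i) d = min (l'.length - i) e' + 1 by omega, pow_succ]
            exact le_of_eq (by ring)
          · refine (hq m hm i).trans ?_
            rw [hlen_eq_zero _ _ _ (Or.inr (by simp; omega))]
            simp
        rcases d with _ | e'
        · have : Module.supportDim A (QuotSMulTop f N) = ⊥ := by
            have h0 := (le_trans (Module.supportDim_quotSMulTop_succ_le_of_notMem_minimalPrimes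
              (fun _ => hreg.notMem_of_mem_minimalPrimes)) ((supportDim_mono hsub).trans hd))
            cases hs : Module.supportDim A (QuotSMulTop f N) with
            | bot => rfl
            | coe a =>
              rw [hs] at h0
              have h4 : a + 1 ≤ (0 : ℕ∞) := WithBot.coe_le_coe.mp h0
              exact absurd h4 (not_le.mpr (lt_of_lt_of_le zero_lt_one le_add_self))
          haveI := (Module.supportDim_eq_bot_iff_subsingleton A _).mp this
          refine ⟨0, fun m hm i => (hq m hm i).trans ?_⟩
          rw [hlen_subsingleton]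
          simp
        · exact key e' (dim_quot_lt hreg ((supportDim_mono hsub).trans hd)) rfl
      · push Not at hall
        have hfl : Module.length A N ≠ ⊤ := length_ne_top_of_support fun q hq => by
          refine hG' q hq ?_
          rw [Ideal.ofList, Ideal.span_le]
          intro a ha
          exact Module.mem_support_iff_of_finite.mp hq
            (Module.mem_annihilator.mpr (smul_eq_zero_of_mem e (hall a ha)))
        obtain ⟨L, hL⟩ := ENat.ne_top_iff_exists.mp hfl
        refine ⟨2 ^ n * L, fun m hm i => (hlen_le_X _ N _).trans ?_⟩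
        rw [List.length_map, hl, ← hL, ← Nat.cast_mul]
        exact Nat.cast_le.mpr (Nat.le_mul_of_pos_right _ (Nat.pow_pos hm))
    | exact N₁ N₂ N₃ a b ha hb hab ih₁ ih₃ =>
      intro hsub
      have hs := Module.support_of_exact hab ha hb
      obtain ⟨c₁, h₁⟩ := ih₁ fun p hp => hsub (hs ▸ Or.inl hp)
      obtain ⟨c₃, h₃⟩ := ih₃ fun p hp => hsub (hs ▸ Or.inr hp)
      refine ⟨c₁ + c₃, fun m hm i => (hlen_le_add _ a b ha hb hab _).trans ?_⟩
      refine (add_le_add (h₁ m hm i) (h₃ m hm i)).trans ?_
      rw [← Nat.cast_add, add_mul]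

lemma exists_supportDim_le_nat [IsLocalRing A] (M : Type u) [AddCommGroup M] [Module A M]
    (k : ℕ) : ∃ d : ℕ, k ≤ d ∧ Module.supportDim A M ≤ (d : WithBot ℕ∞) := by
  obtain ⟨D, hD⟩ : ∃ D : ℕ, ringKrullDim A = (D : WithBot ℕ∞) := by
    rw [← IsLocalRing.maximalIdeal_height_eq_ringKrullDim]
    obtain ⟨D, hD⟩ := ENat.ne_top_iff_exists.mp
      ((IsLocalRing.maximalIdeal A).height_ne_top Ideal.IsPrime.ne_top')
    exact ⟨D, by rw [← hD]; rfl⟩
  refine ⟨max k D, le_max_left _ _, (Module.supportDim_le_ringKrullDim A M).trans ?_⟩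
  rw [hD]
  exact_mod_cast le_max_right k D

end Groth.Agent.LC17
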