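import Groth.Agent.LC17.KLES
import Mathlib.Data.Int.Interval
import Mathlib.Algebra.Ring.NegOnePow

set_option autoImplicit false

universe u

open CategoryTheory CategoryTheory.Limits
open Groth.Agent.Koszul19
open scoped Pointwise

namespace Groth.Agent.LC17

variable {A : Type u} [CommRing A]

/-- the sign -/
abbrev sgn (q : ℤ) : ℤ := ((q.negOnePow : ℤˣ) : ℤ)

lemma sgn_succ (q : ℤ) : sgn (q + 1) = - sgn q := by rw [sgn, sgn, Int.negOnePow_succ, Units.val_neg]

lemma sgn_pred (q : ℤ) : sgn (q - 1) = - sgn q := by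
  have := sgn_succ (q - 1)
  rw [sub_add_cancel] at this
  rw [this, neg_neg]

/-- Koszul Euler characteristic -/
noncomputable def chi (l : List A) (M : Type u) [AddCommGroup M] [Module A M] : ℤ :=
  ∑ᶠ q : ℤ, sgn q * lenZ A ((KM l M).homology q)

lemma sum_shift {G : ℤ → ℤ} {a b : ℤ} (hG : ∀ q, q ≤ a + 1 ∨ b ≤ q → G q = 0) :
    ∑ q ∈ Finset.Icc a b, G (q + 1) = ∑ q ∈ Finset.Icc a b, G q := by
  rw [← finsum_eq_sum_of_support_subset (fun q => G (q + 1)) (s := Finset.Icc a b) ?_,
    ← finsum_eq_sum_of_support_subset G (s := Finset.Icc a b) ?_]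
  · exact finsum_comp_equiv (Equiv.addRight 1) (f := G)
  · intro q hq
    rw [Finset.coe_Icc, Set.mem_Icc]
    by_contra hc
    exact hq (hG q (by omega))
  · intro q hq
    rw [Finset.coe_Icc, Set.mem_Icc]
    by_contra hc
    exact hq (hG (q + 1) (by omega))

lemma chi_eq_sum (l : List A) (M : Type u) [AddCommGroup M] [Module A M] (a b : ℤ)
    (ha : a ≤ -(l.length : ℤ)) (hb : 0 ≤ b) :
    chi l M = ∑ q ∈ Finset.Icc a b, sgn q * lenZ A ((KM l M).homology q) := by
  refine finsum_eq_sum_of_support_subset _ fun q hq => ?_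
  rw [Finset.coe_Icc, Set.mem_Icc]
  by_contra hc
  refine hq ?_
  show sgn q * lenZ A ((KM l M).homology q) = 0
  have : hlen l M q = 0 := hlen_eq_zero l M q (by omega)
  rw [hlen] at this
  simp [lenZ, this]

lemma chi_perm {l l' : List A} (h : l.Perm l') (M : Type u) [AddCommGroup M] [Module A M] :
    chi l M = chi l' M :=
  finsum_congr fun q => by
    rw [lenZ, lenZ, show Module.length A ((KM l M).homology q) = _ from hlen_perm h M q]

lemma chi_congr (l : List A) {M N : Type u} [AddCommGroup M] [Module A M] [AddCommGroup N]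
    [Module A N] (e : M ≃ₗ[A] N) : chi l M = chi l N :=
  finsum_congr fun q => by
    rw [lenZ, lenZ, show Module.length A ((KM l M).homology q) = _ from hlen_eq_of_linearEquiv l e q]

lemma chi_subsingleton (l : List A) (M : Type u) [AddCommGroup M] [Module A M] [Subsingleton M] :
    chi l M = 0 := by
  refine (finsum_congr fun q => ?_).trans finsum_zero
  rw [lenZ, show Module.length A ((KM l M).homology q) = _ from hlen_subsingleton l q]
  simp

lemma chi_nil (M : Type u) [AddCommGroup M] [Module A M] : chi ([] : List A) M = lenZ A M := by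
  rw [chi_eq_sum [] M 0 0 (by simp) le_rfl, Finset.Icc_self, Finset.sum_singleton, lenZ,
    show Module.length A ((KM ([] : List A) M).homology 0) = _ from hlen_nil M]
  simp [sgn, lenZ]

lemma chi_cons_regular (r : A) (l : List A) (M : Type u) [AddCommGroup M] [Module A M]
    (hr : IsSMulRegular M r) : chi (r :: l) M = chi l (QuotSMulTop r M) :=
  finsum_congr fun q => by
    rw [lenZ, lenZ, show Module.length A ((KM (r :: l) M).homology q) = _ from hlen_cons_regular l r M hr q]

section Noetherian

variable [IsNoetherianRing A]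
variable {M : Type u} [AddCommGroup M] [Module A M] [Module.Finite A M]

lemma finite_homology_KM (l : List A) (q : ℤ) : Module.Finite A ((KM l M).homology q) := by
  haveI := finite_hc l M (q - 1) q (q + 1)
  exact Module.Finite.equiv (homologyIsoHc (KM l M) (q - 1) q (q + 1) (by omega) rfl).toLinearEquiv.symm

lemma length_ne_top_cok' {f : A} {l : List A} (h : Good (f :: l) M) (q : ℤ) :
    Module.length A (Cok f ((KM l M).homology q)) ≠ ⊤ := by
  haveI := finite_homology_KM (M := M) l q
  have e := (homologyIsoHc (KM l M) (q - 1) q (q + 1) (by omega) rfl).toLinearEquiv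
  exact length_ne_top_hc h (q - 1) q (q + 1) (by omega) rfl
    (e.annihilator_eq ▸ LinearMap.annihilator_le_of_surjective _ (Submodule.mkQ_surjective _))
    (Module.mem_annihilator.mpr fun x => by
      obtain ⟨x, rfl⟩ := Submodule.Quotient.mk_surjective _ x
      exact (Submodule.Quotient.mk_eq_zero _).mpr ⟨x, rfl⟩)

lemma length_ne_top_ker' {f : A} {l : List A} (h : Good (f :: l) M) (q : ℤ) :
    Module.length A (Ker f ((KM l M).homology q)) ≠ ⊤ := by
  haveI := finite_homology_KM (M := M) l q
  have e := (homologyIsoHc (KM l M) (q - 1) q (q + 1) (by omega) rfl).toLinearEquiv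
  exact length_ne_top_hc h (q - 1) q (q + 1) (by omega) rfl
    (e.annihilator_eq ▸ LinearMap.annihilator_le_of_injective _ (Submodule.subtype_injective _))
    (Module.mem_annihilator.mpr fun x => Subtype.ext x.2)

lemma hlen_ne_top {l : List A} (h : Good l M) (q : ℤ) : hlen l M q ≠ ⊤ := by
  match l, h with
  | [], h =>
    by_cases hq : q = 0
    · subst hq
      rw [hlen_nil]
      exact length_ne_top_of_support fun p hp => h p hp (by simp)
    · rw [hlen_eq_zero [] M q (by simp; omega)]
      simp
  | f :: l, h =>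
    rw [five_cone_hlen l f M q (q + 1) rfl]
    exact WithTop.add_ne_top.mpr ⟨length_ne_top_cok' h q, length_ne_top_ker' h (q + 1)⟩

lemma chi_cons {f : A} {l : List A} (h : Good (f :: l) M) :
    chi (f :: l) M =
      ∑ q ∈ Finset.Icc (-(l.length : ℤ) - 2) 1, sgn q * eTwo f ((KM l M).homology q) := by
  rw [chi_eq_sum (f :: l) M (-(l.length : ℤ) - 2) 1 (by simp; omega) zero_le_one]
  have h0 : ∀ q : ℤ, sgn q * lenZ A ((KM (f :: l) M).homology q) =
      sgn q * lenZ A (Cok f ((KM l M).homology q)) -
        sgn (q + 1) * lenZ A (Ker f ((KM l M).homology (q + 1))) := fun q => by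
    rw [lenZ_eq_add (five_cone_hlen l f M q (q + 1) rfl) (hlen_ne_top h q), sgn_succ]
    unfold lenZ
    ring
  simp only [h0, eTwo, mul_sub, Finset.sum_sub_distrib]
  rw [sum_shift (G := fun q => sgn q * lenZ A (Ker f ((KM l M).homology q)))]
  intro q hq
  have : hlen l M q = 0 := hlen_eq_zero l M q (by omega)
  haveI := Module.length_eq_zero_iff.mp this
  simp [lenZ, Module.length_eq_zero]

lemma chi_mul {f g : A} {l : List A} (hf : Good (f :: l) M) (hg : Good (g :: l) M) :
    chi (f * g :: l) M = chi (f :: l) M + chi (g :: l) M := by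
  have hfg : Good (f * g :: l) M := fun p hp hl => by
    rw [Ideal.ofList_cons, sup_le_iff, Ideal.span_singleton_le_iff_mem] at hl
    rcases p.2.mem_or_mem hl.1 with h | h
    · exact hf p hp (by
        rw [Ideal.ofList_cons, sup_le_iff, Ideal.span_singleton_le_iff_mem]; exact ⟨h, hl.2⟩)
    · exact hg p hp (by
        rw [Ideal.ofList_cons, sup_le_iff, Ideal.span_singleton_le_iff_mem]; exact ⟨h, hl.2⟩)
  rw [chi_cons hf, chi_cons hg, chi_cons hfg, ← Finset.sum_add_distrib]
  refine Finset.sum_congr rfl fun q _ => ?_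
  rw [eTwo_mul (length_ne_top_cok' hf q) (length_ne_top_cok' hg q) (length_ne_top_ker' hf q)
    (length_ne_top_ker' hg q), mul_add]

lemma chi_one_cons (l : List A) : chi ((1 : A) :: l) M = 0 := by
  have h : Good ((1 : A) :: l) M := fun p _ hl => by
    rw [Ideal.ofList_cons, sup_le_iff, Ideal.span_singleton_le_iff_mem] at hl
    exact absurd (p.asIdeal.eq_top_iff_one.mpr hl.1) p.2.ne_top
  rw [chi_cons h]
  simp [eTwo_one]

lemma chi_cons_smul_zero {f : A} {l : List A} (h : Good (f :: l) M) (hf : ∀ m : M, f • m = 0) :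
    chi (f :: l) M = 0 := by
  rw [chi_cons h]
  refine Finset.sum_eq_zero fun q _ => ?_
  rw [eTwo_zero_of_smul, mul_zero]
  intro x
  apply (homologyIsoHc (KM l M) (q - 1) q (q + 1) (by omega) rfl).toLinearEquiv.injective
  rw [map_smul, map_zero]
  exact smul_hc_annihilator l M hf _ _ _ _

lemma chi_pow {f : A} {l : List A} (h : Good (f :: l) M) : ∀ m : ℕ,
    chi (f ^ m :: l) M = m * chi (f :: l) M
  | 0 => by rw [pow_zero, chi_one_cons]; simp
  | m + 1 => by
    have hm : Good (f ^ m :: l) M := h.of_le fun p hp => by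
      rw [Ideal.ofList_cons, sup_le_iff, Ideal.span_singleton_le_iff_mem] at hp ⊢
      exact ⟨p.2.mem_of_pow_mem m hp.1, hp.2⟩
    rw [pow_succ, chi_mul hm h, chi_pow h m]
    push_cast
    ring

lemma chi_exact {N₁ N₂ N₃ : Type u} [AddCommGroup N₁] [Module A N₁] [Module.Finite A N₁]
    [AddCommGroup N₂] [Module A N₂] [Module.Finite A N₂]
    [AddCommGroup N₃] [Module A N₃] [Module.Finite A N₃] (l : List A)
    (f : N₁ →ₗ[A] N₂) (g : N₂ →ₗ[A] N₃) (hf : Function.Injective f) (hg : Function.Surjective g)
    (h : Function.Exact f g) (hG : Good l N₂) : chi l N₂ = chi l N₁ + chi l N₃ := by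
  have hsupp := Module.support_of_exact h hf hg
  have hG1 : Good l N₁ := hG.mono (hsupp ▸ Set.subset_union_left)
  have hG3 : Good l N₃ := hG.mono (hsupp ▸ Set.subset_union_right)
  set a : ℤ → ℤ := fun q => lenZ A (LinearMap.range (hmap l f q)) with ha
  set b : ℤ → ℤ := fun q => lenZ A (LinearMap.range (hmap l g q)) with hb
  set K : ℤ → ℤ := fun q => lenZ A (LinearMap.ker (hmap l f q)) with hK
  have e1 : ∀ q, lenZ A ((KM l N₁).homology q) = K q + a q := fun q =>
    lenZ_eq_add (length_ker_add_range (hmap l f q)) (hlen_ne_top hG1 q)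
  have e2 : ∀ q, lenZ A ((KM l N₂).homology q) = a q + b q := fun q => by
    have := lenZ_eq_add (length_ker_add_range (hmap l g q)) (hlen_ne_top hG q)
    rw [(exact_map_map l f g hf hg h q).linearMap_ker_eq] at this
    exact this
  have e3 : ∀ q, lenZ A ((KM l N₃).homology q) = b q + K (q + 1) := fun q => by
    have := lenZ_eq_add (length_ker_add_range (hdelta l f g hf hg h q (q + 1) rfl)) (hlen_ne_top hG3 q)
    rw [(exact_map_delta l f g hf hg h q (q + 1) rfl).linearMap_ker_eq,
      ← (exact_delta_map l f g hf hg h q (q + 1) rfl).linearMap_ker_eq] at this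
    exact this
  have hd1 : -(l.length : ℤ) - 2 ≤ -(l.length : ℤ) := by omega
  rw [chi_eq_sum l N₁ _ 1 hd1 zero_le_one, chi_eq_sum l N₂ _ 1 hd1 zero_le_one,
    chi_eq_sum l N₃ _ 1 hd1 zero_le_one]
  simp only [e1, e2, e3, mul_add, Finset.sum_add_distrib]
  have hs : ∑ q ∈ Finset.Icc (-(l.length : ℤ) - 2) 1, sgn q * K (q + 1) =
      - ∑ q ∈ Finset.Icc (-(l.length : ℤ) - 2) 1, sgn q * K q := by
    rw [← sum_shift (G := fun q => sgn q * K q) (a := -(l.length : ℤ) - 2) (b := 1),
      ← Finset.sum_neg_distrib]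
    · refine Finset.sum_congr rfl fun q _ => ?_
      rw [sgn_succ]; ring
    · intro q hq
      have : hlen l N₁ q = 0 := hlen_eq_zero l N₁ q (by omega)
      haveI := Module.length_eq_zero_iff.mp this
      simp [hK, lenZ, Module.length_eq_zero]
  rw [hs]
  ring

end Noetherian

end Groth.Agent.LC17
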