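import Groth.Prelude.Def_Wider

set_option autoImplicit false

universe u v w

open CategoryTheory CategoryTheory.Limits Opposite

namespace Groth.Agent.LC17

lemma homologyMap_of_natEndo {E : Type v} [Category.{w} E] [Abelian E] (η : 𝟭 E ⟶ 𝟭 E)
    (S : ShortComplex E) (φ : S ⟶ S) (h₂ : φ.τ₂ = η.app S.X₂) :
    ShortComplex.homologyMap φ = η.app S.homology := by
  have hc : ShortComplex.cyclesMap φ = η.app S.cycles := by
    rw [← cancel_mono S.iCycles, ShortComplex.cyclesMap_i, h₂]
    exact η.naturality S.iCycles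
  rw [← cancel_epi S.homologyπ, ShortComplex.homologyπ_naturality, hc]
  exact (η.naturality S.homologyπ).symm

variable {R : Type u} [CommRing R]

noncomputable def smulEndo (r : R) : 𝟭 (ModuleCat.{u} R) ⟶ 𝟭 (ModuleCat.{u} R) where
  app Z := r • 𝟙 Z
  naturality X Y f := by simp

noncomputable def smulEndoOp (r : R) : 𝟭 (ModuleCat.{u} R)ᵒᵖ ⟶ 𝟭 (ModuleCat.{u} R)ᵒᵖ where
  app Z := (r • 𝟙 Z.unop).op
  naturality X Y f := by
    apply Quiver.Hom.unop_inj
    simp

lemma smulEndoOp_app (r : R) (Z : (ModuleCat.{u} R)ᵒᵖ) :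
    (smulEndoOp r).app Z = (r • 𝟙 Z.unop).op := rfl

lemma leftDerived_natEndo {C : Type v} [Category.{w} C] [Abelian C] [EnoughProjectives C]
    {D : Type*} [Category D] [Abelian D] (η : 𝟭 D ⟶ 𝟭 D) {F : C ⥤ D} [F.Additive] (α : F ⟶ F)
    (hα : ∀ X, α.app X = η.app (F.obj X)) (n : ℕ) (Z : C) :
    (NatTrans.leftDerived α n).app Z = η.app ((F.leftDerived n).obj Z) := by
  have P := projectiveResolution Z
  rw [P.leftDerived_app_eq α n, HomologicalComplex.homologyFunctor_map]
  have : HomologicalComplex.homologyMap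
      ((NatTrans.mapHomologicalComplex α (ComplexShape.down ℕ)).app P.complex) n =
      η.app _ := by
    apply homologyMap_of_natEndo η
    exact hα _
  erw [this]
  erw [← η.naturality (P.isoLeftDerivedObj F n).inv]
  simp

lemma leftDerived_map_natEndo {C : Type v} [Category.{w} C] [Abelian C] [EnoughProjectives C]
    {D : Type*} [Category D] [Abelian D] (ζ : 𝟭 C ⟶ 𝟭 C) (η : 𝟭 D ⟶ 𝟭 D)
    {F : C ⥤ D} [F.Additive] (hF : ∀ X, F.map (ζ.app X) = η.app (F.obj X)) (n : ℕ) (Z : C) :
    (F.leftDerived n).map (ζ.app Z) = η.app ((F.leftDerived n).obj Z) := by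
  have P := projectiveResolution Z
  let φ : P.complex ⟶ P.complex :=
    { f := fun i => ζ.app _
      comm' := fun i j _ => (ζ.naturality _).symm }
  have comm : φ.f 0 ≫ P.π.f 0 = P.π.f 0 ≫ ζ.app Z := (ζ.naturality (P.π.f 0)).symm
  have h := ProjectiveResolution.isoLeftDerivedObj_hom_naturality (ζ.app Z) P P φ comm F n
  rw [← cancel_mono (P.isoLeftDerivedObj F n).hom, h]
  have : (HomologicalComplex.homologyFunctor D _ n).map ((F.mapHomologicalComplex _).map φ) =
      η.app _ := by
    apply homologyMap_of_natEndo η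
    exact hF _
  erw [this]
  exact η.naturality _

lemma ext_map_smul (n : ℕ) (Z Y : ModuleCat.{u} R) (r : R) :
    ((Ext R (ModuleCat.{u} R) n).obj (op Z)).map (r • 𝟙 Y) = r • 𝟙 _ := by
  have key := leftDerived_natEndo (smulEndoOp r)
    (F := ((linearYoneda R (ModuleCat.{u} R)).obj Y).rightOp)
    (((linearYoneda R (ModuleCat.{u} R)).map (r • 𝟙 Y)).rightOp)
    (fun X => by
      apply Quiver.Hom.unop_inj
      ext g
      exact (Linear.comp_smul (R := R) X Y Y g r (𝟙 Y)).trans
        (congrArg (r • ·) (Category.comp_id (obj := ModuleCat.{u} R) (X := X) (Y := Y) g))) n Z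
  exact congrArg Quiver.Hom.unop key

lemma ext_map_op_smul (n : ℕ) (Z Y : ModuleCat.{u} R) (r : R) :
    ((Ext R (ModuleCat.{u} R) n).map (r • 𝟙 Z).op).app Y = r • 𝟙 _ := by
  have key := leftDerived_map_natEndo (smulEndo r) (smulEndoOp r)
    (F := ((linearYoneda R (ModuleCat.{u} R)).obj Y).rightOp)
    (fun X => by
      apply Quiver.Hom.unop_inj
      ext g
      exact (Linear.smul_comp (R := R) X X Y r (𝟙 X) g).trans
        (congrArg (r • ·) (Category.id_comp (obj := ModuleCat.{u} R) (X := X) (Y := Y) g))) n Z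
  exact congrArg Quiver.Hom.unop key

lemma localCohomology_map_smul (I : Ideal R) (i : ℕ) (M : ModuleCat.{u} R) (r : R) :
    (localCohomology I i).map (r • 𝟙 M) = r • 𝟙 _ := by
  refine colimit_obj_ext (fun j => ?_)
  refine (NatTrans.naturality _ _).symm.trans ?_
  erw [ext_map_smul]
  exact (Linear.smul_comp _ _ _ _ _ _).trans (((congrArg (r • ·) (Category.id_comp _))).trans
    (((congrArg (r • ·) (Category.comp_id _))).symm.trans (Linear.comp_smul _ _ _ _ _ _).symm))

lemma localCohomology_smul_eq_zero (I : Ideal R) (i : ℕ) (M : Type u) [AddCommGroup M]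
    [Module R M] (r : R) (hr : ∀ m : M, r • m = 0) (x : LocCoh.H I i M) : r • x = 0 := by
  have h0 : r • 𝟙 (ModuleCat.of R M) = (0 : R) • 𝟙 (ModuleCat.of R M) := by
    ext m
    simp [hr]
  have h1 := congrArg (fun f => (localCohomology I i).map f) h0
  rw [localCohomology_map_smul, localCohomology_map_smul] at h1
  have h2 := congrArg (fun f => f.hom x) h1
  simpa using h2

lemma ext_quotient_smul_eq_zero (J : Ideal R) (n : ℕ) (Y : ModuleCat.{u} R) (r : R) (hr : r ∈ J)
    (x : ((Ext R (ModuleCat.{u} R) n).obj (op (ModuleCat.of R (R ⧸ J)))).obj Y) : r • x = 0 := by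
  have h0 : r • 𝟙 (ModuleCat.of R (R ⧸ J)) = (0 : R) • 𝟙 (ModuleCat.of R (R ⧸ J)) := by
    ext
    simp [Algebra.smul_def, Ideal.Quotient.eq_zero_iff_mem.mpr hr]
  have h1 := congrArg (fun f => ((Ext R (ModuleCat.{u} R) n).map f.op).app Y) h0
  rw [ext_map_op_smul, ext_map_op_smul] at h1
  have h2 := congrArg (fun f => f.hom x) h1
  simpa using h2

lemma isPowerTorsion_H (I : Ideal R) (i : ℕ) (M : Type u) [AddCommGroup M] [Module R M] :
    LocCoh.IsPowerTorsion I (LocCoh.H I i M) := by
  intro x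
  let T : Submodule R (LocCoh.H I i M) :=
    { carrier := {y | ∃ n : ℕ, ∀ a ∈ I ^ n, a • y = 0}
      zero_mem' := ⟨0, by simp⟩
      add_mem' := by
        rintro y z ⟨n, hn⟩ ⟨m, hm⟩
        exact ⟨max n m, fun a ha => by
          rw [smul_add, hn a (Ideal.pow_le_pow_right (le_max_left _ _) ha),
            hm a (Ideal.pow_le_pow_right (le_max_right _ _) ha), add_zero]⟩
      smul_mem' := by
        rintro c y ⟨n, hn⟩
        exact ⟨n, fun a ha => by rw [smul_comm, hn a ha, smul_zero]⟩ }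
  suffices h : ModuleCat.ofHom T.mkQ = 0 by
    have h2 := congrArg (fun f => f.hom x) h
    have h3 : x ∈ T := (Submodule.Quotient.mk_eq_zero T).mp (by simpa using h2)
    exact h3
  let K : ℕᵒᵖᵒᵖ ⥤ ModuleCat.{u} R ⥤ ModuleCat.{u} R :=
    localCohomology.diagram (localCohomology.idealPowersDiagram I) i
  refine colimit_obj_ext (fun j => ?_)
  ext y
  have : (colimit.ι K j).app (ModuleCat.of R M) y ∈ T :=
    ⟨j.unop.unop, fun a ha => (((colimit.ι K j).app (ModuleCat.of R M)).hom.map_smul a y).symm.trans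
      ((congrArg _ (ext_quotient_smul_eq_zero (I ^ j.unop.unop) i (ModuleCat.of R M) a ha y)).trans
        (map_zero _))⟩
  exact (Submodule.Quotient.mk_eq_zero T).mpr this

end Groth.Agent.LC17
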