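import Groth.Agent.LC17.KCx
import Mathlib.Algebra.Homology.HomologySequence
import Mathlib.Algebra.Homology.HomologicalComplexAbelian
import Mathlib.RingTheory.Flat.Basic
import Mathlib.LinearAlgebra.TensorProduct.RightExactness
import Groth.Agent.LC17.Linearity

set_option autoImplicit false

universe u

open CategoryTheory CategoryTheory.Limits TensorProduct MonoidalCategory
open Groth.Agent.Koszul19
open scoped Pointwise

namespace Groth.Agent.LC17

variable {A : Type u} [CommRing A]
variable {M N Q : Type u} [AddCommGroup M] [Module A M] [AddCommGroup N] [Module A N]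
  [AddCommGroup Q] [Module A Q]

/-- functoriality in the module -/
noncomputable def KMmap (l : List A) (g : M →ₗ[A] N) : KM l M ⟶ KM l N :=
  (NatTrans.mapHomologicalComplex ((curriedTensor (ModuleCat.{u} A)).flip.map (ModuleCat.ofHom g))
    (ComplexShape.up ℤ)).app (Koszul.koszul A l)

lemma KMmap_f (l : List A) (g : M →ₗ[A] N) (q : ℤ) (x : (KM l M).X q) :
    tX (Koszul.koszul A l) (ModuleCat.of A N) q ((KMmap l g).f q x) =
      g.lTensor _ (tX (Koszul.koszul A l) (ModuleCat.of A M) q x) := rfl

variable (l : List A) (f : M →ₗ[A] N) (g : N →ₗ[A] Q)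

/-- the sequence of complexes -/
noncomputable def kSeq (h : g ∘ₗ f = 0) : ShortComplex (DRing.Cx A) :=
  ShortComplex.mk (KMmap l f) (KMmap l g) (by
    apply HomologicalComplex.hom_ext
    intro q
    ext x
    apply (tX (Koszul.koszul A l) (ModuleCat.of A Q) q).injective
    show tX (Koszul.koszul A l) (ModuleCat.of A Q) q ((KMmap l g).f q ((KMmap l f).f q x)) = _
    rw [KMmap_f, KMmap_f, ← LinearMap.comp_apply, ← LinearMap.lTensor_comp, h, LinearMap.lTensor_zero]
    simp)

lemma kSeq_shortExact (hf : Function.Injective f) (hg : Function.Surjective g)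
    (h : Function.Exact f g) : (kSeq l f g h.linearMap_comp_eq_zero).ShortExact := by
  refine HomologicalComplex.shortExact_of_degreewise_shortExact _ fun q => ?_
  haveI := (finite_free_X l q).2
  refine { exact := ?_, mono_f := ?_, epi_g := ?_ }
  · rw [ShortComplex.ShortExact.moduleCat_exact_iff_function_exact]
    exact lTensor_exact _ h hg
  · rw [ModuleCat.mono_iff_injective]
    exact Module.Flat.lTensor_preserves_injective_linearMap f hf
  · rw [ModuleCat.epi_iff_surjective]
    exact LinearMap.lTensor_surjective _ hg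

/-- the map on homology -/
noncomputable abbrev hmap (g : M →ₗ[A] N) (q : ℤ) :
    (KM l M).homology q →ₗ[A] (KM l N).homology q :=
  (HomologicalComplex.homologyMap (KMmap l g) q).hom

variable (hf : Function.Injective f) (hg : Function.Surjective g) (h : Function.Exact f g)

/-- the connecting map -/
noncomputable def hdelta (i j : ℤ) (hij : i + 1 = j) :
    (KM l Q).homology i →ₗ[A] (KM l M).homology j :=
  ((kSeq_shortExact l f g hf hg h).δ i j hij).hom

include hf hg h in
lemma exact_map_map (q : ℤ) : Function.Exact (hmap l f q) (hmap l g q) :=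
  (ShortComplex.ShortExact.moduleCat_exact_iff_function_exact _).mp
    ((kSeq_shortExact l f g hf hg h).homology_exact₂ q)

lemma exact_map_delta (i j : ℤ) (hij : i + 1 = j) :
    Function.Exact (hmap l g i) (hdelta l f g hf hg h i j hij) :=
  (ShortComplex.ShortExact.moduleCat_exact_iff_function_exact _).mp
    ((kSeq_shortExact l f g hf hg h).homology_exact₃ i j hij)

lemma exact_delta_map (i j : ℤ) (hij : i + 1 = j) :
    Function.Exact (hdelta l f g hf hg h i j hij) (hmap l f j) :=
  (ShortComplex.ShortExact.moduleCat_exact_iff_function_exact _).mp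
    ((kSeq_shortExact l f g hf hg h).homology_exact₁ i j hij)

include hf hg h in
lemma hlen_le_add (q : ℤ) : hlen l N q ≤ hlen l M q + hlen l Q q := by
  rw [hlen, length_ker_add_range (hmap l g q), (exact_map_map l f g hf hg h q).linearMap_ker_eq]
  exact add_le_add (Module.length_le_of_surjective _ (hmap l f q).surjective_rangeRestrict)
    (Module.length_le_of_injective _ (Submodule.subtype_injective _))

lemma hmap_smul (r : A) (q : ℤ) :
    hmap l (LinearMap.lsmul A M r) q = LinearMap.lsmul A ((KM l M).homology q) r := by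
  have := homologyMap_of_natEndo (smulEndo r) ((KM l M).sc q)
    ((HomologicalComplex.shortComplexFunctor _ _ q).map (KMmap l (LinearMap.lsmul A M r))) (by
      show (KMmap l (LinearMap.lsmul A M r)).f q = r • 𝟙 ((KM l M).X q)
      ext x
      apply (tX (Koszul.koszul A l) (ModuleCat.of A M) q).injective
      rw [KMmap_f]
      show _ = tX (Koszul.koszul A l) (ModuleCat.of A M) q (r • x)
      rw [map_smul]
      generalize tX (Koszul.koszul A l) (ModuleCat.of A M) q x = t
      induction t using TensorProduct.induction_on with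
      | zero => simp
      | tmul a m => rw [LinearMap.lTensor_tmul, LinearMap.lsmul_apply, TensorProduct.tmul_smul]
      | add a b ha hb => rw [map_add, ha, hb, smul_add])
  exact congrArg ModuleCat.Hom.hom this

lemma five_quot (r : A) (hr : IsSMulRegular M r) (q s : ℤ) (hqs : q + 1 = s) :
    hlen l (QuotSMulTop r M) q =
      Module.length A (Cok r ((KM l M).homology q)) + Module.length A (Ker r ((KM l M).homology s)) := by
  let π : M →ₗ[A] QuotSMulTop r M := Submodule.mkQ _
  have hex : Function.Exact (LinearMap.lsmul A M r) π := LinearMap.exact_iff.mpr (by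
    rw [Submodule.ker_mkQ]; ext x
    simp [Submodule.mem_smul_pointwise_iff_exists])
  have hs := Submodule.mkQ_surjective (p := r • (⊤ : Submodule A M))
  refine length_five (hmap l π q) (hdelta l (LinearMap.lsmul A M r) π hr hs hex q s hqs) ?_ ?_ ?_
  · rw [← hmap_smul l r q]; exact exact_map_map l (LinearMap.lsmul A M r) π hr hs hex q
  · exact exact_map_delta l (LinearMap.lsmul A M r) π hr hs hex q s hqs
  · rw [← hmap_smul l r s]; exact exact_delta_map l (LinearMap.lsmul A M r) π hr hs hex q s hqs

lemma hlen_eq_of_linearEquiv (e : M ≃ₗ[A] N) (q : ℤ) : hlen l M q = hlen l N q := by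
  refine LinearEquiv.length_eq (Iso.toLinearEquiv ((HomologicalComplex.homologyFunctor _ _ q).mapIso
    (((NatIso.mapHomologicalComplex ((curriedTensor (ModuleCat.{u} A)).flip.mapIso
      e.toModuleIso) (ComplexShape.up ℤ)).app (Koszul.koszul A l)))))

lemma hlen_perm {l l' : List A} (h : l.Perm l') (M : Type u) [AddCommGroup M] [Module A M] (q : ℤ) :
    hlen l M q = hlen l' M q := by
  obtain ⟨φ⟩ := nonempty_iso_of_perm h
  exact LinearEquiv.length_eq (Iso.toLinearEquiv ((HomologicalComplex.homologyFunctor _ _ q).mapIso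
    (((tensorRight (ModuleCat.of A M)).mapHomologicalComplex (ComplexShape.up ℤ)).mapIso φ)))

lemma hlen_subsingleton [Subsingleton M] (q : ℤ) : hlen l M q = 0 := by
  rw [hlen, length_homology (KM l M) (q - 1) q (q + 1) (by omega) rfl, Module.length_eq_zero_iff]
  haveI : Subsingleton ((KM l M).X q : Type u) :=
    (tX (Koszul.koszul A l) (ModuleCat.of A M) q).toEquiv.subsingleton
  infer_instance

lemma hlen_nil (M : Type u) [AddCommGroup M] [Module A M] :
    hlen ([] : List A) M 0 = Module.length A M := by
  rw [hlen, length_homology (KM [] M) (-1) 0 1 (by norm_num) (by norm_num)]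
  haveI := subsingleton_KM_X ([] : List A) M (-1) (Or.inr (by simp))
  haveI := subsingleton_KM_X ([] : List A) M 1 (Or.inl one_pos)
  have h1 : LinearMap.ker (dd (KM ([] : List A) M) 0 1) = ⊤ :=
    LinearMap.ker_eq_top.mpr (LinearMap.ext fun x => Subsingleton.elim _ _)
  have h2 : LinearMap.range (dd (KM ([] : List A) M) (-1) 0) = ⊥ :=
    LinearMap.range_eq_bot.mpr (LinearMap.ext fun x => by rw [Subsingleton.elim x 0, map_zero]; rfl)
  rw [(Submodule.quotEquivOfEqBot _ (by rw [h2, Submodule.comap_bot, Submodule.ker_subtype])).length_eq,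
    (LinearEquiv.ofTop _ h1).length_eq,
    (tX (Koszul.koszul A []) (ModuleCat.of A M) 0).length_eq,
    ((nilZero (A := A)).rTensor M).length_eq, (TensorProduct.lid A M).length_eq]

lemma five_cone_hlen (r : A) (M : Type u) [AddCommGroup M] [Module A M] (q s : ℤ) (hqs : q + 1 = s) :
    hlen (r :: l) M q =
      Module.length A (Cok r ((KM l M).homology q)) + Module.length A (Ker r ((KM l M).homology s)) := by
  rw [hlen, length_homology (KM (r :: l) M) (q - 1) q s (by omega) hqs,
    five_cone (tensorData (consData r l) (ModuleCat.of A M)) (q - 1) q s (s + 1) (by omega) hqs rfl]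
  have e1 := (homologyIsoHc (KM l M) (q - 1) q s (by omega) hqs).toLinearEquiv
  have e2 := (homologyIsoHc (KM l M) q s (s + 1) hqs rfl).toLinearEquiv
  congr 1
  · refine (Submodule.Quotient.equiv _ _ e1 ?_).length_eq.symm
    ext y
    simp only [Submodule.mem_map, LinearMap.mem_range, LinearMap.lsmul_apply]
    exact ⟨fun ⟨x, ⟨z, hz⟩, hx⟩ => ⟨e1 z, by rw [← hx, ← hz]; exact (map_smul e1 r z).symm⟩,
      fun ⟨z, hz⟩ => ⟨r • e1.symm z, ⟨_, rfl⟩, by rw [← hz]; simp⟩⟩
  · refine LinearEquiv.length_eq (e2.ofSubmodules _ _ ?_).symm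
    ext y
    simp only [Submodule.mem_map, LinearMap.mem_ker, LinearMap.lsmul_apply]
    exact ⟨fun ⟨x, hx, hy⟩ => by rw [← hy]; simp [← map_smul, hx],
      fun hy => ⟨e2.symm y, by rw [← map_smul, hy, map_zero], by simp⟩⟩

lemma hlen_cons_regular (r : A) (M : Type u) [AddCommGroup M] [Module A M] (hr : IsSMulRegular M r)
    (q : ℤ) : hlen (r :: l) M q = hlen l (QuotSMulTop r M) q :=
  (five_cone_hlen l r M q (q + 1) rfl).trans (five_quot l r hr q (q + 1) rfl).symm

end Groth.Agent.LC17
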