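import Groth.Agent.LC17.DepthLoc
import Groth.Agent.LC17.Transfer

/-!
# Local cohomology of a module finite over an algebra
-/

set_option autoImplicit false

universe u

open scoped Pointwise
open Groth.Agent.LC15

namespace Groth.Agent.LC17

/-- Variant of `nul_H_succ_of_quot` without finiteness. -/
lemma nul_H_succ_of_quot' {R : Type u} [CommRing R] [IsNoetherianRing R] {S : Submonoid R} {M : Type u}
    [AddCommGroup M] [Module R M] (I : Ideal R) {x : R}
    (hker : ∀ i, Nul S (LocCoh.H I i (LinearMap.ker (LinearMap.lsmul R M x)))) (hxI : x ∈ I) (i : ℕ)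
    (h : Nul S (LocCoh.H I i (QuotSMulTop x M))) : Nul S (LocCoh.H I (i + 1) M) := by
  set F := LinearMap.lsmul R M x
  have hjp : F = (LinearMap.range F).subtype ∘ₗ F.rangeRestrict := rfl
  have key : ∀ y : LocCoh.H I (i + 1) M, (∃ u ∈ S, u • x • y = 0) → ∃ u ∈ S, u • y = 0 := by
    rintro y ⟨u, hu, hy⟩
    have h1 : Hmap I (i + 1) (LinearMap.range F).subtype
        (Hmap I (i + 1) F.rangeRestrict (u • y)) = 0 := by
      rw [← LinearMap.comp_apply, ← Hmap_comp, ← hjp, Hmap_lsmul, smul_comm, hy]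
    obtain ⟨w, hw⟩ := (H_exact₁ I i (Submodule.subtype_injective _) (exact_range_quot x)
      (Submodule.mkQ_surjective _) _).mp h1
    obtain ⟨v, hv, hvw⟩ := h w
    have h2 : Hmap I (i + 1) F.rangeRestrict ((v * u) • y) = 0 := by
      rw [mul_smul, map_smul, ← hw, ← map_smul, hvw, map_zero]
    obtain ⟨z, hz⟩ := (H_exact₂ I (i + 1) (Submodule.subtype_injective _)
      (LinearMap.exact_iff.mpr (by rw [LinearMap.ker_rangeRestrict, Submodule.range_subtype]))
      F.surjective_rangeRestrict _).mp h2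
    obtain ⟨w', hw', hwz⟩ := hker (i + 1) z
    exact ⟨w' * (v * u), mul_mem hw' (mul_mem hv hu), by rw [mul_smul, ← hz, ← map_smul, hwz, map_zero]⟩
  intro y
  obtain ⟨k, hk⟩ := isPowerTorsion_H I (i + 1) y
  suffices H : ∀ k : ℕ, ∀ y : LocCoh.H I (i + 1) M, (∃ u ∈ S, u • x ^ k • y = 0) → ∃ u ∈ S, u • y = 0 from
    H k y ⟨1, S.one_mem, by rw [hk _ (Ideal.pow_mem_pow hxI k), smul_zero]⟩
  intro k
  induction k with
  | zero => intro y hy; simpa using hy
  | succ k ih =>
    rintro y ⟨u, hu, hy⟩
    rw [pow_succ', mul_smul] at hy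
    exact ih _ (key _ ⟨u, hu, hy⟩)

variable {A B : Type u} [CommRing A] [CommRing B] [Algebra A B] [IsNoetherianRing A] [IsNoetherianRing B]

/-- Depth at the primes over `a` gives vanishing of local cohomology over the base. -/
theorem nul_H_of_depth_algebra (T : Submonoid A) (a : Ideal A) : ∀ (n : ℕ) (N : Type u) [AddCommGroup N]
    [Module A N] [Module B N] [IsScalarTower A B N] [Module.Finite B N],
    (∀ Q : PrimeSpectrum B, a.map (algebraMap A B) ≤ Q.asIdeal →
      Disjoint (Q.asIdeal : Set B) (Algebra.algebraMapSubmonoid B T) →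
      (n : ℕ∞) ≤ LocCoh.depth (Localization.AtPrime Q.asIdeal) (LocalizedModule Q.asIdeal.primeCompl N)) →
    ∀ i, i < n → Nul T (LocCoh.H a i N)
  | 0, N, _, _, _, _, _, _ => by simp
  | n + 1, N, _, _, _, _, _, h => by
    let TB := Algebra.algebraMapSubmonoid B T
    obtain ⟨x, hxa, hx⟩ : ∃ x ∈ a, ∀ q ∈ associatedPrimes B N, Disjoint (q : Set B) TB →
        algebraMap A B x ∉ q := by
      by_contra! hcon
      let U : Set (Ideal B) := {q | q ∈ associatedPrimes B N ∧ Disjoint (q : Set B) TB}
      have hU : U.Finite := (associatedPrimes.finite B N).subset fun q hq => hq.1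
      have hsub : (a : Set A) ⊆
          ⋃ q ∈ (hU.toFinset : Set (Ideal B)), ((q.comap (algebraMap A B) : Ideal A) : Set A) := fun x hx => by
        obtain ⟨q, hq, hd, hxq⟩ := hcon x hx
        exact Set.mem_iUnion₂.mpr ⟨q, hU.mem_toFinset.mpr ⟨hq, hd⟩, hxq⟩
      obtain ⟨q, hq, hle⟩ := (Ideal.subset_union_prime (f := fun q : Ideal B => q.comap (algebraMap A B)) ⊥ ⊥
        (fun q hq _ _ => by
          haveI := IsAssociatedPrime.isPrime (hU.mem_toFinset.mp hq).1
          exact Ideal.IsPrime.comap _)).mp hsub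
      obtain ⟨hq, hdisj⟩ := hU.mem_toFinset.mp hq
      haveI := IsAssociatedPrime.isPrime hq
      obtain ⟨m, hm⟩ := exists_annihilator_mem hq
      exact not_nul_H0_of_associated q le_rfl hm ((natCast_le_depth_loc_iff q (n + 1)).mp
        (h ⟨q, inferInstance⟩ (Ideal.map_le_iff_le_comap.mpr hle) hdisj) 0 n.succ_pos)
    have hxB : RegAt TB (algebraMap A B x) N := fun y => by
      by_contra! hy
      obtain ⟨q, hq, hyq, hdisj⟩ := exists_associated_disjoint (S := TB) (y := y.1)
        (fun u hu he => hy u hu (Subtype.ext he))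
      exact hx q hq hdisj (hyq _ y.2)
    have hxA : RegAt T x N := by
      rintro ⟨m, hm⟩
      obtain ⟨_, ⟨u, hu, rfl⟩, hum⟩ := hxB ⟨m, show algebraMap A B x • m = 0 by rw [algebraMap_smul]; exact hm⟩
      refine ⟨u, hu, Subtype.ext ?_⟩
      show u • m = 0
      rw [← algebraMap_smul B u m]
      exact congrArg Subtype.val hum
    have hquot : ∀ i, i < n → Nul T (LocCoh.H a i (QuotSMulTop x N)) := fun i hi => by
      rw [nul_H_congr a i (quotSMulTopAlg (B := B) x)]
      refine nul_H_of_depth_algebra T a n (QuotSMulTop (algebraMap A B x) N) (fun Q haQ hQd => ?_) i hi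
      have h1 := (natCast_le_depth_loc_iff Q.asIdeal (n + 1)).mp (h Q haQ hQd)
      have hQx : RegAt Q.asIdeal.primeCompl (algebraMap A B x) N := fun y => by
        obtain ⟨u, hu, huy⟩ := hxB y
        exact ⟨u, fun hmem => Set.disjoint_left.mp hQd hmem hu, huy⟩
      exact (natCast_le_depth_loc_iff Q.asIdeal n).mpr fun j hj =>
        nul_H_quot_of Q.asIdeal hQx j (h1 j (by omega)) (h1 (j + 1) (by omega))
    intro i hi
    match i with
    | 0 => exact nul_H0_of_regAt hxa hxA
    | j + 1 =>
      refine nul_H_succ_of_quot' a (fun l => ?_) hxa j (hquot j (by omega))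
      -- the kernel is killed by a single element of `T`
      obtain ⟨_, ⟨u, hu, rfl⟩, huk⟩ := exists_kill (S := TB) hxB
      refine fun y => ⟨u, hu, smul_H_eq_zero a l (fun m => Subtype.ext ?_) y⟩
      show u • (m : N) = 0
      rw [← algebraMap_smul B u (m : N)]
      exact congrArg Subtype.val (huk ⟨m.1, show algebraMap A B x • (m : N) = 0 by rw [algebraMap_smul]; exact m.2⟩)

end Groth.Agent.LC17
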