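import Groth.Agent.BC14.Descent
import Groth.Agent.CAlg1.Pop.Field
import Mathlib.RingTheory.Flat.EquationalCriterion
import Mathlib.RingTheory.Kaehler.Basic
import Mathlib.LinearAlgebra.ExteriorPower.Basic
import Mathlib.LinearAlgebra.ExteriorPower.Basis
import Mathlib.RingTheory.Smooth.Basic
import Mathlib.FieldTheory.Perfect
import Mathlib.Algebra.Field.ULift

/-!
# Exterior powers of flat modules and differentials of ind-smooth algebras are flat
-/

set_option autoImplicit false

universe u

open TensorProduct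

namespace Groth.Agent.LC17.OmegaFlat

section Exterior

variable {R : Type u} [CommRing R] {M : Type u} [AddCommGroup M] [Module R M]

/-- The relations in the exterior power coming from the kernel of a linear map. -/
def kerWedge {P : Type u} [AddCommGroup P] [Module R P] (π : P →ₗ[R] M) (i : ℕ) : Set ↥(⋀[R]^i P) :=
  {w | ∃ a : Fin i → P, (∃ j, π (a j) = 0) ∧ exteriorPower.ιMulti R i a = w}

theorem ιMulti_congr_mod {P : Type u} [AddCommGroup P] [Module R P] (π : P →ₗ[R] M) {i : ℕ}
    (a b : Fin i → P) (h : ∀ j, π (a j) = π (b j)) :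
    exteriorPower.ιMulti R i a - exteriorPower.ιMulti R i b ∈ Submodule.span R (kerWedge π i) := by
  classical
  suffices key : ∀ s : Finset (Fin i), ∀ a : Fin i → P, (∀ j, π (a j) = π (b j)) → (∀ j ∉ s, a j = b j) →
      exteriorPower.ιMulti R i a - exteriorPower.ιMulti R i b ∈ Submodule.span R (kerWedge π i) from
    key Finset.univ a h fun j hj => absurd (Finset.mem_univ j) hj
  intro s
  induction s using Finset.induction with
  | empty =>
    intro a _ ha
    rw [show a = b from _root_.funext fun j => ha j (Finset.notMem_empty j), sub_self]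
    exact zero_mem _
  | insert j s hj ih =>
    intro a hπ ha
    have h1 := ih (Function.update a j (b j))
      (fun l => by rcases eq_or_ne l j with rfl | hl <;> simp [*])
      (fun l hl => by rcases eq_or_ne l j with rfl | hlj <;> simp [*, ha])
    have h2 : exteriorPower.ιMulti R i (Function.update a j (a j - b j)) ∈ Submodule.span R (kerWedge π i) :=
      Submodule.subset_span ⟨_, ⟨j, by simp [hπ]⟩, rfl⟩
    rw [AlternatingMap.map_update_sub, Function.update_eq_self] at h2
    have := add_mem h2 h1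
    rwa [sub_add_sub_cancel] at this

theorem mem_span_kerWedge {P : Type u} [AddCommGroup P] [Module R P] (π : P →ₗ[R] M)
    (hπ : Function.Surjective π) (i : ℕ) {w : ↥(⋀[R]^i P)} (hw : exteriorPower.map i π w = 0) :
    w ∈ Submodule.span R (kerWedge π i) := by
  classical
  let Z := Submodule.span R (kerWedge π i)
  let s := Function.surjInv hπ
  have hs : ∀ m, π (s m) = m := Function.surjInv_eq hπ
  have cg : ∀ a b : Fin i → P, (∀ j, π (a j) = π (b j)) →
      Z.mkQ (exteriorPower.ιMulti R i a) = Z.mkQ (exteriorPower.ιMulti R i b) := fun a b h =>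
    (Submodule.Quotient.eq _).2 (ιMulti_congr_mod π a b h)
  let ψ : M [⋀^Fin i]→ₗ[R] (↥(⋀[R]^i P) ⧸ Z) :=
    { toFun := fun m => Z.mkQ (exteriorPower.ιMulti R i (s ∘ m))
      map_update_add' := fun m j x y => by
        have h1 : ∀ z, Z.mkQ (exteriorPower.ιMulti R i (s ∘ Function.update m j z)) =
            Z.mkQ (exteriorPower.ιMulti R i (Function.update (s ∘ m) j (s z))) := fun z =>
          cg _ _ fun l => by rcases eq_or_ne l j with rfl | hl <;> simp [*]
        have h3 : Z.mkQ (exteriorPower.ιMulti R i (Function.update (s ∘ m) j (s (x + y)))) =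
            Z.mkQ (exteriorPower.ιMulti R i (Function.update (s ∘ m) j (s x + s y))) :=
          cg _ _ fun l => by rcases eq_or_ne l j with rfl | hl <;> simp [*]
        rw [h1, h1, h1, h3, AlternatingMap.map_update_add, map_add]
      map_update_smul' := fun m j c x => by
        have h1 : ∀ z, Z.mkQ (exteriorPower.ιMulti R i (s ∘ Function.update m j z)) =
            Z.mkQ (exteriorPower.ιMulti R i (Function.update (s ∘ m) j (s z))) := fun z =>
          cg _ _ fun l => by rcases eq_or_ne l j with rfl | hl <;> simp [*]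
        have h3 : Z.mkQ (exteriorPower.ιMulti R i (Function.update (s ∘ m) j (s (c • x)))) =
            Z.mkQ (exteriorPower.ιMulti R i (Function.update (s ∘ m) j (c • s x))) :=
          cg _ _ fun l => by rcases eq_or_ne l j with rfl | hl <;> simp [*]
        rw [h1, h1, h3, AlternatingMap.map_update_smul, map_smul]
      map_eq_zero_of_eq' := fun m j l hjl hne => by
        rw [AlternatingMap.map_eq_zero_of_eq _ _ (show (s ∘ m) j = (s ∘ m) l by simp [hjl]) hne, map_zero] }
  have key : (exteriorPower.alternatingMapLinearEquiv ψ).comp (exteriorPower.map i π) = Z.mkQ :=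
    exteriorPower.linearMap_ext (AlternatingMap.ext fun a => by
      simp only [LinearMap.compAlternatingMap_apply, LinearMap.comp_apply, exteriorPower.map_apply_ιMulti,
        exteriorPower.alternatingMapLinearEquiv_apply_ιMulti]
      exact cg _ _ fun j => hs _)
  have := DFunLike.congr_fun key w
  rw [LinearMap.comp_apply, hw, map_zero] at this
  exact (Submodule.Quotient.mk_eq_zero _).1 this.symm

theorem exists_finite_relation {i : ℕ} {n : ℕ} (π₀ : (Fin n →₀ R) →ₗ[R] M) {w : ↥(⋀[R]^i (Fin n →₀ R))}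
    (hw : exteriorPower.map i π₀ w = 0) :
    ∃ (N : Type u) (_ : AddCommGroup N) (_ : Module R N) (_ : Module.Free R N) (_ : Module.Finite R N)
      (e : (Fin n →₀ R) →ₗ[R] N) (π : N →ₗ[R] M) (K : Submodule R N), K.FG ∧ π.comp e = π₀ ∧
        (∀ x ∈ K, π x = 0) ∧
        ∀ {N' : Type u} [AddCommGroup N'] [Module R N'] (g : N →ₗ[R] N'), (∀ x ∈ K, g x = 0) →
          exteriorPower.map i (g.comp e) w = 0 := by
  classical
  let π : (Fin n →₀ R) × (M →₀ R) →ₗ[R] M := π₀.coprod (Finsupp.linearCombination R id)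
  have hπ : Function.Surjective π := fun m => ⟨(0, Finsupp.single m 1), by simp [π]⟩
  have h1 : exteriorPower.map i π (exteriorPower.map i (LinearMap.inl R (Fin n →₀ R) (M →₀ R)) w) = 0 := by
    rw [← LinearMap.comp_apply, ← exteriorPower.map_comp, LinearMap.coprod_inl, hw]
  obtain ⟨T, hT, hmem⟩ := Submodule.mem_span_finite_of_mem_span (mem_span_kerWedge π hπ i h1)
  have hch : ∀ t : ↥T, ∃ a : Fin i → (Fin n →₀ R) × (M →₀ R), ∃ j, π (a j) = 0 ∧
      exteriorPower.ιMulti R i a = t.1 := fun t => by
    obtain ⟨a, ⟨j, hj⟩, ha⟩ := hT t.2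
    exact ⟨a, j, hj, ha⟩
  choose a j hj ha using hch
  let B : Finset M := Finset.univ.biUnion fun t : ↥T => (a t (j t)).2.support
  let r : (Fin n →₀ R) × (M →₀ R) →ₗ[R] (Fin n →₀ R) × (↥B → R) :=
    LinearMap.prodMap LinearMap.id (LinearMap.pi fun b => Finsupp.lapply b.1)
  let πN : (Fin n →₀ R) × (↥B → R) →ₗ[R] M := π₀.coprod (Fintype.linearCombination R fun b : ↥B => b.1)
  let K : Submodule R ((Fin n →₀ R) × (↥B → R)) := Submodule.span R (Set.range fun t => r (a t (j t)))
  have hv : ∀ v : (Fin n →₀ R) × (M →₀ R), v.2.support ⊆ B → πN (r v) = π v := fun v hvB => by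
    show π₀ v.1 + Fintype.linearCombination R (fun b : ↥B => b.1) (fun b => v.2 b.1) = π₀ v.1 + Finsupp.linearCombination R id v.2
    rw [Fintype.linearCombination_apply, Finsupp.linearCombination_apply, Finsupp.sum_of_support_subset _ hvB
      _ (by simp)]
    congr 1
    exact Finset.sum_coe_sort B fun b => v.2 b • id b
  refine ⟨(Fin n →₀ R) × (↥B → R), inferInstance, inferInstance, inferInstance, inferInstance,
    LinearMap.inl R _ _, πN, K, Submodule.fg_span (Set.finite_range _), LinearMap.coprod_inl _ _, ?_, ?_⟩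
  · refine fun x hx => LinearMap.mem_ker.1 ((Submodule.span_le.2 ?_ : K ≤ LinearMap.ker πN) hx)
    rintro _ ⟨t, rfl⟩
    show πN (r (a t (j t))) = 0
    rw [hv _ (Finset.subset_biUnion_of_mem (fun t : ↥T => (a t (j t)).2.support) (Finset.mem_univ t)), hj]
  · intro N' _ _ g hg
    have e1 : r.comp (LinearMap.inl R (Fin n →₀ R) (M →₀ R)) = LinearMap.inl R _ _ := by
      refine LinearMap.ext fun x => Prod.ext rfl ?_
      funext b
      simp [r]
    rw [← e1, ← LinearMap.comp_assoc, exteriorPower.map_comp, LinearMap.comp_apply]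
    have hker : Submodule.span R (T : Set ↥(⋀[R]^i ((Fin n →₀ R) × (M →₀ R)))) ≤
        LinearMap.ker (exteriorPower.map i (g.comp r)) := by
      refine Submodule.span_le.2 fun t ht => ?_
      show exteriorPower.map i (g.comp r) t = 0
      rw [← show exteriorPower.ιMulti R i (a ⟨t, ht⟩) = t from ha ⟨t, ht⟩, exteriorPower.map_apply_ιMulti]
      exact AlternatingMap.map_coord_zero _ (j ⟨t, ht⟩) (hg _ (Submodule.subset_span ⟨⟨t, ht⟩, rfl⟩))
    exact LinearMap.mem_ker.1 (hker hmem)

theorem exists_finite_lift {i l : ℕ} (x : Fin l → ↥(⋀[R]^i M)) :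
    ∃ (n : ℕ) (π : (Fin n →₀ R) →ₗ[R] M) (w : Fin l → ↥(⋀[R]^i (Fin n →₀ R))),
      ∀ t, exteriorPower.map i π (w t) = x t := by
  classical
  have hs : ∀ t, ∃ T : Finset ↥(⋀[R]^i M), (T : Set ↥(⋀[R]^i M)) ⊆ Set.range (exteriorPower.ιMulti R i (M := M)) ∧
      x t ∈ Submodule.span R (T : Set ↥(⋀[R]^i M)) := fun t =>
    Submodule.mem_span_finite_of_mem_span (by rw [exteriorPower.ιMulti_span]; trivial)
  choose T hT hx using hs
  choose a ha using fun p : (Σ t, ↥(T t)) => hT p.1 p.2.2
  let B : Finset M := (Finset.univ : Finset ((Σ t, ↥(T t)) × Fin i)).image fun p => a p.1 p.2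
  let e := B.equivFin
  refine ⟨B.card, Finsupp.linearCombination R fun k => (e.symm k).1, ?_⟩
  have key : ∀ t, x t ∈ LinearMap.range (exteriorPower.map i
      (Finsupp.linearCombination R fun k => (e.symm k).1 : (Fin B.card →₀ R) →ₗ[R] M)) := fun t => by
    refine (Submodule.span_le.2 fun y hy => ?_) (hx t)
    refine ⟨exteriorPower.ιMulti R i fun j =>
      Finsupp.single (e ⟨a ⟨t, ⟨y, hy⟩⟩ j, Finset.mem_image.2 ⟨(⟨t, ⟨y, hy⟩⟩, j), Finset.mem_univ _, rfl⟩⟩) 1, ?_⟩
    rw [exteriorPower.map_apply_ιMulti]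
    refine Eq.trans ?_ (ha ⟨t, ⟨y, hy⟩⟩)
    congr 1
    funext j
    simp
  choose w hw using key
  exact ⟨w, hw⟩

/-- Exterior powers of flat modules are flat. -/
theorem flat_exteriorPower [Module.Flat R M] (i : ℕ) : Module.Flat R ↥(⋀[R]^i M) := by
  rw [Module.Flat.iff_forall_isTrivialRelation]
  intro l f x h
  obtain ⟨n, π₀, w, hw⟩ := exists_finite_lift x
  have h0 : exteriorPower.map i π₀ (∑ t, f t • w t) = 0 := by
    simp only [map_sum, map_smul, hw, h]
  obtain ⟨N, _, _, _, _, e, π, K, hK, hπ, hKπ, hkill⟩ := exists_finite_relation π₀ h0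
  haveI : Module.Finite R ↥K := Module.Finite.iff_fg.2 hK
  obtain ⟨k, g, y, hgy, hgK⟩ := Module.Flat.exists_factorization_of_comp_eq_zero_of_free
    (f := K.subtype) (x := π) (LinearMap.ext fun z => hKπ z.1 z.2)
  have hz := hkill g fun z hz => DFunLike.congr_fun hgK ⟨z, hz⟩
  have hrel : ∑ t, f t • exteriorPower.map i (g.comp e) (w t) = 0 := by
    simpa only [map_sum, map_smul] using hz
  haveI : Module.Flat R ↥(⋀[R]^i (Fin k →₀ R)) := inferInstance
  obtain ⟨m, a, z, ha, hza⟩ := (Module.Flat.iff_forall_isTrivialRelation.1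
    (inferInstance : Module.Flat R ↥(⋀[R]^i (Fin k →₀ R)))) hrel
  refine ⟨m, a, fun j => exteriorPower.map i y (z j), fun t => ?_, hza⟩
  rw [← hw t, ← hπ, hgy, LinearMap.comp_assoc, exteriorPower.map_comp, LinearMap.comp_apply,
    show exteriorPower.map i (g.comp e) (w t) = _ from ha t]
  simp only [map_sum, map_smul]

end Exterior

section Kaehler

variable {k : Type u} [Field k] {Λ : Type u} [CommRing Λ] [Algebra k Λ]

/-- Push forward formal combinations of differentials. -/
noncomputable def push (A : Subalgebra k Λ) : (↥A →₀ ↥A) →+ (Λ →₀ Λ) :=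
  (Finsupp.mapRange.addMonoidHom (A.val : ↥A →+ Λ)).comp (Finsupp.mapDomain.addMonoidHom A.val)

theorem push_single (A : Subalgebra k Λ) (a c : ↥A) : push A (Finsupp.single a c) = Finsupp.single a.1 c.1 := by
  simp [push]

theorem push_injective (A : Subalgebra k Λ) : Function.Injective (push A) :=
  (Finsupp.mapRange_injective _ (map_zero _) Subtype.val_injective).comp
    (Finsupp.mapDomain_injective Subtype.val_injective)

theorem push_smul (A : Subalgebra k Λ) (c : ↥A) (z : ↥A →₀ ↥A) : push A (c • z) = c.1 • push A z := by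
  induction z using Finsupp.induction_linear with
  | zero => simp
  | add x y hx hy => rw [smul_add, map_add, map_add, hx, hy, smul_add]
  | single a b => rw [Finsupp.smul_single, push_single, push_single, Finsupp.smul_single]; rfl

theorem push_linearCombination (A : Subalgebra k Λ) (z : ↥A →₀ ↥A) :
    Finsupp.linearCombination Λ (KaehlerDifferential.D k Λ) (push A z) =
      KaehlerDifferential.map k k ↥A Λ (Finsupp.linearCombination ↥A (KaehlerDifferential.D k ↥A) z) := by
  induction z using Finsupp.induction_linear with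
  | zero => simp
  | add x y hx hy => rw [map_add, map_add, map_add, map_add, hx, hy]
  | single a b =>
    rw [push_single, Finsupp.linearCombination_single, Finsupp.linearCombination_single, map_smul,
      KaehlerDifferential.map_D]
    rfl

theorem exists_fg_push (z : Λ →₀ Λ) : ∃ s : Finset Λ, ∀ A : Subalgebra k Λ, (s : Set Λ) ⊆ A →
    ∃ z' : ↥A →₀ ↥A, push A z' = z := by
  classical
  refine ⟨z.support ∪ z.support.image z, fun A hA => ?_⟩
  refine ⟨∑ a : ↥z.support, Finsupp.single ⟨a.1, hA (Finset.mem_union_left _ a.2)⟩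
    ⟨z a.1, hA (Finset.mem_union_right _ (Finset.mem_image_of_mem z a.2))⟩, ?_⟩
  rw [map_sum]
  simp only [push_single]
  rw [Finset.sum_coe_sort z.support fun a => Finsupp.single a (z a)]
  exact Finsupp.sum_single z

theorem exists_fg_kerTotal {z : Λ →₀ Λ} (hz : z ∈ KaehlerDifferential.kerTotal k Λ) :
    ∃ s : Finset Λ, ∀ A : Subalgebra k Λ, (s : Set Λ) ⊆ A →
      ∃ z' ∈ KaehlerDifferential.kerTotal k ↥A, push A z' = z := by
  classical
  unfold KaehlerDifferential.kerTotal at hz
  induction hz using Submodule.span_induction with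
  | mem x hx =>
    rcases hx with (⟨⟨a, b⟩, rfl⟩ | ⟨⟨a, b⟩, rfl⟩) | ⟨r, rfl⟩
    · refine ⟨{a, b}, fun A hA => ⟨Finsupp.single ⟨a, hA (by simp)⟩ 1 + Finsupp.single ⟨b, hA (by simp)⟩ 1 -
        Finsupp.single (⟨a, hA (by simp)⟩ + ⟨b, hA (by simp)⟩) 1, Submodule.subset_span (Or.inl (Or.inl ⟨⟨_, _⟩, rfl⟩)), ?_⟩⟩
      simp only [map_sub, map_add, push_single]
      rfl
    · refine ⟨{a, b}, fun A hA => ⟨Finsupp.single ⟨b, hA (by simp)⟩ ⟨a, hA (by simp)⟩ +
        Finsupp.single ⟨a, hA (by simp)⟩ ⟨b, hA (by simp)⟩ -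
        Finsupp.single (⟨a, hA (by simp)⟩ * ⟨b, hA (by simp)⟩) 1, Submodule.subset_span (Or.inl (Or.inr ⟨⟨_, _⟩, rfl⟩)), ?_⟩⟩
      simp only [map_sub, map_add, push_single]
      rfl
    · refine ⟨∅, fun A _ => ⟨Finsupp.single (algebraMap k ↥A r) 1, Submodule.subset_span (Or.inr ⟨r, rfl⟩), ?_⟩⟩
      rw [push_single]
      rfl
  | zero => exact ⟨∅, fun A _ => ⟨0, zero_mem _, map_zero _⟩⟩
  | add x y _ _ hx hy =>
    obtain ⟨s, hs⟩ := hx
    obtain ⟨t, ht⟩ := hy
    refine ⟨s ∪ t, fun A hA => ?_⟩
    obtain ⟨x', hx', hxx⟩ := hs A fun a ha => hA (Finset.mem_union_left _ ha)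
    obtain ⟨y', hy', hyy⟩ := ht A fun a ha => hA (Finset.mem_union_right _ ha)
    exact ⟨x' + y', add_mem hx' hy', by rw [map_add, hxx, hyy]⟩
  | smul c x _ hx =>
    obtain ⟨s, hs⟩ := hx
    refine ⟨insert c s, fun A hA => ?_⟩
    obtain ⟨x', hx', hxx⟩ := hs A fun a ha => hA (Finset.mem_insert_of_mem ha)
    exact ⟨(⟨c, hA (Finset.mem_insert_self c s)⟩ : ↥A) • x', Submodule.smul_mem _ _ hx', by rw [push_smul, hxx]⟩

/-- A relation between differentials comes from a finitely generated subalgebra. -/
theorem exists_fg_relation {l : ℕ} {f : Fin l → Λ} {x : Fin l → Ω[Λ⁄k]} (h : ∑ t, f t • x t = 0) :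
    ∃ (A : Subalgebra k Λ) (f' : Fin l → ↥A) (x' : Fin l → Ω[↥A⁄k]), A.FG ∧ (∀ t, (f' t).1 = f t) ∧
      (∀ t, KaehlerDifferential.map k k ↥A Λ (x' t) = x t) ∧ ∑ t, f' t • x' t = 0 := by
  classical
  choose z hz using fun t => KaehlerDifferential.linearCombination_surjective k Λ (x t)
  have hker : ∑ t, f t • z t ∈ KaehlerDifferential.kerTotal k Λ := by
    rw [← KaehlerDifferential.kerTotal_eq, LinearMap.mem_ker]
    simp only [map_sum, map_smul, hz, h]
  obtain ⟨s, hs⟩ := exists_fg_kerTotal hker
  choose u hu using fun t => exists_fg_push (k := k) (z t)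
  let S : Finset Λ := s ∪ (Finset.univ.biUnion u) ∪ Finset.univ.image f
  let A := Algebra.adjoin k (S : Set Λ)
  have hS : (S : Set Λ) ⊆ A := Algebra.subset_adjoin
  obtain ⟨z', hz', hzz⟩ := hs A fun a ha => hS (by simp [S, show a ∈ s from ha])
  choose w hw using fun t => hu t A fun a ha => hS
    (Finset.mem_union_left _ (Finset.mem_union_right _ (Finset.mem_biUnion.2 ⟨t, Finset.mem_univ t, ha⟩)))
  let f' : Fin l → ↥A := fun t => ⟨f t, hS (Finset.mem_union_right _ (Finset.mem_image_of_mem f (Finset.mem_univ t)))⟩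
  refine ⟨A, f', fun t => Finsupp.linearCombination ↥A (KaehlerDifferential.D k ↥A) (w t), ⟨S, rfl⟩,
    fun t => rfl, fun t => by rw [← push_linearCombination, hw, hz], ?_⟩
  have : z' = ∑ t, f' t • w t := push_injective A (by
    rw [hzz, map_sum]
    exact Finset.sum_congr rfl fun t _ => by rw [push_smul, hw])
  rw [this, ← KaehlerDifferential.kerTotal_eq, LinearMap.mem_ker] at hz'
  simpa only [map_sum, map_smul] using hz'

theorem flat_kaehler_of_indSmooth (h : Smoothing.IndSmooth k Λ) : Module.Flat Λ Ω[Λ⁄k] := by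
  rw [Module.Flat.iff_forall_isTrivialRelation]
  intro l f x hrel
  obtain ⟨A, f', x', hA, hf, hx, hrel'⟩ := exists_fg_relation (k := k) hrel
  haveI : Algebra.FiniteType k ↥A := A.fg_iff_finiteType.1 hA
  obtain ⟨B, _, _, hB, g, φ, hφ⟩ := h ↥A (Algebra.FinitePresentation.of_finiteType.1 inferInstance) A.val
  letI : Algebra ↥A B := g.toRingHom.toAlgebra
  haveI : IsScalarTower k ↥A B := IsScalarTower.of_algebraMap_eq fun r => (g.commutes r).symm
  letI : Algebra B Λ := φ.toRingHom.toAlgebra
  haveI : IsScalarTower k B Λ := IsScalarTower.of_algebraMap_eq fun r => (φ.commutes r).symm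
  haveI : IsScalarTower ↥A B Λ := IsScalarTower.of_algebraMap_eq fun a => (DFunLike.congr_fun hφ a).symm
  have hrelB : ∑ t, algebraMap ↥A B (f' t) • KaehlerDifferential.map k k ↥A B (x' t) = 0 := by
    have := congrArg (KaehlerDifferential.map k k ↥A B) hrel'
    rw [map_zero, map_sum] at this
    rw [← this]
    exact Finset.sum_congr rfl fun t _ => by rw [map_smul, algebraMap_smul]
  haveI : Algebra.Smooth k B := hB
  haveI : Module.Projective B Ω[B⁄k] := Algebra.FormallySmooth.projective_kaehlerDifferential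
  haveI : Module.Flat B Ω[B⁄k] := Module.Flat.of_projective
  obtain ⟨m, a, z, ha, hza⟩ := (Module.Flat.iff_forall_isTrivialRelation.1
    (inferInstance : Module.Flat B Ω[B⁄k])) hrelB
  refine ⟨m, fun t j => algebraMap B Λ (a t j), fun j => KaehlerDifferential.map k k B Λ (z j), fun t => ?_, fun j => ?_⟩
  · have hcomp : KaehlerDifferential.map k k B Λ (KaehlerDifferential.map k k ↥A B (x' t)) = x t := by
      rw [← hx t]
      generalize x' t = ω
      have hω : ω ∈ Submodule.span ↥A (Set.range (KaehlerDifferential.D k ↥A)) := by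
        rw [KaehlerDifferential.span_range_derivation]; trivial
      induction hω using Submodule.span_induction with
      | mem y hy =>
        obtain ⟨a, rfl⟩ := hy
        simp only [KaehlerDifferential.map_D, ← IsScalarTower.algebraMap_apply]
      | zero => simp
      | add y y' _ _ hy hy' => simp [hy, hy']
      | smul c y _ hy =>
        rw [map_smul, ← algebraMap_smul B c (KaehlerDifferential.map k k ↥A B y), map_smul, map_smul, hy,
          ← algebraMap_smul Λ (algebraMap ↥A B c), ← IsScalarTower.algebraMap_apply, algebraMap_smul]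
    rw [← hcomp, show KaehlerDifferential.map k k ↥A B (x' t) = _ from ha t, map_sum]
    exact Finset.sum_congr rfl fun j _ => by rw [map_smul, algebraMap_smul]
  · rw [← map_zero (algebraMap B Λ), ← hza j, map_sum]
    refine Finset.sum_congr rfl fun t _ => ?_
    rw [map_mul, ← IsScalarTower.algebraMap_apply]
    congr 1
    exact (hf t).symm

end Kaehler

theorem flat_kaehler_int (p : ℕ) [Fact p.Prime] (A : Type u) [CommRing A] [IsRegularLocalRing A] [CharP A p] :
    Module.Flat A Ω[A⁄ℤ] := by
  letI : Algebra (ZMod p) A := ZMod.algebra A p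
  let k := ULift.{u} (ZMod p)
  haveI : Nonempty (Field k) := ⟨inferInstance⟩
  letI : Algebra k A := ((algebraMap (ZMod p) A).comp (ULift.ringEquiv (R := ZMod p)).toRingHom).toAlgebra
  haveI : Finite k := inferInstance
  haveI : PerfectField k := PerfectField.ofFinite
  haveI := flat_kaehler_of_indSmooth (CAlg1.Pop.indSmooth_field CAlg1.Pop.fieldResolution k A
    (BC14.isGeometricallyRegular_of_perfect k A))
  have hsurj : Function.Surjective (algebraMap ℤ k) := fun x => by
    obtain ⟨z, hz⟩ := ZMod.intCast_surjective x.down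
    exact ⟨z, ULift.ext _ _ (by rw [eq_intCast]; exact hz)⟩
  haveI : @IsScalarTower ℤ k A Algebra.toSMul Algebra.toSMul Algebra.toSMul :=
    IsScalarTower.of_algebraMap_eq' (RingHom.ext_int _ _)
  haveI : Subsingleton Ω[k⁄ℤ] := KaehlerDifferential.subsingleton_of_surjective ℤ k hsurj
  have hinj : Function.Injective (KaehlerDifferential.map ℤ k A A) := by
    rw [← LinearMap.ker_eq_bot, ← KaehlerDifferential.range_mapBaseChange, LinearMap.range_eq_bot]
    exact Subsingleton.elim _ _
  exact Module.Flat.of_linearEquiv (LinearEquiv.ofBijective (KaehlerDifferential.map ℤ k A A)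
    ⟨hinj, KaehlerDifferential.map_surjective ℤ k A⟩)

end Groth.Agent.LC17.OmegaFlat
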