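import Groth.Agent.ZClos93.Depth
import Groth.Agent.QC70.InjEnvelope
import Groth.Agent.S1575

/-!
The extension `j_*(F|_U)` as the unique depth two hull.
-/

set_option autoImplicit false
set_option backward.isDefEq.respectTransparency.types false

noncomputable section

universe u

open CategoryTheory CategoryTheory.Limits AlgebraicGeometry TopologicalSpace Opposite

namespace Groth.Agent.LC17.PushUnique

variable {X : Scheme.{u}}

theorem bijective_map_of_eq (M : X.Modules) {V W : X.Opens} (h : V = W) (i : V ⟶ W) :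
    Function.Bijective (M.presheaf.map i.op) := by
  subst h
  rw [show i = 𝟙 V from Subsingleton.elim _ _, op_id, CategoryTheory.Functor.map_id]
  exact Function.bijective_id

theorem depth_push [IsLocallyNoetherian X] (U : X.Opens) (F : X.Modules)
    (hF' : Coh.IsCoh ((ZClos.resPush U).obj F)) (x : X) (hx : x ∉ U) :
    (2 : ℕ∞) ≤ LocCoh.depth (X.presheaf.stalk x) (((ZClos.resPush U).obj F).presheaf.stalk x) := by
  let Z : Set X := (U : Set X)ᶜ
  have hZ : StableUnderSpecialization Z := U.isOpen.isClosed_compl.stableUnderSpecialization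
  have hres : ZClos93.ResBij Z ((ZClos.resPush U).obj F) := by
    intro T V _
    refine bijective_map_of_eq F ?_ (U.ι.opensFunctor.map ((Opens.map U.ι.base).map (homOfLE inf_le_left)))
    show U.ι ''ᵁ U.ι ⁻¹ᵁ (V ⊓ T.U) = U.ι ''ᵁ U.ι ⁻¹ᵁ V
    rw [ZClos.ι_image_preimage, ZClos.ι_image_preimage, ← inf_assoc, inf_eq_left]
    intro y hy hyT
    exact T.2 hyT hy.1
  haveI : IsIso (ZClos.rhoApp Z ((ZClos.resPush U).obj F)) := ZClos93.isZClosed_iff_resBij.2 hres
  refine ZClos93.depth_of_isZClosedAt hZ hF' (x := x) ?_ x specializes_rfl hx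
  exact QC70.bijective_stalkMapM_of_isIso (ZClos.rhoApp Z ((ZClos.resPush U).obj F)) x

theorem isIso_unit [IsLocallyNoetherian X] (U : X.Opens) (G : X.Modules) (hG : Coh.IsCoh G)
    (hd : ∀ x : X, x ∉ U → (2 : ℕ∞) ≤ LocCoh.depth (X.presheaf.stalk x) (G.presheaf.stalk x)) :
    IsIso ((ZClos.resPushUnit U).app G) := by
  refine Scheme.Modules.Hom.isIso_iff_isIso_app.mpr fun V => ?_
  rw [ZClos.resPushUnit_app_app, ConcreteCategory.isIso_iff_bijective]
  have h1 : Function.Bijective (G.presheaf.map (homOfLE (inf_le_left : V ⊓ U ≤ V)).op) :=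
    S1575.result X G hG U hd V
  have he : U.ι ''ᵁ U.ι ⁻¹ᵁ V = V ⊓ U := by rw [ZClos.ι_image_preimage, inf_comm]
  rw [show homOfLE (U.ι.image_preimage_le V) = eqToHom he ≫ homOfLE inf_le_left from Subsingleton.elim _ _,
    op_comp, Functor.map_comp]
  exact (bijective_map_of_eq G he (eqToHom he)).comp h1

theorem main [IsLocallyNoetherian X] (U : X.Opens) (F : X.Modules) (hF' : Coh.IsCoh ((Coh.push U.ι).obj (F.restrict U.ι))) :
    (∀ x : X, x ∉ U → (2 : ℕ∞) ≤ LocCoh.depth (X.presheaf.stalk x)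
        (((Coh.push U.ι).obj (F.restrict U.ι)).presheaf.stalk x)) ∧
    ∀ (G : X.Modules) (_ : Coh.IsCoh G) (φ : F ⟶ G),
      IsIso ((Scheme.Modules.restrictFunctor U.ι).map φ) →
      (∀ x : X, x ∉ U → (2 : ℕ∞) ≤ LocCoh.depth (X.presheaf.stalk x) (G.presheaf.stalk x)) →
        (∃! ψ : G ⟶ (Coh.push U.ι).obj (F.restrict U.ι),
            φ ≫ ψ = (Scheme.Modules.restrictAdjunction U.ι).unit.app F) ∧
          ∀ ψ : G ⟶ (Coh.push U.ι).obj (F.restrict U.ι),
            φ ≫ ψ = (Scheme.Modules.restrictAdjunction U.ι).unit.app F → IsIso ψ := by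
  refine ⟨fun x hx => depth_push U F hF' x hx, fun G hG φ hφ hd => ?_⟩
  haveI := hφ
  let r := Scheme.Modules.restrictFunctor U.ι
  let p := Scheme.Modules.pushforward U.ι
  let adj := Scheme.Modules.restrictAdjunction U.ι
  let ψ₀ : G ⟶ p.obj (r.obj F) := adj.unit.app G ≫ p.map (inv (r.map φ))
  have hψ₀ : φ ≫ ψ₀ = adj.unit.app F := by
    have h := adj.unit.naturality φ
    simp only [Functor.id_map, Functor.comp_map] at h
    rw [show φ ≫ ψ₀ = (φ ≫ adj.unit.app G) ≫ p.map (inv (r.map φ)) from (Category.assoc _ _ _).symm, h,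
      Category.assoc, ← Functor.map_comp, IsIso.hom_inv_id, CategoryTheory.Functor.map_id]
    exact Category.comp_id _
  have huniq : ∀ ψ : G ⟶ p.obj (r.obj F), φ ≫ ψ = adj.unit.app F → ψ = ψ₀ := fun ψ hψ => by
    apply (adj.homEquiv G (r.obj F)).symm.injective
    have h1 : ∀ χ : G ⟶ p.obj (r.obj F), φ ≫ χ = adj.unit.app F →
        r.map φ ≫ (adj.homEquiv G (r.obj F)).symm χ = 𝟙 _ := fun χ hχ => by
      rw [← Adjunction.homEquiv_naturality_left_symm, hχ, Adjunction.homEquiv_counit,
        adj.left_triangle_components]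
    exact (cancel_epi (r.map φ)).1 ((h1 ψ hψ).trans (h1 ψ₀ hψ₀).symm)
  refine ⟨⟨ψ₀, hψ₀, huniq⟩, fun ψ hψ => ?_⟩
  obtain rfl := huniq ψ hψ
  haveI : IsIso (adj.unit.app G) := isIso_unit U G hG hd
  exact inferInstanceAs (IsIso (adj.unit.app G ≫ p.map (inv (r.map φ))))

end Groth.Agent.LC17.PushUnique

namespace Groth.Agent.LC17.PushUnique

open CategoryTheory AlgebraicGeometry

variable {X : Scheme.{u}}

/-- restriction of morphisms into a module of depth two off `U` is bijective -/
theorem restrict_hom_bijective [IsLocallyNoetherian X] (U : X.Opens) (E F : X.Modules) (hE : Coh.IsCoh E)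
    (hd : ∀ x : X, x ∉ U → (2 : ℕ∞) ≤ LocCoh.depth (X.presheaf.stalk x) (E.presheaf.stalk x)) :
    Function.Bijective (fun φ : F ⟶ E => (Scheme.Modules.restrictFunctor U.ι).map φ) := by
  let adj := Scheme.Modules.restrictAdjunction U.ι
  haveI : IsIso (adj.unit.app E) := isIso_unit U E hE hd
  have h : (fun φ : F ⟶ E => (Scheme.Modules.restrictFunctor U.ι).map φ) =
      (adj.homEquiv F _).symm ∘ (asIso (adj.unit.app E)).homToEquiv := funext fun φ => by
    refine ((adj.homEquiv F _).symm_apply_eq.2 ?_).symm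
    rw [Adjunction.homEquiv_unit]
    exact adj.unit.naturality φ
  rw [h]
  exact (adj.homEquiv F _).symm.bijective.comp (Iso.homToEquiv _).bijective

end Groth.Agent.LC17.PushUnique
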