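import Groth.Agent.LC17.Annihilate
import Groth.Agent.CAlg1.Serre
import Groth.Agent.S0604

/-!
Projective dimension and depth over regular local rings.
-/

set_option autoImplicit false

universe u

open CategoryTheory

namespace Groth.Agent.LC17

variable {R : Type u} [CommRing R] [IsNoetherianRing R]

/-- Auslander–Buchsbaum over a regular localization -/
theorem hasPD_le_of_height_le (p : Ideal R) [p.IsPrime] [IsRegularLocalRing (Localization.AtPrime p)]
    (M : Type u) [AddCommGroup M] [Module R M] [Module.Finite R M] (t : ℕ)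
    (h : p.height ≤ (t : ℕ∞) + LocCoh.depth (Localization.AtPrime p) (LocalizedModule p.primeCompl M)) :
    HasProjectiveDimensionLE (ModuleCat.of (Localization.AtPrime p) (LocalizedModule p.primeCompl M)) t := by
  haveI : Module.Finite (Localization.AtPrime p) (LocalizedModule p.primeCompl M) :=
    Module.Finite.of_isLocalizedModule p.primeCompl (LocalizedModule.mkLinearMap p.primeCompl M)
  rw [← projectiveDimension_le_iff]
  rcases subsingleton_or_nontrivial (LocalizedModule p.primeCompl M) with hs | hn
  · rw [(projectiveDimension_eq_bot_iff _).mpr (ModuleCat.isZero_iff_subsingleton.mpr hs)]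
    exact bot_le
  obtain ⟨d, hd⟩ := ENat.ne_top_iff_exists.mp (p.height_ne_top Ideal.IsPrime.ne_top')
  have hdim : ringKrullDim (Localization.AtPrime p) = d := by
    rw [IsLocalization.AtPrime.ringKrullDim_eq_height p (Localization.AtPrime p), ← hd]; rfl
  have h1 : projectiveDimension (ModuleCat.of (Localization.AtPrime p)
      (LocalizedModule p.primeCompl M)) ≤ d :=
    (projectiveDimension_le_iff _ _).mpr (CAlg1.hasPD_of_regular _ hdim _)
  have h2 : projectiveDimension (ModuleCat.of (Localization.AtPrime p)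
      (LocalizedModule p.primeCompl M)) ≠ ⊥ := fun h3 =>
    not_nontrivial_iff_subsingleton.mpr
      (ModuleCat.isZero_iff_subsingleton.mp ((projectiveDimension_eq_bot_iff _).mp h3)) hn
  obtain ⟨e', he'⟩ := WithBot.ne_bot_iff_exists.mp h2
  obtain ⟨e, he⟩ := ENat.ne_top_iff_exists.mp (show e' ≠ ⊤ from fun h4 => by
    rw [← he', h4] at h1
    exact absurd (WithBot.coe_le_coe.mp (show ((⊤ : ℕ∞) : WithBot ℕ∞) ≤ ((d : ℕ∞) : WithBot ℕ∞) from h1))
      (by simp))
  have hAB := Groth.Agent.S0604.result (Localization.AtPrime p) (LocalizedModule p.primeCompl M) e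
    (by rw [← he', ← he]; rfl)
  rw [CAlg1.depth_regular _ hdim] at hAB
  obtain ⟨k, hk⟩ := ENat.ne_top_iff_exists.mp
    (fun h5 : LocCoh.depth (Localization.AtPrime p) (LocalizedModule p.primeCompl M) = ⊤ => by
      rw [h5, add_top] at hAB; exact ENat.natCast_ne_top d hAB)
  rw [← hk, ← Nat.cast_add] at hAB
  rw [← hd, ← hk, ← Nat.cast_add] at h
  have h6 : d = e + k := Nat.cast_injective (R := ℕ∞) hAB
  have h7 : d ≤ t + k := Nat.cast_le.mp h
  rw [← he', ← he]
  exact WithBot.coe_le_coe.mpr (Nat.cast_le.mpr (by omega) : (e : ℕ∞) ≤ (t : ℕ∞))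

lemma htq_bot (q : Ideal R) : htq ⊥ q = q.height :=
  RingEquiv.height_map (RingEquiv.quotientBot R).symm q

lemma height_add_htq_le {p q : Ideal R} [p.IsPrime] [q.IsPrime] (h : p ≤ q) :
    p.height + htq p q ≤ q.height := by
  rw [← htq_bot p, ← htq_bot q]
  exact htq_add_le bot_le h

end Groth.Agent.LC17
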