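import Groth.Agent.LC17.FiltEuler
import Groth.Agent.LC17.SamuelPoly
import Groth.Agent.LA18.KoszulTop
import Mathlib.Algebra.Group.ForwardDiff
import Mathlib.Algebra.Order.Interval.Finset.Basic
import Mathlib.LinearAlgebra.Dimension.Constructions
import Mathlib.LinearAlgebra.TensorProduct.Pi

/-!
# The Koszul Euler characteristic is the Samuel multiplicity
-/

set_option autoImplicit false

universe u

open CategoryTheory TensorProduct Groth.Agent.Koszul19 fwdDiff

namespace Groth.Agent.LC17

variable {A : Type u} [CommRing A]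

/-- rank of the Koszul complex -/
noncomputable def krank (l : List A) (q : ℤ) : ℕ := Module.finrank A ((Koszul.koszul A l).X q : Type u)

variable [Nontrivial A]

theorem krank_cons (f : A) (l : List A) (q : ℤ) :
    krank (f :: l) q = krank l (q + 1) + krank l q := by
  haveI := (finite_free_X l q).1
  haveI := (finite_free_X l q).2
  haveI := (finite_free_X l (q + 1)).1
  haveI := (finite_free_X l (q + 1)).2
  rw [krank, ((consData f l).e q (q + 1) rfl).finrank_eq]
  exact Module.finrank_prod

theorem krank_nil (q : ℤ) : krank ([] : List A) q = if q = 0 then 1 else 0 := by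
  by_cases hq : q = 0
  · subst hq
    rw [krank, nilZero.finrank_eq, Module.finrank_self, if_pos rfl]
  · haveI := subsingleton_nil (A := A) hq
    rw [krank, Module.finrank_zero_of_subsingleton, if_neg hq]

theorem sum_krank_eq (g : ℚ → ℚ) : ∀ (l : List A) (a b : ℤ), a ≤ -(l.length : ℤ) → 0 ≤ b → ∀ n : ℚ,
    ∑ q ∈ Finset.Icc a b, (sgn q : ℚ) * (krank l q : ℚ) * g (n + q) =
      ((fwdDiff (1 : ℚ))^[l.length] g) (n - l.length)
  | [], a, b, ha, hb, n => by
    simp only [List.length_nil, Nat.cast_zero, neg_zero] at ha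
    rw [Finset.sum_eq_single_of_mem (0 : ℤ) (Finset.mem_Icc.2 ⟨ha, hb⟩)]
    · simp [krank_nil, sgn]
    · intro q _ hq
      simp [krank_nil, hq]
  | f :: l, a, b, ha, hb, n => by
    simp only [List.length_cons, Nat.cast_add, Nat.cast_one] at ha ⊢
    have h1 := sum_krank_eq g l a b (by omega) hb n
    have h2 := sum_krank_eq g l (a + 1) (b + 1) (by omega) (by omega) (n - 1)
    have h3 : ∑ q ∈ Finset.Icc a b, (sgn q : ℚ) * (krank l (q + 1) : ℚ) * g (n + q) =
        - ∑ q ∈ Finset.Icc (a + 1) (b + 1), (sgn q : ℚ) * (krank l q : ℚ) * g (n - 1 + q) := by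
      rw [← Finset.map_add_right_Icc a b 1, Finset.sum_map, ← Finset.sum_neg_distrib]
      refine Finset.sum_congr rfl fun q _ => ?_
      simp only [addRightEmbedding_apply, sgn_succ]
      push_cast
      rw [show n - 1 + ((q : ℚ) + 1) = n + q by ring]
      ring
    rw [Finset.sum_congr rfl (fun q _ => show (sgn q : ℚ) * (krank (f :: l) q : ℚ) * g (n + q) =
      (sgn q : ℚ) * (krank l (q + 1) : ℚ) * g (n + q) + (sgn q : ℚ) * (krank l q : ℚ) * g (n + q) by
        rw [krank_cons]; push_cast; ring), Finset.sum_add_distrib, h1, h3, h2,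
      Function.iterate_succ_apply']
    simp only [fwdDiff]
    rw [show n - 1 - (l.length : ℚ) = n - ((l.length : ℚ) + 1) by ring,
      show n - ((l.length : ℚ) + 1) + 1 = n - (l.length : ℚ) by ring]
    ring

theorem length_quot_KM (l : List A) (M : Type u) [AddCommGroup M] [Module A M] (J : Ideal A) (q : ℤ) :
    Module.length A (((KM l M).X q : Type u) ⧸ J • (⊤ : Submodule A ((KM l M).X q : Type u))) =
      (krank l q : ℕ∞) * Module.length A (M ⧸ J • (⊤ : Submodule A M)) := by
  classical
  haveI := (finite_free_X l q).1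
  haveI := (finite_free_X l q).2
  let b := Module.finBasis A ((Koszul.koszul A l).X q : Type u)
  let e : ((KM l M).X q : Type u) ≃ₗ[A] (Fin (krank l q) → M) :=
    ((tX (Koszul.koszul A l) (ModuleCat.of A M) q).trans
      (LinearEquiv.rTensor M b.equivFun)).trans
      ((TensorProduct.comm A _ M).trans (TensorProduct.piScalarRight A A M _))
  rw [(Submodule.Quotient.equiv _ (J • (⊤ : Submodule A (Fin (krank l q) → M))) e (by
      rw [Submodule.map_smul'', Submodule.map_top, LinearMap.range_eq_top.2 e.surjective])).length_eq,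
    length_quot_pi, Finset.sum_const, Finset.card_univ, Fintype.card_fin, nsmul_eq_mul]

omit [Nontrivial A] in
theorem dd_KM_mem_smul (l : List A) (M : Type u) [AddCommGroup M] [Module A M] (q q₁ : ℤ)
    (h : q + 1 = q₁) (x : (KM l M).X q) :
    dd (KM l M) q q₁ x ∈ Ideal.ofList l • (⊤ : Submodule A ((KM l M).X q₁ : Type u)) := by
  let e := tX (Koszul.koszul A l) (ModuleCat.of A M) q₁
  suffices h' : e (dd (KM l M) q q₁ x) ∈ Ideal.ofList l • (⊤ : Submodule A _) by
    have := Submodule.mem_map_of_mem (f := e.symm.toLinearMap) h'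
    rw [Submodule.map_smul'', LinearEquiv.coe_coe, LinearEquiv.symm_apply_apply] at this
    exact Submodule.smul_mono le_rfl le_top this
  rw [tX_d]
  generalize tX (Koszul.koszul A l) (ModuleCat.of A M) q x = t
  induction t using TensorProduct.induction_on with
  | zero => simp
  | add a b ha hb => rw [map_add]; exact add_mem ha hb
  | tmul k m =>
    rw [LinearMap.rTensor_tmul]
    have := Submodule.mem_map_of_mem (f := (TensorProduct.mk A _ M).flip m)
      (LA18.dd_mem_smul l q q₁ h k)
    rw [Submodule.map_smul''] at this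
    exact Submodule.smul_mono le_rfl le_top this

omit [Nontrivial A] in
/-- The filtration pieces are exact in the long run. -/
theorem exists_acyclic_bound [IsNoetherianRing A] (l : List A) (M : Type u) [AddCommGroup M]
    [Module A M] [Module.Finite A M] :
    ∃ n₀ : ℕ, l.length + 2 ≤ n₀ ∧ ∀ n : ℕ, n₀ ≤ n → ∀ p q j : ℤ, p + 1 = q → q + 1 = j →
      ∀ z ∈ Ideal.ofList l ^ ((n : ℤ) + q).toNat • (⊤ : Submodule A ((KM l M).X q : Type u)),
        dd (KM l M) q j z = 0 →
        ∃ w ∈ Ideal.ofList l ^ ((n : ℤ) + p).toNat • (⊤ : Submodule A ((KM l M).X p : Type u)),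
          dd (KM l M) p q w = z := by
  classical
  have hk : ∀ q : ℤ, ∃ k : ℕ, ∀ m ≥ k,
      Ideal.ofList l ^ m • (⊤ : Submodule A ((KM l M).X q : Type u)) ⊓
        LinearMap.ker (dd (KM l M) q (q + 1)) =
      Ideal.ofList l ^ (m - k) • (Ideal.ofList l ^ k • ⊤ ⊓ LinearMap.ker (dd (KM l M) q (q + 1))) :=
    fun q => haveI := finite_KM_X l M q; Ideal.exists_pow_inf_eq_pow_smul _ _
  choose k hk using hk
  refine ⟨(Finset.Icc (-(l.length : ℤ)) 0).sum k + l.length + 2, by omega, ?_⟩
  intro n hn p q j hp hj z hz hdz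
  by_cases hq : q ∈ Finset.Icc (-(l.length : ℤ)) 0
  swap
  · haveI := subsingleton_KM_X l M q (by rw [Finset.mem_Icc] at hq; omega)
    exact ⟨0, zero_mem _, Subsingleton.elim _ _⟩
  obtain rfl : p = q - 1 := by omega
  obtain rfl : j = q + 1 := by omega
  have hkq : k q ≤ (Finset.Icc (-(l.length : ℤ)) 0).sum k :=
    Finset.single_le_sum (f := k) (fun _ _ => Nat.zero_le _) hq
  rw [Finset.mem_Icc] at hq
  set m := ((n : ℤ) + q).toNat with hm
  obtain ⟨m', hm'⟩ : ∃ m', m = m' + 1 := ⟨m - 1, by omega⟩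
  have hle : k q + 1 ≤ m ∨ m ≤ k q := by omega
  have hz' : z ∈ Ideal.ofList l ^ m • (⊤ : Submodule A ((KM l M).X q : Type u)) ⊓
      LinearMap.ker (dd (KM l M) q (q + 1)) := ⟨hz, hdz⟩
  have hmk : k q + 1 ≤ m := by omega
  rw [hk q m (by omega), show m - k q = (m' - k q) + 1 by omega, pow_succ', Submodule.mul_smul,
    ← hk q m' (by omega)] at hz'
  rw [show ((n : ℤ) + (q - 1)).toNat = m' by omega]
  clear hz hdz
  induction hz' using Submodule.smul_induction_on' with
  | smul y hy z' hz' =>
    obtain ⟨h, hh⟩ := nullHtp_tensor (Koszul.koszul A l) (ModuleCat.of A M) (nullHtp_koszul l hy)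
    refine ⟨h (q - 1) q (by omega) z', ?_, ?_⟩
    · have := Submodule.mem_map_of_mem (f := h (q - 1) q (by omega)) hz'.1
      rw [Submodule.map_smul''] at this
      exact Submodule.smul_mono le_rfl le_top this
    · have := hh (q - 1) q (q + 1) (by omega) rfl z'
      rw [show dd (DRing.tensorCx (Koszul.koszul A l) (ModuleCat.of A M)) q (q + 1) z' = 0 from hz'.2,
        map_zero, add_zero] at this
      exact this
  | add a _ b _ ha hb =>
    obtain ⟨w, hw, hwa⟩ := ha
    obtain ⟨w', hw', hwb⟩ := hb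
    exact ⟨w + w', add_mem hw hw', by rw [map_add, hwa, hwb]⟩

theorem chi_eq_factorial_mul_coeff [IsNoetherianRing A] [IsLocalRing A] (l : List A) (M : Type u)
    [AddCommGroup M] [Module A M] [Module.Finite A M] (hl : Good l M) (P : Polynomial ℚ) (N : ℕ)
    (hdeg : P.natDegree ≤ l.length)
    (hP : ∀ n, N ≤ n → (samuel (Ideal.ofList l) M n : ℚ) = P.eval (n : ℚ)) :
    (chi l M : ℚ) = (l.length.factorial : ℚ) * P.coeff l.length := by
  classical
  obtain ⟨n₀, hn₀, hac⟩ := exists_acyclic_bound l M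
  set L := l.length with hL
  let n := n₀ + N + L + 2
  let F : ∀ q, Submodule A ((KM l M).X q : Type u) := fun q =>
    Ideal.ofList l ^ ((n : ℤ) + q).toNat • ⊤
  have hfl : IsFiniteLength A (M ⧸ (Ideal.ofList l • (⊤ : Submodule A M))) := (good_iff l).1 hl
  have hlenT : ∀ q, Module.length A (((KM l M).X q : Type u) ⧸ F q) =
      ((krank l q * samuel (Ideal.ofList l) M ((n : ℤ) + q).toNat : ℕ) : ℕ∞) := fun q => by
    rw [length_quot_KM, samuel_length _ _ hfl]
    push_cast
    rfl
  have h := euler_eq_of_acyclic_piece (KM l M) (-(L : ℤ) - 1) 1 F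
    (fun q q₁ hq x hx => by
      rcases lt_or_ge q₁ (-(L : ℤ)) with h | h
      · haveI := subsingleton_KM_X l M q₁ (Or.inr h)
        rw [Subsingleton.elim (dd (KM l M) q q₁ x) 0]; exact zero_mem _
      rcases lt_or_ge 0 q₁ with h' | h'
      · haveI := subsingleton_KM_X l M q₁ (Or.inl h')
        rw [Subsingleton.elim (dd (KM l M) q q₁ x) 0]; exact zero_mem _
      have h1 := Submodule.mem_map_of_mem (f := dd (KM l M) q q₁) hx
      rw [Submodule.map_smul'', Submodule.map_top] at h1
      have hrange : LinearMap.range (dd (KM l M) q q₁) ≤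
          Ideal.ofList l • (⊤ : Submodule A ((KM l M).X q₁ : Type u)) := by
        rintro _ ⟨y, rfl⟩
        exact dd_KM_mem_smul l M q q₁ hq y
      have h2 := Submodule.smul_mono (le_refl (Ideal.ofList l ^ ((n : ℤ) + q).toNat)) hrange h1
      rw [← Submodule.mul_smul, ← pow_succ] at h2
      show _ ∈ Ideal.ofList l ^ ((n : ℤ) + q₁).toNat • (⊤ : Submodule A _)
      rwa [show ((n : ℤ) + q₁).toNat = ((n : ℤ) + q).toNat + 1 by omega])
    (fun p q j hp hj z hz hdz => hac n (by omega) p q j hp hj z hz hdz)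
    (fun q hq => subsingleton_KM_X l M q (by omega))
    (fun q => by rw [hlenT]; exact ENat.natCast_ne_top _)
  rw [chi_eq_sum l M (-(L : ℤ) - 1) 1 (by omega) (by omega), ← h, Int.cast_sum]
  have hterm : ∀ q ∈ Finset.Icc (-(L : ℤ) - 1) 1,
      ((sgn q * lenZ A (((KM l M).X q : Type u) ⧸ F q) : ℤ) : ℚ) =
        (sgn q : ℚ) * (krank l q : ℚ) * P.eval ((n : ℚ) + q) := fun q hq => by
    rw [Finset.mem_Icc] at hq
    rw [lenZ, hlenT, ENat.toNat_natCast]
    push_cast
    rw [hP _ (by omega), show (((n : ℤ) + q).toNat : ℚ) = (n : ℚ) + q by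
      have h1 : ((((n : ℤ) + q).toNat : ℤ)) = (n : ℤ) + q := Int.toNat_of_nonneg (by omega)
      have h2 : ((((n : ℤ) + q).toNat : ℤ) : ℚ) = (((n : ℤ) + q : ℤ) : ℚ) := by rw [h1]
      push_cast at h2
      exact h2]
    ring
  rw [Finset.sum_congr rfl hterm, sum_krank_eq (fun t => P.eval t) l _ _ (by omega) (by omega)]
  show ((fwdDiff (1 : ℚ))^[L] fun t => P.eval t) _ = _
  rcases eq_or_lt_of_le hdeg with heq | hlt
  · rw [← heq, Polynomial.fwdDiff_iter_degree_eq_factorial, Polynomial.leadingCoeff]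
    simp [mul_comm]
  · rw [Polynomial.fwdDiff_iter_eq_zero_of_degree_lt hlt, Polynomial.coeff_eq_zero_of_natDegree_lt hlt]
    simp

end Groth.Agent.LC17
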