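import Groth.Agent.LC17.CoAss
import Groth.Agent.LC17.GorAnn
import Groth.Agent.LC17.FiniteLengthArtin
import Groth.Agent.LC16.FlatBC
import Groth.Agent.EGA4H10.CMCompletion
import Groth.Agent.InjHull18.Dual
import Groth.Agent.InjHull18.Artinian
import Groth.Agent.S5158

/-!
# Cofiniteness of the top local cohomology module
-/

set_option autoImplicit false

universe u

open IsLocalRing CategoryTheory Groth.Agent.LC15 Groth.Agent.LC16 CanonDual
open scoped TensorProduct

namespace Groth.Agent.LC17.TopCofinite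

theorem le_radical_sup_annihilator {C : Type u} [CommRing C] [IsNoetherianRing C] [IsLocalRing C]
    [IsAdicComplete (maximalIdeal C) C] (I : Ideal C) {n : ℕ} (M : Type u) [AddCommGroup M] [Module C M]
    [Module.Finite C M] (hn : Module.supportDim C M = n) :
    maximalIdeal C ≤ (I ⊔ Module.annihilator C (LocCoh.H I n M)).radical := by
  obtain ⟨E, _, _, f, hf⟩ := InjHull18.exists_hull (R := C) (ResidueField C)
  haveI := LC15.isArtinian_H_top I n M
    (CoAss.coheightLT_of_dim n (CoAss.dim_le_of_mem_support n hn))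
  haveI : Module.Finite C (LocCoh.H I n M →ₗ[C] E) :=
    (InjHull18.duality_artinian (m := maximalIdeal C) (f := f) hf
      (InjHull18.isPowerTorsion_of_isArtinian (R := C))).1
  rw [← GorAnn.annihilator_dual hf, Ideal.radical_eq_sInf]
  refine le_sInf ?_
  rintro Q ⟨hle, hQ⟩
  obtain ⟨q, hq, hqQ⟩ := Ideal.exists_minimalPrimes_le (le_sup_right.trans hle)
  obtain ⟨-, -, -, hr⟩ := CoAss.prop_of_mem_associatedPrimes I n hn
    (Module.associatedPrimes.minimalPrimes_annihilator_subset_associatedPrimes _ _ hq)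
  rw [← hr]
  exact (Ideal.IsPrime.radical_le_iff hQ).2 (sup_le (le_sup_left.trans hle) hqQ)

variable {R : Type u} [CommRing R] [IsNoetherianRing R]

theorem isArtinian_EK (H : Type u) [AddCommGroup H] [Module R H] [IsArtinian R H] :
    ∀ (i : ℕ) (N : Type u) [AddCommGroup N] [Module R N] [Module.Finite R N],
      IsArtinian R (EK (R := R) H N i) := by
  intro i
  induction i with
  | zero =>
    intro N _ _ _
    obtain ⟨k, π, hπ⟩ := Module.Finite.exists_fin' R N
    let g : (N →ₗ[R] H) →ₗ[R] (Fin k → H) :=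
      LinearMap.pi fun j => LinearMap.applyₗ (π (Pi.single j 1))
    have hg : Function.Injective g := fun a b hab => LinearMap.ext fun x => by
      obtain ⟨v, rfl⟩ := hπ x
      have : a ∘ₗ π = b ∘ₗ π := (Pi.basisFun R (Fin k)).ext fun j => by
        simpa [g] using congrFun hab j
      exact LinearMap.congr_fun this v
    exact isArtinian_of_injective (g ∘ₗ (hom0 H N).symm.toLinearMap)
      (hg.comp (hom0 H N).symm.injective)
  | succ i ih =>
    intro N _ _ _
    obtain ⟨k, π, hπ⟩ := Module.Finite.exists_fin' R N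
    haveI : Projective (ModuleCat.of R (Fin k → R)) :=
      (IsProjective.iff_projective (R := R) (Fin k → R)).1 inferInstance
    haveI := ih (LinearMap.ker π)
    exact isArtinian_of_surjective _ _
      (delta_surjective H (LinearMap.ker π).injective_subtype (LinearMap.exact_subtype_ker_map π) hπ i)

theorem smul_EK_eq_zero (I : Ideal R) (H : Type u) [AddCommGroup H] [Module R H] {a : R}
    (ha : a • (LinearMap.id : H →ₗ[R] H) ∈ I • (⊤ : Submodule R (H →ₗ[R] H))) (i : ℕ)
    (x : EK (R := R) H (R ⧸ I) i) : a • x = 0 := by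
  let T : (H →ₗ[R] H) →+ EK (R := R) H (R ⧸ I) i :=
    { toFun := fun φ => x.comp (Abelian.Ext.mk₀ (ModuleCat.ofHom φ)) (add_zero i)
      map_zero' := by
        rw [show ModuleCat.ofHom (0 : H →ₗ[R] H) = 0 from rfl, Abelian.Ext.mk₀_zero, Abelian.Ext.comp_zero]
      map_add' := fun φ ψ => by
        rw [show ModuleCat.ofHom (φ + ψ) = ModuleCat.ofHom φ + ModuleCat.ofHom ψ from rfl,
          Abelian.Ext.mk₀_add, Abelian.Ext.comp_add] }
  have hT : ∀ (r : R) φ, T (r • φ) = r • T φ := fun r φ => by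
    show x.comp (Abelian.Ext.mk₀ (ModuleCat.ofHom (r • φ))) (add_zero i) = _
    rw [show ModuleCat.ofHom (r • φ) = r • ModuleCat.ofHom φ from rfl, Abelian.Ext.mk₀_smul,
      Abelian.Ext.comp_smul]
    rfl
  have hid : T LinearMap.id = x := by
    show x.comp (Abelian.Ext.mk₀ (ModuleCat.ofHom (LinearMap.id : H →ₗ[R] H))) (add_zero i) = x
    rw [show ModuleCat.ofHom (LinearMap.id : H →ₗ[R] H) = 𝟙 _ from rfl, Abelian.Ext.comp_mk₀_id]
  have hI : ∀ b ∈ I, ∀ y : EK (R := R) H (R ⧸ I) i, b • y = 0 := fun b hb y =>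
    Gor18.smul_ext_eq_zero (fun z => InjHull18.smul_quotient_eq_zero hb z) y
  have key : ∀ φ ∈ I • (⊤ : Submodule R (H →ₗ[R] H)), T φ = 0 := fun φ hφ => by
    refine Submodule.smul_induction_on hφ (fun b hb ψ _ => ?_) fun u v hu hv => by
      rw [map_add, hu, hv, add_zero]
    rw [hT]
    exact hI b hb _
  have h := key _ ha
  rwa [hT, hid] at h

variable [IsLocalRing R]

theorem smul_id_mem (I : Ideal R) {n : ℕ} (M : Type u) [AddCommGroup M] [Module R M] [Module.Finite R M]
    (hn : Module.supportDim R M = n) :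
    ∃ k : ℕ, ∀ a ∈ maximalIdeal R ^ k, a • (LinearMap.id : LocCoh.H I n M →ₗ[R] LocCoh.H I n M) ∈
      I • (⊤ : Submodule R (LocCoh.H I n M →ₗ[R] LocCoh.H I n M)) := by
  let C := AdicCompletion (maximalIdeal R) R
  haveI : IsNoetherianRing C := EGA4H10.isNoetherianRing_cpl (A := R)
  haveI : IsAdicComplete (maximalIdeal C) C := Cohen12.isAdicComplete_completion (A := R)
  haveI := LC15.isArtinian_H_top I n M
    (CoAss.coheightLT_of_dim n (CoAss.dim_le_of_mem_support n hn))
  set H := LocCoh.H I n M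
  obtain ⟨e⟩ := FlatBC.exists_equiv C I n M
  have hιb := S5158.result R H (InjHull18.isPowerTorsion_of_isArtinian (R := R))
  let ι : H ≃ₗ[R] C ⊗[R] H := LinearEquiv.ofBijective _ hιb
  let Φ : C →ₗ[R] (H →ₗ[R] H) :=
    { toFun := fun c => ι.symm.toLinearMap ∘ₗ ((DistribSMul.toLinearMap R (C ⊗[R] H) c) ∘ₗ ι.toLinearMap)
      map_add' := fun c d => LinearMap.ext fun h => by
        show ι.symm ((c + d) • ι h) = ι.symm (c • ι h) + ι.symm (d • ι h)
        rw [add_smul, map_add]
      map_smul' := fun r c => LinearMap.ext fun h => by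
        show ι.symm ((r • c) • ι h) = r • ι.symm (c • ι h)
        rw [smul_assoc, map_smul] }
  have hΦ : ∀ (c : C) h, Φ c h = ι.symm (c • ι h) := fun _ _ => rfl
  have hk := le_radical_sup_annihilator (I.map (algebraMap R C)) (C ⊗[R] M) (n := n) (by
    rw [EGA4H10.supportDim_cpl (A := R) M]; exact hn)
  obtain ⟨k, hk⟩ := Ideal.exists_pow_le_of_le_radical_of_fg hk (IsNoetherian.noetherian _)
  refine ⟨k, fun a ha => ?_⟩
  have hmem : algebraMap R C a ∈ maximalIdeal C ^ k := by
    rw [AdicCompletion.maximalIdeal_eq_map, ← Ideal.map_pow]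
    exact Ideal.mem_map_of_mem _ ha
  obtain ⟨i', hi', j, hj, hij⟩ := Submodule.mem_sup.1 (hk hmem)
  have hjk : ∀ h : H, j • ι h = 0 := fun h => e.injective (by
    rw [map_smul, Module.mem_annihilator.1 hj, map_zero])
  have h1 : a • (LinearMap.id : H →ₗ[R] H) = Φ i' := LinearMap.ext fun h => by
    rw [LinearMap.smul_apply, LinearMap.id_apply, hΦ]
    refine ι.injective ?_
    rw [ι.apply_symm_apply, map_smul, ← algebraMap_smul C a (ι h), ← hij, add_smul, hjk, add_zero]
  rw [h1]
  clear hij h1
  induction hi' using Submodule.span_induction with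
  | mem x hx =>
    obtain ⟨b, hb, rfl⟩ := hx
    rw [show algebraMap R C b = b • (1 : C) from Algebra.algebraMap_eq_smul_one b, map_smul]
    exact Submodule.smul_mem_smul hb Submodule.mem_top
  | zero => rw [map_zero]; exact zero_mem _
  | add x y _ _ hx hy =>
    rw [map_add]
    exact add_mem hx hy
  | smul c x hx ih =>
    have h2 : Φ (c • x) = (Φ x).comp (Φ c) := LinearMap.ext fun h => by
      rw [LinearMap.comp_apply, hΦ, hΦ, hΦ, ι.apply_symm_apply, smul_smul, smul_eq_mul, mul_comm]
    rw [h2]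
    refine Submodule.smul_induction_on (p := fun ψ : H →ₗ[R] H => ψ.comp (Φ c) ∈ I • (⊤ : Submodule R _))
      ih (fun b hb ψ _ => ?_) fun u v hu hv => ?_
    · rw [LinearMap.smul_comp]
      exact Submodule.smul_mem_smul hb Submodule.mem_top
    · rw [LinearMap.add_comp]
      exact add_mem hu hv

theorem isFiniteLength_EK (I : Ideal R) {n : ℕ} (M : Type u) [AddCommGroup M] [Module R M] [Module.Finite R M]
    (hn : Module.supportDim R M = n) (i : ℕ) :
    IsFiniteLength R (EK (R := R) (LocCoh.H I n M) (R ⧸ I) i) := by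
  haveI := LC15.isArtinian_H_top I n M
    (CoAss.coheightLT_of_dim n (CoAss.dim_le_of_mem_support n hn))
  haveI := isArtinian_EK (R := R) (LocCoh.H I n M) i (R ⧸ I)
  obtain ⟨k, hk⟩ := smul_id_mem I M hn
  exact isFiniteLength_of_isArtinian_of_pow_smul k _ fun a ha x => smul_EK_eq_zero I _ (hk a ha) i x

end Groth.Agent.LC17.TopCofinite
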